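import Mathlib

namespace Groth.Agent.H8.Jap
open TensorProduct

/-- A separable algebraic field extension is geometrically reduced. -/
theorem isGeometricallyReduced_of_isSeparable (K L : Type*) [Field K] [Field L] [Algebra K L]
    [Algebra.IsSeparable K L] : Algebra.IsGeometricallyReduced K L := by
  apply Algebra.IsGeometricallyReduced.of_forall_fg
  intro B hB
  obtain ⟨s, hs⟩ := hB
  let F : IntermediateField K L := IntermediateField.adjoin K (s : Set L)
  have hBF : B ≤ F.toSubalgebra := by
    rw [← hs]
    exact Algebra.adjoin_le (IntermediateField.subset_adjoin K _)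
  haveI : FiniteDimensional K F := IntermediateField.finiteDimensional_adjoin
    (fun x _ => (Algebra.IsSeparable.isSeparable K x).isIntegral)
  haveI : Algebra.IsSeparable K F := inferInstance
  haveI : Algebra.FormallyUnramified K F := Algebra.FormallyUnramified.of_isSeparable K F
  haveI : Algebra.IsGeometricallyReduced K F := by
    rw [Algebra.isGeometricallyReduced_field_iff]
    exact Algebra.FormallyUnramified.isReduced_of_field (AlgebraicClosure K)
      (AlgebraicClosure K ⊗[K] F)
  exact Algebra.IsGeometricallyReduced.of_injective
    (Subalgebra.inclusion hBF : B →ₐ[K] F.toSubalgebra) (Subalgebra.inclusion_injective hBF)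

end Groth.Agent.H8.Jap
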