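import Mathlib
set_option autoImplicit false
universe u
open Module

namespace Groth.Agent.H8.Jap

section
variable {R : Type u} [CommRing R] [IsDomain R]

local notation "K" => FractionRing R

instance isFractionRing_atPrime (p : Ideal R) [p.IsPrime] :
    IsFractionRing (Localization.AtPrime p) (FractionRing R) :=
  IsFractionRing.isFractionRing_of_isDomain_of_isLocalization p.primeCompl (Localization.AtPrime p)
    (FractionRing R)

/-- localization at a smaller prime of an integrally closed local ring is integrally closed -/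
theorem isIntegrallyClosed_atPrime_of_le {p q : Ideal R} [p.IsPrime] [q.IsPrime] (hqp : q ≤ p)
    (h : IsIntegrallyClosed (Localization.AtPrime p)) : IsIntegrallyClosed (Localization.AtPrime q) := by
  rw [isIntegrallyClosed_iff (FractionRing R)] at h ⊢
  intro x hx
  obtain ⟨⟨t, ht⟩, hy⟩ := hx.exists_multiple_integral_of_isLocalization q.primeCompl _
  have hy' : IsIntegral (Localization.AtPrime p) ((⟨t, ht⟩ : q.primeCompl) • x) := hy.tower_top
  obtain ⟨z, hz⟩ := h hy'
  obtain ⟨b, s, rfl⟩ := IsLocalization.exists_mk'_eq p.primeCompl z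
  have hs : (s : R) ∈ q.primeCompl := fun hsq => s.2 (hqp hsq)
  refine ⟨IsLocalization.mk' _ b (⟨s * t, q.primeCompl.mul_mem hs ht⟩ : q.primeCompl), ?_⟩
  have hsK : algebraMap R K (s : R) ≠ 0 :=
    (map_ne_zero_iff _ (IsFractionRing.injective R K)).mpr (fun h0 => s.2 (h0 ▸ p.zero_mem))
  have htK : algebraMap R K t ≠ 0 :=
    (map_ne_zero_iff _ (IsFractionRing.injective R K)).mpr (fun h0 => ht (h0 ▸ q.zero_mem))
  have e1 : algebraMap (Localization.AtPrime p) K (IsLocalization.mk' _ b s) * algebraMap R K s
      = algebraMap R K b := by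
    rw [IsScalarTower.algebraMap_apply R (Localization.AtPrime p) K, ← map_mul,
      IsLocalization.mk'_spec, ← IsScalarTower.algebraMap_apply]
  have e2 : algebraMap (Localization.AtPrime q) K
      (IsLocalization.mk' _ b (⟨s * t, q.primeCompl.mul_mem hs ht⟩ : q.primeCompl)) *
        algebraMap R K (s * t) = algebraMap R K b := by
    rw [IsScalarTower.algebraMap_apply R (Localization.AtPrime q) K, ← map_mul]
    have := IsLocalization.mk'_spec (Localization.AtPrime q) b
      (⟨s * t, q.primeCompl.mul_mem hs ht⟩ : q.primeCompl)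
    rw [this, ← IsScalarTower.algebraMap_apply]
  rw [Submonoid.smul_def, Algebra.smul_def] at hz
  simp only at hz
  have hst : algebraMap R K (s * t) ≠ 0 := by rw [map_mul]; exact mul_ne_zero hsK htK
  apply mul_right_cancel₀ hst
  rw [e2, ← e1, hz, map_mul]; ring


variable [IsNoetherianRing R]

/-- base step: if `y / f` is integral over `R` and the localizations at the associated primes of
`R / f` inside `p` are integrally closed, then `y / f ∈ R_p`. -/
theorem exists_mul_eq_of_isIntegral_div (f : R) (hf : f ≠ 0) (p : Ideal R) [p.IsPrime]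
    (hyp : ∀ q ∈ associatedPrimes R (R ⧸ Ideal.span {f}), ∀ (_ : q.IsPrime), q ≤ p →
      IsIntegrallyClosed (Localization.AtPrime q))
    (y : R) (hint : IsIntegral R (algebraMap R K y / algebraMap R K f)) :
    ∃ a, a ∉ p ∧ ∃ b, a * y = f * b := by
  by_contra hcon
  push Not at hcon
  set ybar : R ⧸ Ideal.span {f} := Ideal.Quotient.mk _ y with hybar
  set N : Submodule R (R ⧸ Ideal.span {f}) := Submodule.span R {ybar} with hN
  have hann : ∀ a : R, a ∈ Module.annihilator R N ↔ ∃ b, a * y = f * b := by
    intro a
    rw [Module.mem_annihilator]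
    constructor
    · intro h
      have h1 : a • (⟨ybar, Submodule.mem_span_singleton_self _⟩ : N) = 0 := h _
      have h2 : a • ybar = 0 := congrArg Subtype.val h1
      rw [hybar, Algebra.smul_def, Ideal.Quotient.algebraMap_eq, ← map_mul,
        Ideal.Quotient.eq_zero_iff_mem, Ideal.mem_span_singleton'] at h2
      obtain ⟨b, hb⟩ := h2
      exact ⟨b, by rw [← hb]; ring⟩
    · rintro ⟨b, hb⟩ ⟨n, hn⟩
      apply Subtype.ext
      show a • n = 0
      obtain ⟨c, rfl⟩ := Submodule.mem_span_singleton.mp hn
      rw [smul_comm, hybar, Algebra.smul_def a, Ideal.Quotient.algebraMap_eq, ← map_mul, hb]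
      have : Ideal.Quotient.mk (Ideal.span {f}) (f * b) = 0 := by
        rw [Ideal.Quotient.eq_zero_iff_mem]
        exact Ideal.mul_mem_right _ _ (Ideal.subset_span rfl)
      rw [this, smul_zero]
  have hle : Module.annihilator R N ≤ p := by
    intro a ha
    by_contra hap
    obtain ⟨b, hb⟩ := (hann a).mp ha
    exact hcon a hap b hb
  obtain ⟨q, hq, hqp⟩ := Ideal.exists_minimalPrimes_le hle
  haveI : Module.Finite R N := Module.Finite.span_singleton R ybar
  have hqass : q ∈ associatedPrimes R N := Module.associatedPrimes.minimalPrimes_annihilator_subset_associatedPrimes R N hq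
  have hqass' : q ∈ associatedPrimes R (R ⧸ Ideal.span {f}) :=
    associatedPrimes.subset_of_injective (f := N.subtype) N.subtype_injective hqass
  haveI hqprime : q.IsPrime := hq.1.1
  have hIC := hyp q hqass' hqprime hqp
  rw [isIntegrallyClosed_iff (FractionRing R)] at hIC
  obtain ⟨z, hz⟩ := hIC (hint.tower_top (A := Localization.AtPrime q))
  obtain ⟨b, a, rfl⟩ := IsLocalization.exists_mk'_eq q.primeCompl z
  have hfK : algebraMap R K f ≠ 0 := (map_ne_zero_iff _ (IsFractionRing.injective R K)).mpr hf
  have e1 : algebraMap (Localization.AtPrime q) K (IsLocalization.mk' _ b a) * algebraMap R K a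
      = algebraMap R K b := by
    rw [IsScalarTower.algebraMap_apply R (Localization.AtPrime q) K, ← map_mul,
      IsLocalization.mk'_spec, ← IsScalarTower.algebraMap_apply]
  rw [hz] at e1
  have e2 : (a : R) * y = f * b := by
    apply IsFractionRing.injective R K
    rw [map_mul, map_mul, ← e1]
    field_simp
  exact a.2 (hq.1.2 ((hann a).mpr ⟨b, e2⟩))

/-- inductive version -/
theorem exists_mul_eq_of_isIntegral_div_pow (f : R) (hf : f ≠ 0) (p : Ideal R) [p.IsPrime]
    (hyp : ∀ q ∈ associatedPrimes R (R ⧸ Ideal.span {f}), ∀ (_ : q.IsPrime), q ≤ p →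
      IsIntegrallyClosed (Localization.AtPrime q)) :
    ∀ (n : ℕ) (y : R), IsIntegral R (algebraMap R K y / algebraMap R K f ^ n) →
      ∃ a, a ∉ p ∧ ∃ b, a * y = f ^ n * b := by
  have hfK : algebraMap R K f ≠ 0 := (map_ne_zero_iff _ (IsFractionRing.injective R K)).mpr hf
  intro n
  induction n with
  | zero =>
    intro y _
    exact ⟨1, fun h => (Ideal.ne_top_iff_one p).mp (Ideal.IsPrime.ne_top inferInstance) h, y, by ring⟩
  | succ n ih =>
    intro y hy
    have h1 : IsIntegral R (algebraMap R K y / algebraMap R K f) := by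
      have : algebraMap R K y / algebraMap R K f =
          algebraMap R K (f ^ n) * (algebraMap R K y / algebraMap R K f ^ (n + 1)) := by
        rw [map_pow]; field_simp; ring
      rw [this]
      exact IsIntegral.mul isIntegral_algebraMap hy
    obtain ⟨a, hap, b, hab⟩ := exists_mul_eq_of_isIntegral_div f hf p hyp y h1
    have h2 : IsIntegral R (algebraMap R K b / algebraMap R K f ^ n) := by
      have : algebraMap R K b / algebraMap R K f ^ n =
          algebraMap R K a * (algebraMap R K y / algebraMap R K f ^ (n + 1)) := by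
        have h3 : algebraMap R K a * algebraMap R K y = algebraMap R K f * algebraMap R K b := by
          rw [← map_mul, ← map_mul, hab]
        field_simp
        calc algebraMap R K b * algebraMap R K f ^ (n + 1)
            = algebraMap R K f ^ n * (algebraMap R K f * algebraMap R K b) := by ring
          _ = algebraMap R K f ^ n * algebraMap R K a * algebraMap R K y := by rw [← h3]; ring
      rw [this]
      exact IsIntegral.mul isIntegral_algebraMap hy
    obtain ⟨a', ha'p, b', ha'b⟩ := ih b h2
    refine ⟨a' * a, fun h => (Ideal.IsPrime.mem_or_mem inferInstance h).elim ha'p hap, b', ?_⟩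
    calc a' * a * y = a' * (a * y) := by ring
      _ = a' * (f * b) := by rw [hab]
      _ = f * (a' * b) := by ring
      _ = f * (f ^ n * b') := by rw [ha'b]
      _ = f ^ (n + 1) * b' := by ring


/-- If `R_f` is integrally closed and the localizations of `R` at the associated primes of `R / f`
inside `p` are integrally closed, then `R_p` is integrally closed. -/
theorem isIntegrallyClosed_atPrime_of_assoc (f : R) (hf : f ≠ 0)
    (hn : IsIntegrallyClosed (Localization.Away f)) (p : Ideal R) [p.IsPrime]
    (hyp : ∀ q ∈ associatedPrimes R (R ⧸ Ideal.span {f}), ∀ (_ : q.IsPrime), q ≤ p →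
      IsIntegrallyClosed (Localization.AtPrime q)) :
    IsIntegrallyClosed (Localization.AtPrime p) := by
  have hle : Submonoid.powers f ≤ nonZeroDivisors R := powers_le_nonZeroDivisors_of_noZeroDivisors hf
  letI : Algebra (Localization.Away f) K :=
    IsLocalization.localizationAlgebraOfSubmonoidLe _ _ (Submonoid.powers f) (nonZeroDivisors R) hle
  haveI : IsScalarTower R (Localization.Away f) K :=
    IsLocalization.localization_isScalarTower_of_submonoid_le _ _ (Submonoid.powers f) (nonZeroDivisors R) hle
  haveI : IsDomain (Localization.Away f) := IsLocalization.isDomain_localization hle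
  haveI : IsFractionRing (Localization.Away f) K :=
    IsFractionRing.isFractionRing_of_isDomain_of_isLocalization (Submonoid.powers f) _ _
  have hfK : algebraMap R K f ≠ 0 := (map_ne_zero_iff _ (IsFractionRing.injective R K)).mpr hf
  rw [isIntegrallyClosed_iff (FractionRing R)]
  intro x hx
  obtain ⟨⟨t, ht⟩, hy⟩ := hx.exists_multiple_integral_of_isLocalization p.primeCompl _
  rw [Submonoid.smul_def, Algebra.smul_def] at hy
  simp only at hy
  obtain ⟨z, hz⟩ := (isIntegrallyClosed_iff (FractionRing R)).mp hn (hy.tower_top (A := Localization.Away f))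
  obtain ⟨y, ⟨_, n, rfl⟩, rfl⟩ := IsLocalization.exists_mk'_eq (Submonoid.powers f) z
  have e1 : algebraMap (Localization.Away f) K (IsLocalization.mk' _ y (⟨f ^ n, n, rfl⟩ : Submonoid.powers f))
      * algebraMap R K (f ^ n) = algebraMap R K y := by
    rw [IsScalarTower.algebraMap_apply R (Localization.Away f) K, ← map_mul]
    have := IsLocalization.mk'_spec (Localization.Away f) y (⟨f ^ n, n, rfl⟩ : Submonoid.powers f)
    rw [this, ← IsScalarTower.algebraMap_apply]
  rw [hz, map_pow] at e1
  have hint : IsIntegral R (algebraMap R K y / algebraMap R K f ^ n) := by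
    have : algebraMap R K y / algebraMap R K f ^ n = algebraMap R K t * x := by
      rw [← e1]; field_simp
    rw [this]; exact hy
  obtain ⟨a, hap, b, hab⟩ := exists_mul_eq_of_isIntegral_div_pow f hf p hyp n y hint
  have hat : a * t ∈ p.primeCompl := p.primeCompl.mul_mem hap ht
  refine ⟨IsLocalization.mk' _ b (⟨a * t, hat⟩ : p.primeCompl), ?_⟩
  have htK : algebraMap R K t ≠ 0 :=
    (map_ne_zero_iff _ (IsFractionRing.injective R K)).mpr (fun h0 => ht (h0 ▸ p.zero_mem))
  have haK : algebraMap R K a ≠ 0 :=
    (map_ne_zero_iff _ (IsFractionRing.injective R K)).mpr (fun h0 => hap (h0 ▸ p.zero_mem))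
  have e2 : algebraMap (Localization.AtPrime p) K
      (IsLocalization.mk' _ b (⟨a * t, hat⟩ : p.primeCompl)) * algebraMap R K (a * t) = algebraMap R K b := by
    rw [IsScalarTower.algebraMap_apply R (Localization.AtPrime p) K, ← map_mul]
    have := IsLocalization.mk'_spec (Localization.AtPrime p) b (⟨a * t, hat⟩ : p.primeCompl)
    rw [this, ← IsScalarTower.algebraMap_apply]
  have hatK : algebraMap R K (a * t) ≠ 0 := by rw [map_mul]; exact mul_ne_zero haK htK
  apply mul_right_cancel₀ hatK
  rw [e2, map_mul]
  have h3 : algebraMap R K a * algebraMap R K y = algebraMap R K f ^ n * algebraMap R K b := by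
    rw [← map_pow, ← map_mul, ← map_mul, hab]
  have hfn : algebraMap R K f ^ n ≠ 0 := pow_ne_zero _ hfK
  apply mul_left_cancel₀ hfn
  rw [← h3, ← e1]; ring

/-- **Openness of the normal locus** of a Noetherian domain with `R_f` normal. -/
theorem isOpen_normalLocus (f : R) (hf : f ≠ 0) (hn : IsIntegrallyClosed (Localization.Away f)) :
    IsOpen {p : PrimeSpectrum R | IsIntegrallyClosed (Localization.AtPrime p.asIdeal)} := by
  classical
  set Ass := associatedPrimes R (R ⧸ Ideal.span {f}) with hAss
  have hfin : Ass.Finite := associatedPrimes.finite R _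
  set Bad : Set (Ideal R) := {q | q ∈ Ass ∧ ∀ h : q.IsPrime,
    ¬ @IsIntegrallyClosed (@Localization.AtPrime R _ q h) _} with hBad
  have hBfin : Bad.Finite := hfin.subset (fun q hq => hq.1)
  have hcl : IsClosed (⋃ q ∈ Bad, PrimeSpectrum.zeroLocus (q : Set R)) :=
    hBfin.isClosed_biUnion (fun q _ => PrimeSpectrum.isClosed_zeroLocus _)
  convert hcl.isOpen_compl using 1
  ext p
  simp only [Set.mem_ofPred_eq, Set.mem_compl_iff, Set.mem_iUnion, PrimeSpectrum.mem_zeroLocus,
    SetLike.coe_subset_coe, not_exists]
  constructor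
  · intro hIC q hq hqp
    haveI : q.IsPrime := hq.1.isPrime
    exact hq.2 inferInstance (isIntegrallyClosed_atPrime_of_le hqp hIC)
  · intro h
    refine isIntegrallyClosed_atPrime_of_assoc f hf hn p.asIdeal (fun q hq hqprime hqp => ?_)
    by_contra hnot
    exact h q ⟨hq, fun _ => hnot⟩ hqp

end

end Groth.Agent.H8.Jap
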