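import Mathlib
set_option autoImplicit false
universe u
open Module PowerSeries

namespace Groth.Agent.H8.Jap

section
variable (R : Type u) [CommRing R] [IsDomain R]

local notation "K" => FractionRing R

theorem ps_algebraMap_apply (f : R⟦X⟧) :
    algebraMap R⟦X⟧ K⟦X⟧ f = PowerSeries.map (algebraMap R K) f := rfl

theorem ps_algebraMap_injective : Function.Injective (algebraMap R⟦X⟧ K⟦X⟧) := by
  intro f g hfg
  ext n
  have := congrArg (coeff n) hfg
  rw [ps_algebraMap_apply, ps_algebraMap_apply, coeff_map, coeff_map] at this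
  exact IsFractionRing.injective R K this

/-- a power series over `K` with all coefficients in `R` comes from `R⟦X⟧` -/
theorem mem_range_of_coeff (w : K⟦X⟧) (h : ∀ n, coeff n w ∈ (algebraMap R K).range) :
    w ∈ (algebraMap R⟦X⟧ K⟦X⟧).range := by
  choose c hc using h
  refine ⟨PowerSeries.mk c, ?_⟩
  ext n
  rw [ps_algebraMap_apply, coeff_map, coeff_mk, hc]

theorem coeff_mem_of_mem_range (w : K⟦X⟧) (h : w ∈ (algebraMap R⟦X⟧ K⟦X⟧).range) (n : ℕ) :
    coeff n w ∈ (algebraMap R K).range := by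
  obtain ⟨v, rfl⟩ := h
  exact ⟨coeff n v, by rw [ps_algebraMap_apply, coeff_map]⟩

variable [IsNoetherianRing R] [IsIntegrallyClosed R]

/-- constant coefficient of an almost integral power series lies in `R` -/
theorem constantCoeff_mem_of_isAlmostIntegral (u : K⟦X⟧) (hu : IsAlmostIntegral R⟦X⟧ u) :
    constantCoeff u ∈ (algebraMap R K).range := by
  obtain ⟨d, hd, hdu⟩ := hu
  have hd0 : d ≠ 0 := nonZeroDivisors.ne_zero hd
  set δ := d.order.toNat with hδ
  have hdδ : coeff δ d ≠ 0 := coeff_order hd0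
  have key : ∀ n, algebraMap R K (coeff δ d) * (constantCoeff u) ^ n ∈ (algebraMap R K).range := by
    intro n
    have h1 := coeff_mem_of_mem_range R _ (hdu n) δ
    rw [Algebra.smul_def, ps_algebraMap_apply, coeff_mul] at h1
    rw [Finset.sum_eq_single (δ, 0)] at h1
    · rwa [coeff_map, coeff_zero_eq_constantCoeff_apply, map_pow] at h1
    · rintro ⟨i, j⟩ hij hne
      have hij' : i + j = δ := Finset.HasAntidiagonal.mem_antidiagonal.mp hij
      have hi : i < δ := by
        rcases Nat.eq_zero_or_pos j with hj | hj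
        · exfalso; apply hne; subst hj; simp at hij'; subst hij'; rfl
        · omega
      rw [coeff_map, coeff_of_lt_order_toNat i hi, map_zero, zero_mul]
    · intro h; exact absurd (Finset.HasAntidiagonal.mem_antidiagonal.mpr (by simp)) h
  have hai : IsAlmostIntegral R (constantCoeff u : K) := by
    refine ⟨coeff δ d, mem_nonZeroDivisors_of_ne_zero hdδ, fun n => ?_⟩
    rw [Algebra.smul_def]
    exact key n
  exact IsIntegrallyClosed.isIntegral_iff.mp hai.isIntegral

omit [IsNoetherianRing R] [IsIntegrallyClosed R] in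
/-- almost integrality passes to `g'` from `X ^ m * g'` -/
theorem isAlmostIntegral_of_X_pow_mul (m : ℕ) (g : K⟦X⟧)
    (h : IsAlmostIntegral R⟦X⟧ ((X : K⟦X⟧) ^ m * g)) : IsAlmostIntegral R⟦X⟧ g := by
  obtain ⟨d, hd, hdg⟩ := h
  refine ⟨d, hd, fun n => ?_⟩
  apply mem_range_of_coeff
  intro k
  have h1 := coeff_mem_of_mem_range R _ (hdg n) (k + m * n)
  have e : d • ((X : K⟦X⟧) ^ m * g) ^ n = (X : K⟦X⟧) ^ (m * n) * (d • g ^ n) := by
    rw [mul_pow, ← pow_mul, Algebra.smul_def, Algebra.smul_def]; ring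
  rwa [e, coeff_X_pow_mul] at h1

/-- all coefficients of an almost integral power series lie in `R` -/
theorem coeff_mem_of_isAlmostIntegral (g : K⟦X⟧) (hg : IsAlmostIntegral R⟦X⟧ g) (m : ℕ) :
    coeff m g ∈ (algebraMap R K).range := by
  induction m using Nat.strong_induction_on with
  | _ m ih =>
    -- the truncation
    let h : K⟦X⟧ := PowerSeries.mk (fun i => if i < m then coeff i g else 0)
    have hh : h ∈ (algebraMap R⟦X⟧ K⟦X⟧).range := by
      apply mem_range_of_coeff
      intro i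
      rw [coeff_mk]
      split_ifs with hi
      · exact ih i hi
      · exact ⟨0, map_zero _⟩
    let g' : K⟦X⟧ := PowerSeries.mk (fun k => coeff (k + m) g)
    have e : g - h = (X : K⟦X⟧) ^ m * g' := by
      ext i
      rw [map_sub, coeff_mk]
      by_cases hi : i < m
      · rw [if_pos hi, sub_self, coeff_X_pow_mul', if_neg (not_le.mpr hi)]
      · rw [if_neg hi, sub_zero, coeff_X_pow_mul', if_pos (not_lt.mp hi), coeff_mk,
          Nat.sub_add_cancel (not_lt.mp hi)]
    have hai : IsAlmostIntegral R⟦X⟧ (g - h) := by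
      obtain ⟨h0, hh0⟩ := hh
      rw [← hh0]
      exact (completeIntegralClosure R⟦X⟧ K⟦X⟧).sub_mem hg
        ((completeIntegralClosure R⟦X⟧ K⟦X⟧).algebraMap_mem h0)
    rw [e] at hai
    have := constantCoeff_mem_of_isAlmostIntegral R g' (isAlmostIntegral_of_X_pow_mul R m g' hai)
    rwa [← coeff_zero_eq_constantCoeff_apply, coeff_mk, zero_add] at this

instance powerSeries_isIntegrallyClosed : IsIntegrallyClosed R⟦X⟧ := by
  let F := FractionRing R⟦X⟧
  let F' := FractionRing K⟦X⟧
  rw [isIntegrallyClosed_iff F]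
  intro x hx
  have hinj : Function.Injective ((algebraMap K⟦X⟧ F').comp (algebraMap R⟦X⟧ K⟦X⟧)) :=
    (IsFractionRing.injective K⟦X⟧ F').comp (ps_algebraMap_injective R)
  let ψ : F →+* F' := IsFractionRing.lift hinj
  have hψ : ∀ a : R⟦X⟧, ψ (algebraMap R⟦X⟧ F a) = algebraMap K⟦X⟧ F' (algebraMap R⟦X⟧ K⟦X⟧ a) :=
    fun a => IsFractionRing.lift_algebraMap hinj a
  have hψx : IsIntegral K⟦X⟧ (ψ x) := by
    refine IsIntegral.map_of_comp_eq (algebraMap R⟦X⟧ K⟦X⟧) ψ ?_ hx
    ext a
    exact (hψ a).symm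
  obtain ⟨g, hg⟩ := (isIntegrallyClosed_iff F').mp inferInstance hψx
  -- g is almost integral over R⟦X⟧
  have hgai : IsAlmostIntegral R⟦X⟧ g := by
    obtain ⟨d, hd, hdx⟩ := hx.isAlmostIntegral
    refine ⟨d, hd, fun n => ?_⟩
    obtain ⟨c, hc⟩ := hdx n
    refine ⟨c, ?_⟩
    apply IsFractionRing.injective K⟦X⟧ F'
    rw [← hψ, hc, Algebra.smul_def, Algebra.smul_def, map_mul, map_mul, map_pow, map_pow, hψ, hg]
  obtain ⟨g0, hg0⟩ := mem_range_of_coeff R g (coeff_mem_of_isAlmostIntegral R g hgai)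
  refine ⟨g0, ?_⟩
  apply ψ.injective
  rw [hψ, hg0, hg]

theorem mvPowerSeries_fin_isIntegrallyClosed (n : ℕ) :
    IsIntegrallyClosed (MvPowerSeries (Fin n) R) := by
  induction n with
  | zero =>
    exact IsIntegrallyClosed.of_equiv (MvPowerSeries.isEmptyEquiv (σ := Fin 0) (R := R)).symm.toRingEquiv
  | succ n ih =>
    haveI := ih
    haveI : IsDomain (MvPowerSeries (Fin n) R) := NoZeroDivisors.to_isDomain _
    haveI : IsNoetherianRing (MvPowerSeries (Fin n) R) := inferInstance
    haveI : IsIntegrallyClosed (PowerSeries (MvPowerSeries (Fin n) R)) :=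
      powerSeries_isIntegrallyClosed (MvPowerSeries (Fin n) R)
    exact IsIntegrallyClosed.of_equiv (MvPowerSeries.finSuccEquiv R n).symm.toRingEquiv

end

end Groth.Agent.H8.Jap
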