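import Mathlib
set_option autoImplicit false
universe u
open Module

namespace Groth.Agent.H8.Jap

/-- Finiteness of the integral closure passes to subextensions. -/
theorem finite_integralClosure_of_tower_top (R L M : Type*) [CommRing R] [IsNoetherianRing R]
    [Field L] [CommRing M] [Nontrivial M] [Algebra R L] [Algebra R M] [Algebra L M] [IsScalarTower R L M]
    (h : Module.Finite R (integralClosure R M)) : Module.Finite R (integralClosure R L) := by
  haveI : IsNoetherian R (integralClosure R M) := isNoetherian_of_isNoetherianRing_of_finite R _
  let f : integralClosure R L →ₗ[R] integralClosure R M :=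
    LinearMap.codRestrict (Subalgebra.toSubmodule (integralClosure R M))
      ((IsScalarTower.toAlgHom R L M).toLinearMap.comp (integralClosure R L).val.toLinearMap)
      (fun x => IsIntegral.map (IsScalarTower.toAlgHom R L M) x.2)
  refine Module.Finite.of_injective f ?_
  intro x y hxy
  have : algebraMap L M x.1 = algebraMap L M y.1 := congrArg Subtype.val hxy
  exact Subtype.ext ((algebraMap L M).injective this)

/-- If the integral closure of `R` in `P` is finite and `N/P` is finite separable, then the
integral closure of `R` in `N` is finite. -/
theorem finite_integralClosure_of_separable (R K P N : Type*) [CommRing R] [IsDomain R]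
    [IsNoetherianRing R] [Field K] [Algebra R K] [IsFractionRing R K] [Field P] [Algebra R P]
    [Algebra K P] [IsScalarTower R K P] [FiniteDimensional K P] [Field N] [Algebra R N] [Algebra P N]
    [IsScalarTower R P N] [FiniteDimensional P N] [Algebra.IsSeparable P N]
    (h : Module.Finite R (integralClosure R P)) : Module.Finite R (integralClosure R N) := by
  set B := integralClosure R P with hB
  haveI : IsNoetherianRing B := IsNoetherianRing.of_finite R B
  haveI : IsIntegrallyClosed B := integralClosure.isIntegrallyClosedOfFiniteExtension K
  haveI : IsFractionRing B P := integralClosure.isFractionRing_of_finite_extension K P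
  haveI : IsScalarTower B P N := inferInstance
  haveI : IsScalarTower R B N := inferInstance
  haveI hfin : Module.Finite B (integralClosure B N) :=
    IsIntegralClosure.finite B P N (integralClosure B N)
  haveI : Module.Finite R (integralClosure B N) := Module.Finite.trans B _
  haveI : IsNoetherian R (integralClosure B N) := isNoetherian_of_isNoetherianRing_of_finite R _
  haveI : Algebra.IsIntegral R B := inferInstance
  let f : integralClosure R N →ₗ[R] integralClosure B N :=
    { toFun := fun x => ⟨x.1, x.2.tower_top⟩
      map_add' := fun x y => rfl
      map_smul' := fun r x => rfl }
  refine Module.Finite.of_injective f ?_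
  intro x y hxy
  have : (f x).1 = (f y).1 := congrArg Subtype.val hxy
  exact Subtype.ext this

end Groth.Agent.H8.Jap
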