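import Mathlib
import Groth.Prelude.Def_Found
import Groth.Agent.Lib.Helper8.Japanese.Basic
set_option autoImplicit false
universe u
open Module

namespace Groth.Agent.H8.Jap

attribute [local instance] FractionRing.liftAlgebra

/-- Going up: a finite extension domain of a Noetherian N-2 domain is N-2. -/
theorem isN2_of_finite_injective (R S : Type u) [CommRing R] [IsDomain R]
    [CommRing S] [IsDomain S] [Algebra R S] [Module.Finite R S]
    (hinj : Function.Injective (algebraMap R S)) (h : CAlg.IsN2 R) : CAlg.IsN2 S := by
  intro L _ _ _ _ hfin
  haveI := hfin
  haveI : FaithfulSMul R S := (faithfulSMul_iff_algebraMap_injective R S).mpr hinj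
  letI : Algebra R L := ((algebraMap S L).comp (algebraMap R S)).toAlgebra
  haveI : IsScalarTower R S L := IsScalarTower.of_algebraMap_eq (fun r => rfl)
  haveI : FaithfulSMul S L := by
    rw [faithfulSMul_iff_algebraMap_injective, IsScalarTower.algebraMap_eq S (FractionRing S) L]
    exact (algebraMap (FractionRing S) L).injective.comp (IsFractionRing.injective S _)
  haveI : FaithfulSMul R L := by
    rw [faithfulSMul_iff_algebraMap_injective, IsScalarTower.algebraMap_eq R S L]
    exact (FaithfulSMul.algebraMap_injective S L).comp hinj
  haveI : IsScalarTower R (FractionRing S) L := IsScalarTower.of_algebraMap_eq (fun r => by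
    rw [IsScalarTower.algebraMap_apply R S (FractionRing S), ← IsScalarTower.algebraMap_apply S,
      ← IsScalarTower.algebraMap_apply])
  haveI : Algebra.IsAlgebraic R S := Algebra.IsIntegral.isAlgebraic
  haveI : Module.Finite (FractionRing R) (FractionRing S) :=
    Module.Finite.of_isLocalization R S (nonZeroDivisors R)
  haveI : FiniteDimensional (FractionRing R) L := Module.Finite.trans (FractionRing S) L
  have h1 : Module.Finite R (integralClosure R L) := h L inferInstance
  let f : integralClosure R L →ₗ[R] integralClosure S L :=
    { toFun := fun x => ⟨x.1, x.2.tower_top⟩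
      map_add' := fun x y => rfl
      map_smul' := fun r x => by
        apply Subtype.ext
        show r • (x : L) = (r • (⟨x.1, x.2.tower_top⟩ : integralClosure S L) : integralClosure S L).1
        rw [← algebraMap_smul S r (⟨x.1, x.2.tower_top⟩ : integralClosure S L)]
        show _ = algebraMap R S r • (x : L)
        rw [algebraMap_smul] }
  have hf : Function.Surjective f := by
    rintro ⟨x, hx⟩
    exact ⟨⟨x, isIntegral_trans x hx⟩, rfl⟩
  haveI : Module.Finite R (integralClosure S L) := Module.Finite.of_surjective f hf
  exact Module.Finite.of_restrictScalars_finite R S _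

/-- Going down: if a finite extension domain `S` of a Noetherian domain `R` is N-2, so is `R`. -/
theorem isN2_of_finite_extension (R S : Type u) [CommRing R] [IsDomain R] [IsNoetherianRing R]
    [CommRing S] [IsDomain S] [Algebra R S] [Module.Finite R S]
    (hinj : Function.Injective (algebraMap R S)) (h : CAlg.IsN2 S) : CAlg.IsN2 R := by
  intro L _ _ _ _ hfin
  haveI := hfin
  haveI : FaithfulSMul R S := (faithfulSMul_iff_algebraMap_injective R S).mpr hinj
  haveI : Algebra.IsAlgebraic R S := Algebra.IsIntegral.isAlgebraic
  haveI : Module.Finite (FractionRing R) (FractionRing S) :=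
    Module.Finite.of_isLocalization R S (nonZeroDivisors R)
  let K := FractionRing R
  let K' := FractionRing S
  let Om := AlgebraicClosure K'
  haveI : Algebra.IsAlgebraic K K' := Algebra.IsAlgebraic.of_finite K K'
  haveI : Algebra.IsAlgebraic K Om := Algebra.IsAlgebraic.trans K K' Om
  haveI : Algebra.IsAlgebraic K L := Algebra.IsAlgebraic.of_finite K L
  let σ : L →ₐ[K] Om := IsAlgClosed.lift
  obtain ⟨B, hB⟩ := Module.Finite.fg_top (R := K) (M := L)
  let M : IntermediateField K' Om := IntermediateField.adjoin K' ((σ '' (B : Set L)) : Set Om)
  haveI : Finite (σ '' (B : Set L)) := Set.Finite.image _ B.finite_toSet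
  haveI : FiniteDimensional K' M := IntermediateField.finiteDimensional_adjoin
    (fun x _ => (Algebra.IsAlgebraic.isAlgebraic (R := K') x).isIntegral)
  have hσM : ∀ x : L, σ x ∈ M := by
    intro x
    have hx : x ∈ Submodule.span K (B : Set L) := hB ▸ Submodule.mem_top
    induction hx using Submodule.span_induction with
    | mem y hy => exact IntermediateField.subset_adjoin K' _ ⟨y, hy, rfl⟩
    | zero => rw [map_zero]; exact zero_mem _
    | add y z _ _ hy hz => rw [map_add]; exact add_mem hy hz
    | smul a y _ hy =>
      rw [map_smul, Algebra.smul_def, IsScalarTower.algebraMap_apply K K' Om]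
      exact mul_mem (M.algebraMap_mem _) hy
  letI : Algebra L M := (σ.toRingHom.codRestrict M.toSubfield.toSubring hσM).toAlgebra
  haveI : IsScalarTower S K' M := IsScalarTower.of_algebraMap_eq (fun r => rfl)
  have h1 : Module.Finite S (integralClosure S M) := h M inferInstance
  haveI : IsScalarTower R L M := IsScalarTower.of_algebraMap_eq (fun r => by
    apply Subtype.ext
    show algebraMap R Om r = σ (algebraMap R L r)
    rw [IsScalarTower.algebraMap_apply R K L, σ.commutes, ← IsScalarTower.algebraMap_apply])
  haveI : IsScalarTower R S M := IsScalarTower.of_algebraMap_eq (fun r => by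
    apply Subtype.ext
    show algebraMap R Om r = algebraMap S Om (algebraMap R S r)
    rw [← IsScalarTower.algebraMap_apply])
  haveI : Module.Finite R (integralClosure S M) := Module.Finite.trans S _
  haveI : IsNoetherian R (integralClosure S M) := isNoetherian_of_isNoetherianRing_of_finite R _
  have h2 : Module.Finite R (integralClosure R M) := by
    let f : integralClosure R M →ₗ[R] integralClosure S M :=
      { toFun := fun x => ⟨x.1, x.2.tower_top⟩
        map_add' := fun x y => rfl
        map_smul' := fun r x => by
          apply Subtype.ext
          show r • (x : M) = (r • (⟨x.1, x.2.tower_top⟩ : integralClosure S M) : integralClosure S M).1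
          rw [← algebraMap_smul S r (⟨x.1, x.2.tower_top⟩ : integralClosure S M)]
          show _ = algebraMap R S r • (x : M)
          rw [algebraMap_smul] }
    refine Module.Finite.of_injective f ?_
    intro x y hxy
    have : (f x).1 = (f y).1 := congrArg Subtype.val hxy
    exact Subtype.ext this
  exact finite_integralClosure_of_tower_top R L M h2

/-- N-2 is invariant under ring isomorphisms. -/
theorem isN2_of_ringEquiv {R S : Type u} [CommRing R] [IsDomain R]
    [CommRing S] [IsDomain S] (e : R ≃+* S) (h : CAlg.IsN2 R) : CAlg.IsN2 S := by
  letI : Algebra R S := e.toRingHom.toAlgebra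
  haveI : Module.Finite R S := Module.Finite.of_surjective (Algebra.linearMap R S) e.surjective
  exact isN2_of_finite_injective R S e.injective h

end Groth.Agent.H8.Jap
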