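import Mathlib
set_option autoImplicit false
universe u
open IntermediateField Module

namespace Groth.Agent.H8.Jap

/-- A finite normal extension `N/K` is separable over the fixed field of its automorphism group,
which is purely inseparable over `K`. -/
theorem exists_purelyInseparable_separable (K N : Type u) [Field K] [Field N] [Algebra K N]
    [FiniteDimensional K N] [Normal K N] :
    ∃ F : IntermediateField K N, IsPurelyInseparable K F ∧ Algebra.IsSeparable F N := by
  classical
  let H : Subgroup (N ≃ₐ[K] N) := ⊤
  let F : IntermediateField K N := fixedField H
  haveI hgal : IsGalois F N := IsGalois.of_fixed_field N H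
  refine ⟨F, ?_, inferInstance⟩
  apply isPurelyInseparable_of_finSepDegree_eq_one
  have h1 := Field.finSepDegree_mul_finSepDegree_of_isAlgebraic K F N
  have h2 : Field.finSepDegree F N = Nat.card H := by
    rw [Field.finSepDegree_eq_finrank_of_isSeparable]
    exact finrank_fixedField_eq_card H
  have h3 : Field.finSepDegree K N = Nat.card H := by
    unfold Field.finSepDegree Field.Emb
    rw [Nat.card_congr (Normal.algHomEquivAut K (AlgebraicClosure N) N)]
    exact (Nat.card_congr Subgroup.topEquiv.toEquiv).symm
  rw [h2, h3] at h1
  have hpos : 0 < Nat.card H := Nat.card_pos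
  exact Nat.eq_of_mul_eq_mul_right hpos (by rw [h1, one_mul])

end Groth.Agent.H8.Jap
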