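import Mathlib
import Groth.Prelude.Def_Found
import Groth.Agent.Lib.Helper8.Japanese.Galois
import Groth.Agent.Lib.Helper8.Japanese.Basic
set_option autoImplicit false
universe u
open IntermediateField Module

namespace Groth.Agent.H8.Jap

theorem isN2_of_purelyInseparable (A : Type u) [CommRing A] [IsDomain A]
    [IsNoetherianRing A]
    (h : ∀ (K' : Type u) [Field K'] [Algebra A K'] [Algebra (FractionRing A) K']
      [IsScalarTower A (FractionRing A) K'], FiniteDimensional (FractionRing A) K' →
      IsPurelyInseparable (FractionRing A) K' → Module.Finite A (integralClosure A K')) :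
    CAlg.IsN2 A := by
  intro L _ _ _ _ hfin
  let K := FractionRing A
  let Ω := AlgebraicClosure L
  let N : IntermediateField K Ω := normalClosure K L Ω
  haveI : FiniteDimensional K N := inferInstance
  haveI : Normal K N := inferInstance
  obtain ⟨F, hF1, hF2⟩ := exists_purelyInseparable_separable K N
  haveI : IsScalarTower A K N := inferInstance
  have h1 : Module.Finite A (integralClosure A F) := h F inferInstance hF1
  haveI : IsScalarTower A F N := IsScalarTower.of_algebraMap_eq (fun r => rfl)
  have h2 : Module.Finite A (integralClosure A N) :=
    finite_integralClosure_of_separable A K F N h1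
  haveI : IsScalarTower A L N := IsScalarTower.of_algebraMap_eq (fun r => by
    apply Subtype.ext
    show algebraMap A Ω r = algebraMap L Ω (algebraMap A L r)
    exact IsScalarTower.algebraMap_apply A L Ω r)
  exact finite_integralClosure_of_tower_top A L N h2

end Groth.Agent.H8.Jap
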