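import Mathlib
import Groth.Prelude.Def_Found
import Groth.Agent.Lib.Helper1.Adic
import Groth.Agent.Lib.Helper8.Japanese.PurelyInsep
import Groth.Agent.Lib.Helper8.Japanese.FiniteExt
set_option autoImplicit false
universe u
open Module

namespace Groth.Agent.H8.Jap.Tate

section core
variable {R : Type u} [CommRing R] [IsDomain R]
  {L : Type u} [Field L] [Algebra R L] [Algebra (FractionRing R) L]
  [IsScalarTower R (FractionRing R) L]

local notation "K" => FractionRing R
local notation "S" => integralClosure R L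

include R in
theorem algebraMap_inj : Function.Injective (algebraMap R L) := by
  rw [IsScalarTower.algebraMap_eq R (FractionRing R) L]
  exact (algebraMap (FractionRing R) L).injective.comp (IsFractionRing.injective R (FractionRing R))

variable [IsIntegrallyClosed R] (q : ℕ) [ExpChar L q] (e : ℕ)
  (hpow : ∀ z : L, z ^ q ^ e ∈ (algebraMap (FractionRing R) L).range)

include hpow in
theorem exists_norm (z : S) : ∃ r : R, algebraMap R L r = (z : L) ^ q ^ e := by
  obtain ⟨k, hk⟩ := hpow z
  have hki : IsIntegral R k := by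
    apply (isIntegral_algebraMap_iff (algebraMap (FractionRing R) L).injective).mp
    rw [hk]; exact z.2.pow _
  obtain ⟨r, hr⟩ := IsIntegrallyClosed.isIntegral_iff.mp hki
  exact ⟨r, by rw [IsScalarTower.algebraMap_apply R (FractionRing R) L, hr, hk]⟩

/-- the "norm" `z ↦ z ^ Q ∈ R` -/
noncomputable def Nm (z : S) : R := Classical.choose (exists_norm q e hpow z)

theorem Nm_spec (z : S) : algebraMap R L (Nm q e hpow z) = (z : L) ^ q ^ e :=
  Classical.choose_spec (exists_norm q e hpow z)

theorem Nm_add (a b : S) : Nm q e hpow (a + b) = Nm q e hpow a + Nm q e hpow b := by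
  apply algebraMap_inj (R := R) (L := L)
  rw [map_add, Nm_spec, Nm_spec, Nm_spec, Subalgebra.coe_add, add_pow_expChar_pow]

theorem Nm_mul (a b : S) : Nm q e hpow (a * b) = Nm q e hpow a * Nm q e hpow b := by
  apply algebraMap_inj (R := R) (L := L)
  rw [map_mul, Nm_spec, Nm_spec, Nm_spec, Subalgebra.coe_mul, mul_pow]

theorem Nm_algebraMap (r : R) : Nm q e hpow (algebraMap R S r) = r ^ q ^ e := by
  apply algebraMap_inj (R := R) (L := L)
  rw [Nm_spec, map_pow]; rfl

theorem Nm_one : Nm q e hpow (1 : S) = 1 := by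
  apply algebraMap_inj (R := R) (L := L)
  rw [Nm_spec, map_one, Subalgebra.coe_one, one_pow]

theorem Nm_eq_zero_iff (z : S) : Nm q e hpow z = 0 ↔ z = 0 := by
  constructor
  · intro h
    have := Nm_spec q e hpow z
    rw [h, map_zero] at this
    exact Subtype.ext (pow_eq_zero_iff (pow_ne_zero e (expChar_pos L q).ne') |>.mp this.symm)
  · rintro rfl
    apply algebraMap_inj (R := R) (L := L)
    rw [Nm_spec, map_zero, Subalgebra.coe_zero, zero_pow (pow_ne_zero e (expChar_pos L q).ne')]

theorem Nm_smul (r : R) (z : S) : Nm q e hpow (r • z) = r ^ q ^ e * Nm q e hpow z := by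
  rw [Algebra.smul_def, Nm_mul, Nm_algebraMap]

variable (x : R) (y : L) (hy : y ^ q ^ e = algebraMap R L x)

include hy in
theorem y_integral : IsIntegral R y := by
  apply IsIntegral.of_pow (Nat.pos_of_ne_zero (pow_ne_zero e (expChar_pos L q).ne'))
  rw [hy]; exact isIntegral_algebraMap

/-- `y` as an element of the integral closure -/
def ys : S := ⟨y, y_integral q e x y hy⟩

theorem Nm_ys : Nm q e hpow (ys q e x y hy) = x := by
  apply algebraMap_inj (R := R) (L := L)
  rw [Nm_spec, ← hy]; rfl

include hy in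
theorem y_ne_zero (hx : x ≠ 0) : y ≠ 0 := by
  rintro rfl
  rw [zero_pow (pow_ne_zero e (expChar_pos L q).ne')] at hy
  exact hx (algebraMap_inj (R := R) (L := L) (hy.symm.trans (map_zero _).symm))

theorem exists_eq_ys_mul (hx : x ≠ 0) (z : S) (hz : Nm q e hpow z ∈ Ideal.span {x}) :
    ∃ w : S, z = ys q e x y hy * w := by
  obtain ⟨r, hr⟩ := Ideal.mem_span_singleton'.mp hz
  have hy0 := y_ne_zero q e x y hy hx
  have hw : ((z : L) / y) ^ q ^ e = algebraMap R L r := by
    rw [div_pow, ← Nm_spec q e hpow z, ← hr, hy, map_mul, mul_div_cancel_right₀]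
    rw [← hy]; exact pow_ne_zero _ hy0
  have hwi : IsIntegral R ((z : L) / y) := by
    apply IsIntegral.of_pow (Nat.pos_of_ne_zero (pow_ne_zero e (expChar_pos L q).ne'))
    rw [hw]; exact isIntegral_algebraMap
  refine ⟨⟨(z : L) / y, hwi⟩, Subtype.ext ?_⟩
  show (z : L) = y * ((z : L) / y)
  rw [mul_div_cancel₀ _ hy0]

theorem mem_span_ys_iff (hx : x ≠ 0) (z : S) :
    z ∈ Ideal.span {ys q e x y hy} ↔ Nm q e hpow z ∈ Ideal.span {x} := by
  constructor
  · intro h
    obtain ⟨w, rfl⟩ := Ideal.mem_span_singleton'.mp h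
    rw [Nm_mul, Nm_ys]
    exact Ideal.mul_mem_left _ _ (Ideal.mem_span_singleton_self x)
  · intro h
    obtain ⟨w, rfl⟩ := exists_eq_ys_mul q e hpow x y hy hx z h
    exact Ideal.mul_mem_right _ _ (Ideal.mem_span_singleton_self _)

include hpow in
theorem span_ys_isPrime (hx : x ≠ 0) [hp : (Ideal.span {x}).IsPrime] :
    (Ideal.span {ys q e x y hy}).IsPrime := by
  refine ⟨?_, ?_⟩
  · rw [Ne, Ideal.eq_top_iff_one, mem_span_ys_iff q e hpow x y hy hx, Nm_one]
    exact (Ideal.ne_top_iff_one _).mp hp.ne_top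
  · intro a b hab
    rw [mem_span_ys_iff q e hpow x y hy hx, Nm_mul] at hab
    rw [mem_span_ys_iff q e hpow x y hy hx, mem_span_ys_iff q e hpow x y hy hx]
    exact hp.mem_or_mem hab

include hpow in
theorem comap_span_ys (hx : x ≠ 0) [hp : (Ideal.span {x}).IsPrime] :
    (Ideal.span {ys q e x y hy}).comap (algebraMap R S) = Ideal.span {x} := by
  ext r
  rw [Ideal.mem_comap, mem_span_ys_iff q e hpow x y hy hx, Nm_algebraMap]
  exact ⟨fun h => hp.mem_of_pow_mem _ h, fun h => Ideal.pow_mem_of_mem _ h _
    (Nat.pos_of_ne_zero (pow_ne_zero e (expChar_pos L q).ne'))⟩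

include hpow in
theorem isHausdorff_S [IsNoetherianRing R] [hp : (Ideal.span {x}).IsPrime] :
    IsHausdorff (Ideal.span {x}) S := by
  refine ⟨fun z hz => ?_⟩
  rw [← Nm_eq_zero_iff q e hpow]
  have h1 : Nm q e hpow z ∈ (⨅ n : ℕ, (Ideal.span {x}) ^ n : Ideal R) := by
    rw [Ideal.mem_iInf]
    intro n
    have := hz n
    rw [SModEq.zero, Ideal.span_singleton_pow, Submodule.ideal_span_singleton_smul,
      Submodule.mem_smul_pointwise_iff_exists] at this
    obtain ⟨s, -, rfl⟩ := this
    rw [Nm_smul, ← pow_mul, Ideal.span_singleton_pow]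
    refine Ideal.mul_mem_right _ _ ?_
    rw [Ideal.mem_span_singleton]
    exact pow_dvd_pow x (Nat.le_mul_of_pos_right n
      (Nat.pos_of_ne_zero (pow_ne_zero e (expChar_pos L q).ne')))
  rw [Ideal.iInf_pow_eq_bot_of_isDomain _ hp.ne_top] at h1
  exact h1

section quot
variable [IsNoetherianRing R] [hp : (Ideal.span {x}).IsPrime]

/-- the `R ⧸ (x)`-algebra structure on `S ⧸ (y)` -/
noncomputable abbrev algDE (hx : x ≠ 0) :
    Algebra (R ⧸ Ideal.span ({x} : Set R)) (S ⧸ Ideal.span {ys q e x y hy}) :=
  (Ideal.quotientMap (Ideal.span {ys q e x y hy}) (algebraMap R S)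
    (le_of_eq (comap_span_ys q e hpow x y hy hx).symm)).toAlgebra

theorem linearIndependent_lift (hx : x ≠ 0)
    (s : Finset (S ⧸ Ideal.span {ys q e x y hy}))
    (hli : letI := algDE q e hpow x y hy hx
      LinearIndependent (R ⧸ Ideal.span ({x} : Set R))
        (fun i : s => (i : S ⧸ Ideal.span {ys q e x y hy}))) :
    LinearIndependent R (fun i : s => ((Quotient.out (i : S ⧸ Ideal.span {ys q e x y hy}) : S) : L)) := by
  letI := algDE q e hpow x y hy hx
  haveI : IsScalarTower R (R ⧸ Ideal.span ({x} : Set R)) (S ⧸ Ideal.span {ys q e x y hy}) :=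
    IsScalarTower.of_algebraMap_eq (fun r => rfl)
  have hxL : algebraMap R L x ≠ 0 := fun h => hx (algebraMap_inj (R := R) (L := L)
    (h.trans (map_zero _).symm))
  have key : ∀ n : ℕ, ∀ g : s → R,
      ∑ i, g i • ((Quotient.out (i : S ⧸ Ideal.span {ys q e x y hy}) : S) : L) = 0 →
      ∀ i, g i ∈ (Ideal.span ({x} : Set R)) ^ n := by
    intro n
    induction n with
    | zero => intro g _ i; simp
    | succ n ih =>
      intro g hg i
      -- all g i ∈ span x
      have hS : ∑ i, g i • (Quotient.out (i : S ⧸ Ideal.span {ys q e x y hy}) : S) = 0 := by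
        apply Subtype.ext
        rw [AddSubmonoidClass.coe_finsetSum]
        exact hg
      have hE : ∑ i : s, (Ideal.Quotient.mk (Ideal.span ({x} : Set R)) (g i)) •
          (i : S ⧸ Ideal.span {ys q e x y hy}) = 0 := by
        have := congrArg (Ideal.Quotient.mk (Ideal.span {ys q e x y hy})) hS
        rw [map_sum, map_zero] at this
        rw [← this]
        refine Finset.sum_congr rfl (fun i _ => ?_)
        rw [Algebra.smul_def (g i), map_mul, Ideal.Quotient.mk_out]
        rfl
      have h1 := Fintype.linearIndependent_iff.mp hli _ hE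
      have h2 : ∀ i, ∃ g' : R, g i = x * g' := fun i =>
        Ideal.mem_span_singleton'.mp (Ideal.Quotient.eq_zero_iff_mem.mp (h1 i)) |>.imp
          (fun a ha => by rw [← ha, mul_comm])
      choose g' hg' using h2
      have hg'0 : ∑ i, g' i • ((Quotient.out (i : S ⧸ Ideal.span {ys q e x y hy}) : S) : L) = 0 := by
        have : algebraMap R L x * ∑ i, g' i • ((Quotient.out (i : S ⧸ Ideal.span {ys q e x y hy}) : S) : L) = 0 := by
          rw [← hg, Finset.mul_sum]
          refine Finset.sum_congr rfl (fun i _ => ?_)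
          rw [hg', mul_smul, Algebra.smul_def x]
        exact (mul_eq_zero.mp this).resolve_left hxL
      rw [hg' i, pow_succ']
      exact Ideal.mul_mem_mul (Ideal.mem_span_singleton_self x) (ih g' hg'0 i)
  rw [Fintype.linearIndependent_iff]
  intro g hg i
  have : g i ∈ (⨅ n : ℕ, (Ideal.span ({x} : Set R)) ^ n : Ideal R) := by
    rw [Ideal.mem_iInf]; exact fun n => key n g hg i
  rw [Ideal.iInf_pow_eq_bot_of_isDomain _ hp.ne_top] at this
  exact this

attribute [local instance] FractionRing.liftAlgebra in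
include hpow in
theorem finite_quot_ys (hx : x ≠ 0) [FiniteDimensional K L]
    (h2 : CAlg.IsN2 (R ⧸ Ideal.span ({x} : Set R))) :
    Module.Finite R (S ⧸ Ideal.span {ys q e x y hy}) := by
  classical
  haveI : (Ideal.span {ys q e x y hy}).IsPrime := span_ys_isPrime q e hpow x y hy hx
  letI := algDE q e hpow x y hy hx
  haveI : IsScalarTower R (R ⧸ Ideal.span ({x} : Set R)) (S ⧸ Ideal.span {ys q e x y hy}) :=
    IsScalarTower.of_algebraMap_eq (fun r => rfl)
  have hinjDE : Function.Injective (algebraMap (R ⧸ Ideal.span ({x} : Set R))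
      (S ⧸ Ideal.span {ys q e x y hy})) :=
    Ideal.quotientMap_injective' (le_of_eq (comap_span_ys q e hpow x y hy hx))
  haveI : FaithfulSMul (R ⧸ Ideal.span ({x} : Set R)) (S ⧸ Ideal.span {ys q e x y hy}) :=
    (faithfulSMul_iff_algebraMap_injective _ _).mpr hinjDE
  haveI : Algebra.IsIntegral (R ⧸ Ideal.span ({x} : Set R)) (S ⧸ Ideal.span {ys q e x y hy}) := by
    refine ⟨fun z => ?_⟩
    obtain ⟨z, rfl⟩ := Ideal.Quotient.mk_surjective z
    have hz : IsIntegral R z := by
      have := z.2
      exact (isIntegral_algebraMap_iff (B := L) Subtype.val_injective).mp this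
    exact (hz.map (Ideal.Quotient.mkₐ R (Ideal.span {ys q e x y hy}))).tower_top
  haveI : Algebra.IsAlgebraic (R ⧸ Ideal.span ({x} : Set R)) (S ⧸ Ideal.span {ys q e x y hy}) :=
    Algebra.IsIntegral.isAlgebraic
  -- rank bound
  have hrank : Module.rank (R ⧸ Ideal.span ({x} : Set R)) (S ⧸ Ideal.span {ys q e x y hy}) ≤
      (finrank K L : ℕ) := by
    apply rank_le
    intro s hs
    have h1 := linearIndependent_lift q e hpow x y hy hx s hs
    rw [LinearIndependent.iff_fractionRing R K] at h1
    have := h1.fintype_card_le_finrank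
    rwa [Fintype.card_coe] at this
  have hrk : Module.rank (FractionRing (R ⧸ Ideal.span ({x} : Set R)))
      (FractionRing (S ⧸ Ideal.span {ys q e x y hy})) =
      Module.rank (R ⧸ Ideal.span ({x} : Set R)) (S ⧸ Ideal.span {ys q e x y hy}) :=
    Algebra.IsAlgebraic.rank_of_isFractionRing _ _ _ _
  haveI : FiniteDimensional (FractionRing (R ⧸ Ideal.span ({x} : Set R)))
      (FractionRing (S ⧸ Ideal.span {ys q e x y hy})) := by
    apply Module.rank_lt_aleph0_iff.mp
    rw [hrk]
    exact lt_of_le_of_lt hrank Cardinal.natCast_lt_aleph0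
  have hfin : Module.Finite (R ⧸ Ideal.span ({x} : Set R))
      (integralClosure (R ⧸ Ideal.span ({x} : Set R))
        (FractionRing (S ⧸ Ideal.span {ys q e x y hy}))) := h2 _ inferInstance
  haveI : IsNoetherian (R ⧸ Ideal.span ({x} : Set R))
      (integralClosure (R ⧸ Ideal.span ({x} : Set R))
        (FractionRing (S ⧸ Ideal.span {ys q e x y hy}))) :=
    isNoetherian_of_isNoetherianRing_of_finite _ _
  have hE : Module.Finite (R ⧸ Ideal.span ({x} : Set R)) (S ⧸ Ideal.span {ys q e x y hy}) := by
    let f : (S ⧸ Ideal.span {ys q e x y hy}) →ₗ[R ⧸ Ideal.span ({x} : Set R)]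
        integralClosure (R ⧸ Ideal.span ({x} : Set R))
          (FractionRing (S ⧸ Ideal.span {ys q e x y hy})) :=
      LinearMap.codRestrict (Subalgebra.toSubmodule (integralClosure (R ⧸ Ideal.span ({x} : Set R))
          (FractionRing (S ⧸ Ideal.span {ys q e x y hy}))))
        (IsScalarTower.toAlgHom (R ⧸ Ideal.span ({x} : Set R)) (S ⧸ Ideal.span {ys q e x y hy})
          (FractionRing (S ⧸ Ideal.span {ys q e x y hy}))).toLinearMap
        (fun z => (Algebra.IsIntegral.isIntegral z).map
          (IsScalarTower.toAlgHom (R ⧸ Ideal.span ({x} : Set R)) (S ⧸ Ideal.span {ys q e x y hy})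
          (FractionRing (S ⧸ Ideal.span {ys q e x y hy}))))
    refine Module.Finite.of_injective f ?_
    intro a b hab
    have : algebraMap _ (FractionRing (S ⧸ Ideal.span {ys q e x y hy})) a = algebraMap _ _ b :=
      congrArg Subtype.val hab
    exact IsFractionRing.injective _ _ this
  haveI : Module.Finite R (R ⧸ Ideal.span ({x} : Set R)) :=
    Module.Finite.of_surjective (Algebra.linearMap R _) Ideal.Quotient.mk_surjective
  exact Module.Finite.trans (R ⧸ Ideal.span ({x} : Set R)) _

end quot

end core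

end Groth.Agent.H8.Jap.Tate
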