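import Mathlib
import Groth.Prelude.Def_Found
import Groth.Agent.Lib.Helper8.Japanese.Tate1
set_option autoImplicit false
universe u
open Module

namespace Groth.Agent.H8.Jap.Tate

section gen
variable {A B : Type*} [CommRing A] [CommRing B] [Algebra A B]

/-- If `B/(y)` is a finite `A`-module then `B/(x)` is, when `x ↦ y ^ k`. -/
theorem finite_quot_of_finite_quot_root (y : B) (x : A) (k : ℕ) (hk : algebraMap A B x = y ^ k)
    (h : Module.Finite A (B ⧸ Ideal.span {y})) :
    Module.Finite A (B ⧸ (Ideal.span {x} • ⊤ : Submodule A B)) := by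
  classical
  obtain ⟨G0, hG0⟩ := h.fg_top
  -- lifts
  have hl : ∀ g : B ⧸ Ideal.span {y}, ∃ b : B, Ideal.Quotient.mk _ b = g :=
    fun g => Ideal.Quotient.mk_surjective g
  choose lift hlift using hl
  let G : Finset B := G0.image lift
  have h1 : ∀ z : B, ∃ m ∈ Submodule.span A (G : Set B), ∃ w : B, z = m + y * w := by
    intro z
    have hz : Ideal.Quotient.mk (Ideal.span {y}) z ∈ Submodule.span A (G0 : Set (B ⧸ Ideal.span {y})) := by
      rw [hG0]; trivial
    have : ∀ g ∈ Submodule.span A (G0 : Set (B ⧸ Ideal.span {y})),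
        ∃ m ∈ Submodule.span A (G : Set B), Ideal.Quotient.mk (Ideal.span {y}) m = g := by
      intro g hg
      induction hg using Submodule.span_induction with
      | mem g hg =>
        exact ⟨lift g, Submodule.subset_span (Finset.mem_coe.mpr (Finset.mem_image_of_mem _ hg)),
          hlift g⟩
      | zero => exact ⟨0, Submodule.zero_mem _, map_zero _⟩
      | add a b _ _ ha hb =>
        obtain ⟨m1, hm1, e1⟩ := ha
        obtain ⟨m2, hm2, e2⟩ := hb
        exact ⟨m1 + m2, Submodule.add_mem _ hm1 hm2, by rw [map_add, e1, e2]⟩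
      | smul r a _ ha =>
        obtain ⟨m1, hm1, e1⟩ := ha
        refine ⟨r • m1, Submodule.smul_mem _ _ hm1, ?_⟩
        rw [Algebra.smul_def, map_mul, e1, Algebra.smul_def]
        rfl
    obtain ⟨m, hm, e⟩ := this _ hz
    have : z - m ∈ Ideal.span {y} := by
      rw [← Ideal.Quotient.eq_zero_iff_mem, map_sub, e, sub_self]
    obtain ⟨w, hw⟩ := Ideal.mem_span_singleton'.mp this
    exact ⟨m, hm, w, by rw [mul_comm, hw]; ring⟩
  -- iterate
  let Gk : ℕ → Set B := fun k => ⋃ i ∈ Finset.range k, (fun g => y ^ i * g) '' (G : Set B)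
  have h2 : ∀ k : ℕ, ∀ z : B, ∃ m ∈ Submodule.span A (Gk k), ∃ w : B, z = m + y ^ k * w := by
    intro k
    induction k with
    | zero => intro z; exact ⟨0, Submodule.zero_mem _, z, by simp⟩
    | succ k ih =>
      intro z
      obtain ⟨m, hm, w, rfl⟩ := ih z
      obtain ⟨m', hm', w', rfl⟩ := h1 w
      refine ⟨m + y ^ k * m', Submodule.add_mem _ ?_ ?_, w', by ring⟩
      · refine Submodule.span_mono ?_ hm
        intro b hb
        simp only [Gk, Set.mem_iUnion, Finset.mem_range] at hb ⊢
        obtain ⟨i, hi, hb⟩ := hb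
        exact ⟨i, Nat.lt_succ_of_lt hi, hb⟩
      · have : ∀ m' ∈ Submodule.span A (G : Set B), y ^ k * m' ∈ Submodule.span A (Gk (k + 1)) := by
          intro m' hm'
          induction hm' using Submodule.span_induction with
          | mem g hg =>
            apply Submodule.subset_span
            simp only [Gk, Set.mem_iUnion, Finset.mem_range]
            exact ⟨k, Nat.lt_succ_self k, g, hg, rfl⟩
          | zero => rw [mul_zero]; exact Submodule.zero_mem _
          | add a b _ _ ha hb => rw [mul_add]; exact Submodule.add_mem _ ha hb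
          | smul r a _ ha => rw [mul_smul_comm]; exact Submodule.smul_mem _ _ ha
        exact this m' hm'
  have hGkfin : (Gk k).Finite := by
    apply Set.Finite.biUnion (Finset.finite_toSet _)
    intro i _
    exact Set.Finite.image _ G.finite_toSet
  haveI : Module.Finite A (Submodule.span A (Gk k)) :=
    Module.Finite.iff_fg.mpr (Submodule.fg_span hGkfin)
  let f : Submodule.span A (Gk k) →ₗ[A] B ⧸ (Ideal.span {x} • ⊤ : Submodule A B) :=
    (Submodule.mkQ _).comp (Submodule.subtype _)
  refine Module.Finite.of_surjective f ?_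
  intro zb
  obtain ⟨z, rfl⟩ := Submodule.mkQ_surjective _ zb
  obtain ⟨m, hm, w, rfl⟩ := h2 k z
  refine ⟨⟨m, hm⟩, ?_⟩
  show Submodule.mkQ _ m = Submodule.mkQ _ (m + y ^ k * w)
  rw [map_add, ← hk, ← Algebra.smul_def]
  have : x • w ∈ (Ideal.span {x} • ⊤ : Submodule A B) :=
    Submodule.smul_mem_smul (Ideal.mem_span_singleton_self x) Submodule.mem_top
  rw [Submodule.mkQ_apply, Submodule.mkQ_apply, (Submodule.Quotient.mk_eq_zero _).mpr this, add_zero]

end gen

section core2
variable {R : Type u} [CommRing R] [IsDomain R] [IsNoetherianRing R] [IsIntegrallyClosed R]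
  {L : Type u} [Field L] [Algebra R L] [Algebra (FractionRing R) L]
  [IsScalarTower R (FractionRing R) L] [FiniteDimensional (FractionRing R) L]

theorem core (q : ℕ) [ExpChar L q] (e : ℕ)
    (hpow : ∀ z : L, z ^ q ^ e ∈ (algebraMap (FractionRing R) L).range)
    (x : R) (hx : x ≠ 0) [(Ideal.span {x}).IsPrime] [IsAdicComplete (Ideal.span {x}) R]
    (h2 : CAlg.IsN2 (R ⧸ Ideal.span ({x} : Set R)))
    (y : L) (hy : y ^ q ^ e = algebraMap R L x) :
    Module.Finite R (integralClosure R L) := by
  haveI := isHausdorff_S q e hpow x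
  have h1 := finite_quot_ys q e hpow x y hy hx h2
  have hk : algebraMap R (integralClosure R L) x = (ys q e x y hy) ^ (q ^ e) := by
    apply Subtype.ext
    show algebraMap R L x = y ^ q ^ e
    exact hy.symm
  have h3 := finite_quot_of_finite_quot_root (A := R) (B := integralClosure R L)
    (ys q e x y hy) x (q ^ e) hk h1
  exact Groth.Agent.H1.module_finite_of_isHausdorff_of_quotient_finite (Ideal.span {x}) _ h3

end core2

/-- **Tate's lemma** (Stacks 032P-ish): a normal Noetherian domain, complete with respect to a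
prime element `x` with `R/xR` N-2, is N-2. -/
theorem isN2_of_complete_of_quotient_isN2 (R : Type u) [CommRing R] [IsDomain R]
    [IsNoetherianRing R] [IsIntegrallyClosed R] (x : R) [(Ideal.span ({x} : Set R)).IsPrime]
    (h2 : CAlg.IsN2 (R ⧸ Ideal.span ({x} : Set R))) [IsAdicComplete (Ideal.span ({x} : Set R)) R] :
    CAlg.IsN2 R := by
  by_cases hx : x = 0
  · subst hx
    have e : (R ⧸ Ideal.span ({0} : Set R)) ≃+* R :=
      (Ideal.quotEquivOfEq (by simp)).trans (RingEquiv.quotientBot R)
    exact isN2_of_ringEquiv e h2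
  apply isN2_of_purelyInseparable
  intro L _ _ _ _ hfin hpi
  haveI := hfin
  obtain ⟨q, hq⟩ := ExpChar.exists (FractionRing R)
  haveI : ExpChar L q := expChar_of_injective_algebraMap (algebraMap (FractionRing R) L).injective q
  let e := IsPurelyInseparable.exponent (FractionRing R) L
  have hpowL : ∀ z : L, z ^ q ^ e ∈ (algebraMap (FractionRing R) L).range :=
    IsPurelyInseparable.exponent_def' (FractionRing R) q
  let Om := AlgebraicClosure L
  haveI : ExpChar Om q := expChar_of_injective_algebraMap (algebraMap L Om).injective q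
  have hQ : 0 < q ^ e := Nat.pos_of_ne_zero (pow_ne_zero e (expChar_pos L q).ne')
  obtain ⟨y, hy⟩ := IsAlgClosed.exists_pow_nat_eq (algebraMap R Om x) hQ
  let L' : IntermediateField L Om := IntermediateField.adjoin L {y}
  have hyint : IsIntegral L y := (Algebra.IsAlgebraic.isAlgebraic (R := L) y).isIntegral
  haveI : FiniteDimensional L L' := IntermediateField.adjoin.finiteDimensional hyint
  haveI : IsScalarTower (FractionRing R) L L' := IsScalarTower.of_algebraMap_eq (fun r => rfl)
  haveI : FiniteDimensional (FractionRing R) L' := Module.Finite.trans L L'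
  haveI : ExpChar L' q := expChar_of_injective_algebraMap (algebraMap L L').injective q
  have hpowOm : ∀ z ∈ Algebra.adjoin L {y}, z ^ q ^ e ∈ (algebraMap (FractionRing R) Om).range := by
    intro z hz
    induction hz using Algebra.adjoin_induction with
    | mem z hz =>
      rw [Set.mem_singleton_iff] at hz
      subst hz
      rw [hy, IsScalarTower.algebraMap_apply R (FractionRing R) Om]
      exact ⟨_, rfl⟩
    | algebraMap l =>
      obtain ⟨k, hk⟩ := hpowL l
      exact ⟨k, by rw [IsScalarTower.algebraMap_apply (FractionRing R) L Om, hk, map_pow]⟩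
    | add a b _ _ ha hb => rw [add_pow_expChar_pow]; exact add_mem ha hb
    | mul a b _ _ ha hb => rw [mul_pow]; exact mul_mem ha hb
  have hpow' : ∀ z : L', z ^ q ^ e ∈ (algebraMap (FractionRing R) L').range := by
    intro z
    have hz : (z : Om) ∈ Algebra.adjoin L {y} := by
      rw [← IntermediateField.adjoin_simple_toSubalgebra_of_isAlgebraic hyint.isAlgebraic]
      exact z.2
    obtain ⟨k, hk⟩ := hpowOm _ hz
    exact ⟨k, Subtype.ext hk⟩
  have hyL' : y ∈ L' := IntermediateField.mem_adjoin_simple_self L y
  haveI : IsScalarTower R (FractionRing R) L' := IsScalarTower.of_algebraMap_eq (fun r => by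
    apply Subtype.ext
    show algebraMap R Om r = algebraMap (FractionRing R) Om (algebraMap R (FractionRing R) r)
    rw [← IsScalarTower.algebraMap_apply])
  have hy' : (⟨y, hyL'⟩ : L') ^ q ^ e = algebraMap R L' x := Subtype.ext hy
  have hfin' := core q e hpow' x hx h2 (⟨y, hyL'⟩ : L') hy'
  haveI : IsScalarTower R L L' := IsScalarTower.of_algebraMap_eq (fun r => by
    apply Subtype.ext
    show algebraMap R Om r = algebraMap L Om (algebraMap R L r)
    rw [← IsScalarTower.algebraMap_apply])
  exact finite_integralClosure_of_tower_top R L L' hfin'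

end Groth.Agent.H8.Jap.Tate
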