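import Mathlib
import Groth.Prelude.Def_Found
import Groth.Agent.Lib.Helper8.Japanese.PSNormal
import Groth.Agent.Lib.Helper8.Japanese.Tate2
set_option autoImplicit false
universe u
open Module PowerSeries

namespace Groth.Agent.H8.Jap

section complete
variable (A : Type*) [CommRing A]

theorem mem_span_X_pow_iff (n : ℕ) (f : A⟦X⟧) :
    f ∈ (Ideal.span {(X : A⟦X⟧)}) ^ n ↔ ∀ m, m < n → coeff m f = 0 := by
  rw [Ideal.span_singleton_pow, Ideal.mem_span_singleton, X_pow_dvd_iff]

instance isAdicComplete_span_X : IsAdicComplete (Ideal.span {(X : A⟦X⟧)}) A⟦X⟧ where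
  haus' := by
    intro f hf
    ext k
    have := hf (k + 1)
    rw [SModEq.zero, smul_eq_mul, Ideal.mul_top, mem_span_X_pow_iff] at this
    rw [this k (Nat.lt_succ_self k), map_zero]
  prec' := by
    intro f hf
    refine ⟨PowerSeries.mk (fun k => coeff k (f (k + 1))), fun n => ?_⟩
    rw [SModEq.sub_mem, smul_eq_mul, Ideal.mul_top, mem_span_X_pow_iff]
    intro m hm
    rw [map_sub, coeff_mk, sub_eq_zero]
    have := hf (Nat.succ_le_of_lt hm)
    rw [SModEq.sub_mem, smul_eq_mul, Ideal.mul_top, mem_span_X_pow_iff] at this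
    have h2 := this m (Nat.lt_succ_self m)
    rw [map_sub, sub_eq_zero] at h2
    exact h2.symm

/-- `A⟦X⟧ / (X) ≃ A` -/
noncomputable def quotSpanXEquiv : (A⟦X⟧ ⧸ Ideal.span {(X : A⟦X⟧)}) ≃+* A :=
  (Ideal.quotEquivOfEq (by
    ext f
    rw [Ideal.mem_span_singleton, X_dvd_iff, RingHom.mem_ker])).trans
    (RingHom.quotientKerEquivOfSurjective (f := (constantCoeff : A⟦X⟧ →+* A)) constantCoeff_surj)

end complete

section
variable (R : Type u) [CommRing R] [IsDomain R] [IsNoetherianRing R]

/-- the normal case -/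
theorem powerSeries_isN2_of_normal [IsIntegrallyClosed R] (h : CAlg.IsN2 R) : CAlg.IsN2 R⟦X⟧ := by
  haveI : (Ideal.span {(X : R⟦X⟧)}).IsPrime := span_X_isPrime
  exact Tate.isN2_of_complete_of_quotient_isN2 R⟦X⟧ X
    (isN2_of_ringEquiv (quotSpanXEquiv R).symm h)

end

section finite
variable (R R' : Type*) [CommRing R] [CommRing R'] [Algebra R R'] [Module.Finite R R']

instance powerSeries_finite : Module.Finite R⟦X⟧ R'⟦X⟧ := by
  classical
  obtain ⟨E, hE⟩ := (Module.Finite.fg_top (R := R) (M := R'))
  have hrep : ∀ c : R', ∃ r : E → R, c = ∑ j : E, r j • (j : R') := by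
    intro c
    have hc : c ∈ Submodule.span R (E : Set R') := hE ▸ Submodule.mem_top
    obtain ⟨r, hr⟩ := Submodule.mem_span_finset'.mp hc
    exact ⟨r, hr.symm⟩
  refine ⟨⟨E.image (fun e => (C e : R'⟦X⟧)), ?_⟩⟩
  rw [eq_top_iff]
  intro f _
  choose r hr using fun k => hrep (coeff k f)
  have : f = ∑ j : E, (PowerSeries.mk (fun k => r k j) : R⟦X⟧) • (C (j : R') : R'⟦X⟧) := by
    ext k
    rw [map_sum, hr k]
    refine Finset.sum_congr rfl (fun j _ => ?_)
    show r k j • (j : R') = coeff k (PowerSeries.map (algebraMap R R')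
      (PowerSeries.mk fun k => r k j) * C (j : R'))
    rw [coeff_mul_C, coeff_map, coeff_mk, Algebra.smul_def]
  rw [this]
  refine Submodule.sum_mem _ (fun j _ => Submodule.smul_mem _ _ (Submodule.subset_span ?_))
  exact Finset.mem_coe.mpr (Finset.mem_image.mpr ⟨j, j.2, rfl⟩)

end finite

section general
variable (R : Type u) [CommRing R] [IsDomain R] [IsNoetherianRing R]

/-- N-2 ascends to the power series ring (Noetherian domain, not nec. normal). -/
theorem powerSeries_isN2 (h : CAlg.IsN2 R) : CAlg.IsN2 R⟦X⟧ := by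
  let K := FractionRing R
  let R' := integralClosure R K
  haveI : Module.Finite R R' := h K inferInstance
  haveI : IsNoetherianRing R' := IsNoetherianRing.of_finite R R'
  haveI : IsIntegrallyClosed R' := integralClosure.isIntegrallyClosedOfFiniteExtension K
  have hinj : Function.Injective (algebraMap R R') := by
    intro a b hab
    exact IsFractionRing.injective R K (congrArg Subtype.val hab)
  have h' : CAlg.IsN2 R' := isN2_of_finite_injective R R' hinj h
  have h'' : CAlg.IsN2 R'⟦X⟧ := powerSeries_isN2_of_normal R' h'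
  have hinj' : Function.Injective (algebraMap R⟦X⟧ R'⟦X⟧) := by
    intro f g hfg
    ext n
    have := congrArg (coeff n) hfg
    change coeff n (PowerSeries.map _ f) = coeff n (PowerSeries.map _ g) at this
    rw [coeff_map, coeff_map] at this
    exact hinj this
  exact isN2_of_finite_extension R⟦X⟧ R'⟦X⟧ hinj' h''

/-- N-2 for power series rings in finitely many variables over a normal N-2 domain. -/
theorem mvPowerSeries_fin_isN2 [IsIntegrallyClosed R] (h : CAlg.IsN2 R) (r : ℕ)
    [IsDomain (MvPowerSeries (Fin r) R)] : CAlg.IsN2 (MvPowerSeries (Fin r) R) := by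
  have key : ∀ r : ℕ, ∀ _ : IsDomain (MvPowerSeries (Fin r) R), CAlg.IsN2 (MvPowerSeries (Fin r) R) := by
    intro r
    induction r with
    | zero =>
      intro _
      exact isN2_of_ringEquiv (MvPowerSeries.isEmptyEquiv (σ := Fin 0) (R := R)).symm.toRingEquiv h
    | succ n ih =>
      intro _
      haveI : IsDomain (MvPowerSeries (Fin n) R) := NoZeroDivisors.to_isDomain _
      haveI : IsIntegrallyClosed (MvPowerSeries (Fin n) R) := mvPowerSeries_fin_isIntegrallyClosed R n
      have h1 := powerSeries_isN2_of_normal (MvPowerSeries (Fin n) R) (ih inferInstance)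
      exact isN2_of_ringEquiv (MvPowerSeries.finSuccEquiv R n).symm.toRingEquiv h1
  exact key r inferInstance

end general

end Groth.Agent.H8.Jap
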