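import Mathlib
import Groth.Prelude.Def_Found
import Groth.Agent.S0581
import Groth.Agent.Lib.Helper9.ChevMod
import Groth.Agent.Lib.Helper2.N2Lemmas
import Groth.Agent.Lib.Helper8.Japanese.PSN2
set_option autoImplicit false
universe u
open Module

namespace Groth.Agent.H8.Jap

/-- a Cohen ring has characteristic zero -/
theorem charZero_of_isCohenRing (Λ : Type u) [CommRing Λ] [IsDomain Λ] [IsDiscreteValuationRing Λ]
    (p : ℕ) (hp : p.Prime) (hm : IsLocalRing.maximalIdeal Λ = Ideal.span {(p : Λ)}) :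
    CharZero Λ := by
  obtain ⟨c, hc⟩ := CharP.exists Λ
  rcases CharP.char_is_prime_or_zero Λ c with hcp | hc0
  · exfalso
    have hpm : (p : Λ) ∈ IsLocalRing.maximalIdeal Λ := hm ▸ Ideal.mem_span_singleton_self _
    have hcp0 : (c : Λ) = 0 := CharP.cast_eq_zero Λ c
    by_cases hcpe : c = p
    · subst hcpe
      rw [hcp0] at hm
      apply IsDiscreteValuationRing.not_a_field Λ
      rw [hm]
      simp
    · have hcop : Nat.Coprime c p := (Nat.coprime_primes hcp hp).mpr hcpe
      have h1 : IsCoprime (c : ℤ) (p : ℤ) := Nat.isCoprime_iff_coprime.mpr hcop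
      obtain ⟨a, b, hab⟩ := h1
      have h2 : ((a * c + b * p : ℤ) : Λ) = 1 := by rw [hab]; simp
      push_cast at h2
      rw [hcp0, mul_zero, zero_add] at h2
      have : (1 : Λ) ∈ IsLocalRing.maximalIdeal Λ := h2 ▸ Ideal.mul_mem_left _ _ hpm
      exact (Ideal.ne_top_iff_one _).mp (IsLocalRing.maximalIdeal.isMaximal Λ).ne_top this
  · subst hc0
    exact CharP.charP_to_charZero Λ

/-- A complete Noetherian local ring is Nagata. -/
theorem isNagata_of_complete_local (R : Type u) [CommRing R] [IsLocalRing R]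
    [IsNoetherianRing R] [IsAdicComplete (IsLocalRing.maximalIdeal R) R] : CAlg.IsNagata R := by
  refine ⟨inferInstance, fun p hp => ?_⟩
  haveI : IsLocalRing (R ⧸ p) :=
    IsLocalRing.of_surjective' (Ideal.Quotient.mk p) Ideal.Quotient.mk_surjective
  have hmax : (IsLocalRing.maximalIdeal R).map (algebraMap R (R ⧸ p)) =
      IsLocalRing.maximalIdeal (R ⧸ p) :=
    IsLocalRing.map_maximalIdeal_of_surjective (Ideal.Quotient.mk p) Ideal.Quotient.mk_surjective
  haveI : IsAdicComplete (IsLocalRing.maximalIdeal R) (R ⧸ p) :=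
    Groth.Agent.H9.ChevMod.isAdicComplete_of_finite R _ (R ⧸ p)
  haveI : IsAdicComplete (IsLocalRing.maximalIdeal (R ⧸ p)) (R ⧸ p) := by
    rw [← hmax]
    exact (IsAdicComplete.map_algebraMap_iff (R := R) (S := R ⧸ p) (M := R ⧸ p)
      (I := IsLocalRing.maximalIdeal R)).mpr inferInstance
  obtain ⟨Λ, _, n, f, hΛ, hfinj, hffin, -⟩ := Groth.Agent.S0581.result (R ⧸ p)
  letI : Algebra (MvPowerSeries (Fin n) Λ) (R ⧸ p) := f.toAlgebra
  haveI : Module.Finite (MvPowerSeries (Fin n) Λ) (R ⧸ p) := hffin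
  have hN2 : ∃ (_ : IsDomain (MvPowerSeries (Fin n) Λ)), CAlg.IsN2 (MvPowerSeries (Fin n) Λ) := by
    rcases hΛ with hfield | hcohen
    · letI := hfield.toField
      haveI : IsDomain (MvPowerSeries (Fin n) Λ) := NoZeroDivisors.to_isDomain _
      exact ⟨inferInstance, mvPowerSeries_fin_isN2 Λ (Groth.Agent.H2.isN2_of_isField Λ hfield) n⟩
    · obtain ⟨hdom, hdvr, -, q, hq, hm⟩ := hcohen
      haveI := hdom
      haveI := hdvr
      haveI : CharZero Λ := charZero_of_isCohenRing Λ q hq hm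
      haveI : IsDomain (MvPowerSeries (Fin n) Λ) := NoZeroDivisors.to_isDomain _
      exact ⟨inferInstance, mvPowerSeries_fin_isN2 Λ
        (Groth.Agent.H2.isN2_of_isIntegrallyClosed_of_charZero Λ) n⟩
  obtain ⟨hdom, hN2⟩ := hN2
  exact isN2_of_finite_injective (MvPowerSeries (Fin n) Λ) (R ⧸ p) hfinj hN2

end Groth.Agent.H8.Jap
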