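import Mathlib
import Groth.Prelude.Def_Found
import Groth.Agent.Lib.Helper5.LocIC
import Groth.Agent.Lib.Helper8.Japanese.NormalLocus
set_option autoImplicit false
universe u
open Module

namespace Groth.Agent.H8.Jap

section
variable {R : Type u} [CommRing R] [IsDomain R]

local notation "K" => FractionRing R

/-- elements `x` of the integral closure with `f ^ n * x ∈ R` -/
noncomputable def Mn (f : R) (n : ℕ) : Submodule R K :=
  (Subalgebra.toSubmodule (integralClosure R K)) ⊓
    (LinearMap.range (Algebra.linearMap R K)).comap (LinearMap.lsmul R K (f ^ n))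

theorem mem_Mn {f : R} {n : ℕ} {x : K} :
    x ∈ Mn f n ↔ IsIntegral R x ∧ ∃ r : R, algebraMap R K r = f ^ n • x := by
  unfold Mn
  rw [Submodule.mem_inf, Submodule.mem_comap]
  rfl

theorem Mn_mono (f : R) {n m : ℕ} (h : n ≤ m) : Mn f n ≤ Mn f m := by
  intro x hx
  rw [mem_Mn] at hx ⊢
  obtain ⟨hi, r, hr⟩ := hx
  refine ⟨hi, f ^ (m - n) * r, ?_⟩
  rw [map_mul, hr, ← Algebra.smul_def, smul_smul, ← pow_add, Nat.sub_add_cancel h]

variable [IsNoetherianRing R]

theorem Mn_fg (f : R) (hf : f ≠ 0) (n : ℕ) : (Mn f n).FG := by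
  have hfK : algebraMap R K (f ^ n) ≠ 0 :=
    (map_ne_zero_iff _ (IsFractionRing.injective R K)).mpr (pow_ne_zero _ hf)
  have hle : Mn f n ≤ Submodule.span R {(algebraMap R K (f ^ n))⁻¹} := by
    intro x hx
    obtain ⟨-, r, hr⟩ := mem_Mn.mp hx
    rw [Submodule.mem_span_singleton]
    refine ⟨r, ?_⟩
    rw [Algebra.smul_def, hr, Algebra.smul_def]
    field_simp
  haveI : IsNoetherian R (Submodule.span R {(algebraMap R K (f ^ n))⁻¹}) :=
    isNoetherian_of_fg_of_noetherian _ (Submodule.fg_span_singleton _)
  exact (isNoetherian_submodule.mp inferInstance) _ hle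

theorem exists_mem_Mn (f : R) (hf : f ≠ 0) (hn : IsIntegrallyClosed (Localization.Away f)) (x : K)
    (hx : IsIntegral R x) : ∃ n, x ∈ Mn f n := by
  have hle : Submonoid.powers f ≤ nonZeroDivisors R := powers_le_nonZeroDivisors_of_noZeroDivisors hf
  letI : Algebra (Localization.Away f) K :=
    IsLocalization.localizationAlgebraOfSubmonoidLe _ _ (Submonoid.powers f) (nonZeroDivisors R) hle
  haveI : IsScalarTower R (Localization.Away f) K :=
    IsLocalization.localization_isScalarTower_of_submonoid_le _ _ (Submonoid.powers f) (nonZeroDivisors R) hle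
  haveI : IsDomain (Localization.Away f) := IsLocalization.isDomain_localization hle
  haveI : IsFractionRing (Localization.Away f) K :=
    IsFractionRing.isFractionRing_of_isDomain_of_isLocalization (Submonoid.powers f) _ _
  obtain ⟨z, hz⟩ := (isIntegrallyClosed_iff (FractionRing R)).mp hn (hx.tower_top (A := Localization.Away f))
  obtain ⟨y, ⟨_, n, rfl⟩, rfl⟩ := IsLocalization.exists_mk'_eq (Submonoid.powers f) z
  refine ⟨n, mem_Mn.mpr ⟨hx, y, ?_⟩⟩
  have e1 : algebraMap (Localization.Away f) K (IsLocalization.mk' _ y (⟨f ^ n, n, rfl⟩ : Submonoid.powers f))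
      * algebraMap R K (f ^ n) = algebraMap R K y := by
    rw [IsScalarTower.algebraMap_apply R (Localization.Away f) K, ← map_mul]
    have := IsLocalization.mk'_spec (Localization.Away f) y (⟨f ^ n, n, rfl⟩ : Submonoid.powers f)
    rw [this, ← IsScalarTower.algebraMap_apply]
  rw [hz] at e1
  rw [← e1, Algebra.smul_def, mul_comm]

/-- the colon ideals `(M_n : M_{n+1})` -/
noncomputable def In (f : R) (n : ℕ) : Ideal R := (Mn f n).colon (Mn f (n + 1) : Set K)

theorem In_mono (f : R) (n : ℕ) : In f n ≤ In f (n + 1) := by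
  intro a ha
  unfold In at ha ⊢
  rw [Submodule.mem_colon] at ha ⊢
  intro x hx
  obtain ⟨hi, r, hr⟩ := mem_Mn.mp hx
  have h1 : f • x ∈ Mn f (n + 1) := by
    refine mem_Mn.mpr ⟨?_, r, ?_⟩
    · rw [Algebra.smul_def]; exact IsIntegral.mul isIntegral_algebraMap hi
    · rw [hr, smul_smul, ← pow_succ]
  obtain ⟨-, r', hr'⟩ := mem_Mn.mp (ha _ h1)
  refine mem_Mn.mpr ⟨?_, r', ?_⟩
  · rw [Algebra.smul_def]; exact IsIntegral.mul isIntegral_algebraMap hi
  · rw [hr', smul_smul, smul_smul, smul_smul, pow_succ]
    congr 1; ring


omit [IsNoetherianRing R] in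
theorem finset_exists_common (m : Ideal R) [m.IsPrime] (X : Finset K) (P : R → K → Prop)
    (hP : ∀ a b x, P a x → P (b * a) x) (h : ∀ x ∈ X, ∃ a, a ∉ m ∧ P a x) :
    ∃ a, a ∉ m ∧ ∀ x ∈ X, P a x := by
  classical
  induction X using Finset.induction_on with
  | empty =>
    exact ⟨1, fun h1 => (Ideal.ne_top_iff_one m).mp (Ideal.IsPrime.ne_top inferInstance) h1, by simp⟩
  | insert x X hx ih =>
    obtain ⟨a, ha, haX⟩ := ih (fun y hy => h y (Finset.mem_insert_of_mem hy))
    obtain ⟨b, hb, hbx⟩ := h x (Finset.mem_insert_self x X)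
    refine ⟨b * a, fun hba => (Ideal.IsPrime.mem_or_mem inferInstance hba).elim hb ha, ?_⟩
    intro y hy
    rcases Finset.mem_insert.mp hy with rfl | hyX
    · rw [mul_comm]; exact hP b a _ hbx
    · exact hP a b y (haX y hyX)

/-- Local-to-global finiteness of the integral closure. -/
theorem finite_integralClosure_of_local (f : R) (hf : f ≠ 0)
    (hn : IsIntegrallyClosed (Localization.Away f))
    (hloc : ∀ (m : Ideal R) [m.IsMaximal],
      Module.Finite (Localization.AtPrime m) (integralClosure (Localization.AtPrime m) K)) :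
    Module.Finite R (integralClosure R K) := by
  classical
  obtain ⟨N, hN⟩ := monotone_stabilizes_iff_noetherian.mpr (inferInstance : IsNoetherian R R)
    ⟨In f, monotone_nat_of_le_succ (In_mono f)⟩
  simp only [OrderHom.coe_mk] at hN
  have htop : In f N = ⊤ := by
    by_contra hne
    obtain ⟨m, hm, hle⟩ := Ideal.exists_le_maximal _ hne
    haveI := hm
    have hfin := hloc m
    obtain ⟨G, hG⟩ := (Module.Finite.iff_fg (N := Subalgebra.toSubmodule (integralClosure (Localization.AtPrime m) K))).mp hfin
    -- common multiplier making G integral over R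
    have hGint : ∀ g ∈ G, IsIntegral (Localization.AtPrime m) g := by
      intro g hg
      have : g ∈ Submodule.span (Localization.AtPrime m) (G : Set K) := Submodule.subset_span hg
      rw [hG] at this
      exact this
    obtain ⟨s, hsm, hs⟩ := finset_exists_common m G (fun a x => IsIntegral R (a • x))
      (fun a b x hx => by
        rw [mul_smul, Algebra.smul_def b]; exact IsIntegral.mul isIntegral_algebraMap hx)
      (fun g hg => by
        obtain ⟨⟨t, ht⟩, hy⟩ := (hGint g hg).exists_multiple_integral_of_isLocalization m.primeCompl _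
        exact ⟨t, ht, hy⟩)
    -- common level
    have hlev : ∃ n0, N ≤ n0 ∧ ∀ g ∈ G, s • g ∈ Mn f n0 := by
      clear hG hGint
      induction G using Finset.induction_on with
      | empty => exact ⟨N, le_rfl, by simp⟩
      | insert g G hg ih =>
        obtain ⟨n1, hn1, h1⟩ := ih (fun y hy => hs y (Finset.mem_insert_of_mem hy))
        obtain ⟨n2, h2⟩ := exists_mem_Mn f hf hn (s • g) (hs g (Finset.mem_insert_self g G))
        refine ⟨max n1 n2, le_trans hn1 (le_max_left _ _), ?_⟩
        intro y hy
        rcases Finset.mem_insert.mp hy with rfl | hyG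
        · exact Mn_mono f (le_max_right _ _) h2
        · exact Mn_mono f (le_max_left _ _) (h1 y hyG)
    obtain ⟨n0, hNn0, hlev⟩ := hlev
    obtain ⟨X, hX⟩ := Mn_fg f hf (n0 + 1)
    have hXmem : ∀ x ∈ X, x ∈ Mn f (n0 + 1) := fun x hx => hX ▸ Submodule.subset_span hx
    obtain ⟨u, hum, hu⟩ := finset_exists_common m X (fun a x => a • x ∈ Mn f n0)
      (fun a b x hx => by rw [mul_smul]; exact Submodule.smul_mem _ b hx)
      (fun x hx => by
        have hxi : IsIntegral R x := (mem_Mn.mp (hXmem x hx)).1
        have hxm : x ∈ Submodule.span (Localization.AtPrime m) (G : Set K) := by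
          rw [hG]; exact hxi.tower_top
        obtain ⟨t, ht⟩ := multiple_mem_span_of_mem_localization_span m.primeCompl
          (Localization.AtPrime m) (G : Set K) x hxm
        refine ⟨s * t, fun hst => (Ideal.IsPrime.mem_or_mem inferInstance hst).elim hsm t.2, ?_⟩
        rw [mul_smul]
        have : ∀ y ∈ Submodule.span R (G : Set K), s • y ∈ Mn f n0 := by
          intro y hy
          induction hy using Submodule.span_induction with
          | mem y hy => exact hlev y hy
          | zero => rw [smul_zero]; exact Submodule.zero_mem _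
          | add y z _ _ hy hz => rw [smul_add]; exact Submodule.add_mem _ hy hz
          | smul a y _ hy => rw [smul_comm]; exact Submodule.smul_mem _ a hy
        exact this _ ht)
    have huI : u ∈ In f n0 := by
      unfold In
      rw [Submodule.mem_colon]
      intro x hx
      rw [SetLike.mem_coe, ← hX] at hx
      induction hx using Submodule.span_induction with
      | mem y hy => exact hu y hy
      | zero => rw [smul_zero]; exact Submodule.zero_mem _
      | add y z _ _ hy hz => rw [smul_add]; exact Submodule.add_mem _ hy hz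
      | smul a y _ hy => rw [smul_comm]; exact Submodule.smul_mem _ a hy
    rw [← hN n0 hNn0] at huI
    exact hum (hle huI)
  -- so M_n = M_N for n ≥ N
  have hstab : ∀ n, N ≤ n → Mn f n = Mn f N := by
    intro n hn'
    induction n, hn' using Nat.le_induction with
    | base => rfl
    | succ n hn' ih =>
      apply le_antisymm
      · have h1 : (1 : R) ∈ In f n := by rw [← hN n hn', htop]; trivial
        unfold In at h1
        rw [Submodule.mem_colon] at h1
        intro x hx
        have := h1 x hx
        rw [one_smul] at this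
        exact ih ▸ this
      · exact Mn_mono f (le_trans hn' (Nat.le_succ n))
  have heq : Subalgebra.toSubmodule (integralClosure R K) = Mn f N := by
    apply le_antisymm
    · intro x hx
      obtain ⟨n, hxn⟩ := exists_mem_Mn f hf hn x hx
      rcases le_total N n with h | h
      · exact hstab n h ▸ hxn
      · exact Mn_mono f h hxn
    · intro x hx; exact (mem_Mn.mp hx).1
  exact Module.Finite.iff_fg.mpr (heq ▸ Mn_fg f hf N)

end


section
variable {R : Type u} [CommRing R] [IsDomain R]

local notation "K" => FractionRing R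

/-- If the integral closure is finite then some `R_f` is integrally closed. -/
theorem exists_isIntegrallyClosed_away_of_finite (h : Module.Finite R (integralClosure R K)) :
    ∃ f : R, f ≠ 0 ∧ IsIntegrallyClosed (Localization.Away f) := by
  classical
  obtain ⟨T, hT⟩ := (Module.Finite.iff_fg (N := Subalgebra.toSubmodule (integralClosure R K))).mp h
  obtain ⟨b, hb⟩ := IsLocalization.exist_integer_multiples_of_finset (nonZeroDivisors R) T
  set f : R := (b : R) with hfdef
  have hf : f ≠ 0 := nonZeroDivisors.ne_zero b.2
  have hall' : ∀ x ∈ Submodule.span R (T : Set K), ∃ r : R, algebraMap R K r = f • x := by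
    intro x hx'
    induction hx' using Submodule.span_induction with
    | mem y hy => exact hb y hy
    | zero => exact ⟨0, by simp⟩
    | add y z _ _ hy hz =>
      obtain ⟨r1, h1⟩ := hy
      obtain ⟨r2, h2⟩ := hz
      exact ⟨r1 + r2, by rw [map_add, h1, h2, smul_add]⟩
    | smul a y _ hy =>
      obtain ⟨r1, h1⟩ := hy
      exact ⟨a * r1, by rw [map_mul, h1, smul_comm, Algebra.smul_def a]⟩
  have hall : ∀ x : K, IsIntegral R x → ∃ r : R, algebraMap R K r = f • x := by
    intro x hx
    apply hall'
    rw [hT]; exact hx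
  refine ⟨f, hf, ?_⟩
  have hle : Submonoid.powers f ≤ nonZeroDivisors R := powers_le_nonZeroDivisors_of_noZeroDivisors hf
  letI : Algebra (Localization.Away f) K :=
    IsLocalization.localizationAlgebraOfSubmonoidLe _ _ (Submonoid.powers f) (nonZeroDivisors R) hle
  haveI : IsScalarTower R (Localization.Away f) K :=
    IsLocalization.localization_isScalarTower_of_submonoid_le _ _ (Submonoid.powers f) (nonZeroDivisors R) hle
  haveI : IsDomain (Localization.Away f) := IsLocalization.isDomain_localization hle
  haveI : IsFractionRing (Localization.Away f) K :=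
    IsFractionRing.isFractionRing_of_isDomain_of_isLocalization (Submonoid.powers f) _ _
  rw [isIntegrallyClosed_iff (FractionRing R)]
  intro x hx
  obtain ⟨⟨_, n, rfl⟩, hy⟩ := hx.exists_multiple_integral_of_isLocalization (Submonoid.powers f) _
  rw [Submonoid.smul_def] at hy
  simp only at hy
  obtain ⟨r, hr⟩ := hall _ hy
  have hfn : f ^ (n + 1) ∈ Submonoid.powers f := ⟨n + 1, rfl⟩
  refine ⟨IsLocalization.mk' _ r (⟨f ^ (n + 1), hfn⟩ : Submonoid.powers f), ?_⟩
  have hfK : algebraMap R K (f ^ (n + 1)) ≠ 0 :=
    (map_ne_zero_iff _ (IsFractionRing.injective R K)).mpr (pow_ne_zero _ hf)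
  have e2 : algebraMap (Localization.Away f) K
      (IsLocalization.mk' _ r (⟨f ^ (n + 1), hfn⟩ : Submonoid.powers f)) * algebraMap R K (f ^ (n + 1))
        = algebraMap R K r := by
    rw [IsScalarTower.algebraMap_apply R (Localization.Away f) K, ← map_mul]
    have := IsLocalization.mk'_spec (Localization.Away f) r (⟨f ^ (n + 1), hfn⟩ : Submonoid.powers f)
    rw [this, ← IsScalarTower.algebraMap_apply]
  apply mul_right_cancel₀ hfK
  rw [e2, hr, smul_smul, ← pow_succ', Algebra.smul_def, mul_comm]

/-- **N-1 is local** (given a normal principal open). -/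
theorem isN1_iff_local [IsNoetherianRing R] :
    CAlg.IsN1 R ↔ ((∃ f : R, f ≠ 0 ∧ IsIntegrallyClosed (Localization.Away f)) ∧
      ∀ (m : Ideal R) [m.IsMaximal], CAlg.IsN1 (Localization.AtPrime m)) := by
  constructor
  · intro h
    refine ⟨exists_isIntegrallyClosed_away_of_finite h, fun m _ => ?_⟩
    exact Groth.Agent.H5.isN1_of_isLocalization R m.primeCompl (Localization.AtPrime m) h
  · rintro ⟨⟨f, hf, hn⟩, hloc⟩
    exact finite_integralClosure_of_local f hf hn (fun m _ =>
      (Groth.Agent.H5.isN1_iff (Localization.AtPrime m) (FractionRing R)).mp (hloc m))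

end

end Groth.Agent.H8.Jap
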