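import Mathlib

set_option autoImplicit false
universe u
open Polynomial

namespace Groth.Agent.H8.Jap.NagFT

section
variable {R K : Type*} [CommRing R] [IsDomain R] [IsIntegrallyClosed R] [Field K] [Algebra R K]
  [IsFractionRing R K]

/-- If `R` is normal, `y ∈ K` and `r = y g(y)` with `g ∈ R[X]`, then `r ∈ yR`. -/
theorem exists_eq_mul_of_aeval (y : K) :
    ∀ (n : ℕ) (g : R[X]) (r : R), g.natDegree ≤ n → algebraMap R K r = y * aeval y g →
      ∃ r' : R, algebraMap R K r = y * algebraMap R K r' := by
  intro n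
  induction n with
  | zero =>
    intro g r hg hr
    rw [eq_C_of_natDegree_eq_zero (Nat.le_zero.mp hg)] at hr
    exact ⟨g.coeff 0, by rw [hr, aeval_C]⟩
  | succ n ih =>
    intro g r hg hr
    by_cases hg' : g.natDegree ≤ n
    · exact ih g r hg' hr
    have hdeg : g.natDegree = n + 1 := le_antisymm hg (by omega)
    have hg0 : g ≠ 0 := by rintro rfl; simp at hdeg
    -- p = X * g - C r
    set p : R[X] := X * g - C r with hp
    have hpy : aeval y p = 0 := by
      rw [hp, map_sub, map_mul, aeval_X, aeval_C, ← hr, sub_self]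
    have hdegXg : (X * g).natDegree = n + 2 := by
      rw [natDegree_X_mul hg0, hdeg]
    have hlead : p.leadingCoeff = g.leadingCoeff := by
      rw [hp, leadingCoeff_sub_of_degree_lt, leadingCoeff_mul, leadingCoeff_X, one_mul]
      refine degree_C_le.trans_lt ?_
      rw [degree_eq_natDegree (mul_ne_zero X_ne_zero hg0), hdegXg]
      exact_mod_cast Nat.succ_pos _
    have hint : IsIntegral R (g.leadingCoeff • y) := by
      rw [← hlead]; exact isIntegral_leadingCoeff_smul p y hpy
    obtain ⟨c', hc'⟩ := IsIntegrallyClosed.isIntegral_iff.mp hint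
    -- g₁
    set g₁ : R[X] := C c' * X ^ n + g.eraseLead with hg₁
    have hg₁deg : g₁.natDegree ≤ n := by
      rw [hg₁]
      refine (natDegree_add_le _ _).trans (max_le ?_ ?_)
      · exact (natDegree_C_mul_X_pow_le c' n)
      · exact (eraseLead_natDegree_le g).trans (by omega)
    have hval : aeval y g = aeval y g₁ := by
      conv_lhs => rw [← eraseLead_add_C_mul_X_pow g]
      rw [hg₁, map_add, map_add, add_comm]
      congr 1
      rw [map_mul, map_mul, aeval_C, aeval_C, map_pow, map_pow, aeval_X, hdeg, hc',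
        Algebra.smul_def, pow_succ]
      ring
    exact ih g₁ r hg₁deg (by rw [hr, hval])

theorem exists_eq_mul_of_mem_adjoin (y : K) (s : K) (hs : s ∈ Algebra.adjoin R {y}) (r : R)
    (hr : algebraMap R K r = y * s) : ∃ r' : R, algebraMap R K r = y * algebraMap R K r' := by
  rw [Algebra.adjoin_singleton_eq_range_aeval] at hs
  obtain ⟨g, rfl⟩ := hs
  exact exists_eq_mul_of_aeval y _ g r le_rfl hr

end

/-- `R[y] = R + y R[y]` -/
theorem exists_sub_mem_span_of_adjoin_eq_top {R S : Type*} [CommRing R] [CommRing S]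
    [Algebra R S] (y : S) (h : Algebra.adjoin R {y} = ⊤) (s : S) :
    ∃ r : R, s - algebraMap R S r ∈ Ideal.span {y} := by
  have hs : s ∈ Algebra.adjoin R {y} := by rw [h]; trivial
  rw [Algebra.adjoin_singleton_eq_range_aeval] at hs
  obtain ⟨g, rfl⟩ := hs
  refine ⟨g.coeff 0, ?_⟩
  have h1 : aeval y g = aeval y (divX g) * y + algebraMap R S (g.coeff 0) := by
    conv_lhs => rw [← divX_mul_X_add g]
    rw [map_add, map_mul, aeval_X, aeval_C]
  show aeval y g - algebraMap R S (g.coeff 0) ∈ Ideal.span {y}
  rw [h1, add_sub_cancel_right]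
  exact Ideal.mul_mem_left _ _ (Ideal.subset_span rfl)

end Groth.Agent.H8.Jap.NagFT
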