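import Mathlib

set_option autoImplicit false
universe u
open Polynomial

namespace Groth.Agent.H8.Jap.NagFT

theorem exists_polynomial_mem_maximal (R S : Type*) [CommRing R] [CommRing S] [Algebra R S]
    (x : S) (hgen : Algebra.adjoin R {x} = ⊤) (m : Ideal S) [hm : m.IsMaximal] :
    ∃ f : R[X], algebraMap R S f.leadingCoeff ∉ m ∧ aeval x f ∈ m ∧ 0 < f.natDegree := by
  set n := m.comap (algebraMap R S) with hn
  haveI : n.IsPrime := Ideal.comap_isPrime _ _
  let φ : R ⧸ n →+* S ⧸ m := Ideal.quotientMap m (algebraMap R S) le_rfl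
  let ψ : (R ⧸ n)[X] →+* S ⧸ m := eval₂RingHom φ (Ideal.Quotient.mk m x)
  have hψ : ∀ g : R[X], ψ (g.map (Ideal.Quotient.mk n)) = Ideal.Quotient.mk m (aeval x g) := by
    intro g
    show eval₂ φ (Ideal.Quotient.mk m x) (g.map (Ideal.Quotient.mk n)) = _
    rw [eval₂_map, aeval_def, hom_eval₂]
    rfl
  have hsurj : Function.Surjective ψ := by
    intro z
    obtain ⟨s, rfl⟩ := Ideal.Quotient.mk_surjective z
    have hs : s ∈ Algebra.adjoin R {x} := by rw [hgen]; trivial
    rw [Algebra.adjoin_singleton_eq_range_aeval] at hs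
    obtain ⟨g, rfl⟩ := hs
    exact ⟨_, hψ g⟩
  have hninj : ¬ Function.Injective ψ := by
    intro hinj
    have e : (R ⧸ n)[X] ≃+* S ⧸ m := RingEquiv.ofBijective ψ ⟨hinj, hsurj⟩
    have hF : IsField (S ⧸ m) := (Ideal.Quotient.maximal_ideal_iff_isField_quotient m).mp hm
    exact Polynomial.not_isField (R ⧸ n) (e.toMulEquiv.isField hF)
  obtain ⟨gb, hgb0, hgb⟩ : ∃ gb : (R ⧸ n)[X], gb ≠ 0 ∧ ψ gb = 0 := by
    by_contra hcon
    push Not at hcon
    apply hninj
    rw [injective_iff_map_eq_zero]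
    intro a ha
    by_contra ha0
    exact hcon a ha0 ha
  have hlift : gb ∈ lifts (Ideal.Quotient.mk n) := by
    rw [mem_lifts]
    exact map_surjective _ Ideal.Quotient.mk_surjective gb
  obtain ⟨g, hg, hgdeg⟩ := exists_degree_eq_of_mem_lifts hlift
  have hnat : g.natDegree = gb.natDegree := natDegree_eq_natDegree hgdeg
  have hlc : algebraMap R S g.leadingCoeff ∉ m := by
    intro h
    have h1 : g.leadingCoeff ∈ n := h
    have h2 : Ideal.Quotient.mk n g.leadingCoeff = 0 := Ideal.Quotient.eq_zero_iff_mem.mpr h1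
    have h3 : gb.leadingCoeff = 0 := by
      rw [leadingCoeff, ← hnat, ← hg, coeff_map]
      exact h2
    exact hgb0 (leadingCoeff_eq_zero.mp h3)
  have hmem : aeval x g ∈ m := by
    rw [← Ideal.Quotient.eq_zero_iff_mem, ← hψ, hg, hgb]
  refine ⟨g, hlc, hmem, ?_⟩
  by_contra hdeg
  have h0 : g.natDegree = 0 := by omega
  have hC := eq_C_of_natDegree_eq_zero h0
  apply hlc
  rw [hC] at hmem
  rw [aeval_C] at hmem
  rw [leadingCoeff, h0]
  exact hmem

end Groth.Agent.H8.Jap.NagFT
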