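import Mathlib

set_option autoImplicit false
universe u
open IsLocalRing

namespace Groth.Agent.H8.Jap.AUK

/-- An integral algebra over a local ring generated by elements having a power in `𝔪 S` is local. -/
theorem isLocalRing_of_adjoin_eq_top (A S : Type*) [CommRing A] [IsLocalRing A] [CommRing S]
    [Nontrivial S] [Algebra A S] [Algebra.IsIntegral A S] (s : Set S)
    (hs : Algebra.adjoin A s = ⊤)
    (hpow : ∀ x ∈ s, ∃ d : ℕ, x ^ d ∈ (maximalIdeal A).map (algebraMap A S)) :
    IsLocalRing S := by
  let J : Ideal S := (maximalIdeal A).map (algebraMap A S) ⊔ Ideal.span s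
  have hsurj : ∀ z : S, ∃ a : A, z - algebraMap A S a ∈ J := by
    intro z
    have hz : z ∈ Algebra.adjoin A s := by rw [hs]; trivial
    induction hz using Algebra.adjoin_induction with
    | mem x hx =>
      exact ⟨0, by rw [map_zero, sub_zero]; exact Ideal.mem_sup_right (Ideal.subset_span hx)⟩
    | algebraMap r => exact ⟨r, by rw [sub_self]; exact J.zero_mem⟩
    | add x y _ _ hx hy =>
      obtain ⟨a, ha⟩ := hx
      obtain ⟨b, hb⟩ := hy
      refine ⟨a + b, ?_⟩
      have : x + y - algebraMap A S (a + b) = (x - algebraMap A S a) + (y - algebraMap A S b) := by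
        rw [map_add]; ring
      rw [this]; exact J.add_mem ha hb
    | mul x y _ _ hx hy =>
      obtain ⟨a, ha⟩ := hx
      obtain ⟨b, hb⟩ := hy
      refine ⟨a * b, ?_⟩
      have : x * y - algebraMap A S (a * b) =
          (x - algebraMap A S a) * y + algebraMap A S a * (y - algebraMap A S b) := by
        rw [map_mul]; ring
      rw [this]
      exact J.add_mem (J.mul_mem_right _ ha) (J.mul_mem_left _ hb)
  have hmax : ∀ M : Ideal S, M.IsMaximal → M = J := by
    intro M hM
    have hcomap : M.comap (algebraMap A S) = maximalIdeal A :=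
      IsLocalRing.eq_maximalIdeal (Ideal.isMaximal_comap_of_isIntegral_of_isMaximal M)
    have hmM : (maximalIdeal A).map (algebraMap A S) ≤ M := by
      rw [Ideal.map_le_iff_le_comap, hcomap]
    have hJM : J ≤ M := by
      refine sup_le hmM ?_
      rw [Ideal.span_le]
      intro x hx
      obtain ⟨d, hd⟩ := hpow x hx
      exact hM.isPrime.mem_of_pow_mem d (hmM hd)
    refine le_antisymm ?_ hJM
    intro z hz
    obtain ⟨a, ha⟩ := hsurj z
    have h1 : algebraMap A S a ∈ M := by
      have : algebraMap A S a = z - (z - algebraMap A S a) := by ring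
      rw [this]; exact M.sub_mem hz (hJM ha)
    have h2 : a ∈ maximalIdeal A := by rw [← hcomap]; exact h1
    have : z = (z - algebraMap A S a) + algebraMap A S a := by ring
    rw [this]
    exact J.add_mem ha (Ideal.mem_sup_left (Ideal.mem_map_of_mem _ h2))
  obtain ⟨M, hM⟩ := Ideal.exists_maximal S
  exact IsLocalRing.of_unique_max_ideal ⟨M, hM, fun M' hM' => (hmax M' hM').trans (hmax M hM).symm⟩

open Polynomial in
/-- if `b` is integral over `A` and `μ ∈ 𝔪`, a power of `μ b` lies in `𝔪 S` for any subalgebra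
`S` containing `μ b` -/
theorem exists_pow_mem_map_of_isIntegral (A L : Type*) [CommRing A] [CommRing L] [Algebra A L]
    (m : Ideal A) (μ : A) (hμ : μ ∈ m) (b : L) (hb : IsIntegral A b) (S : Subalgebra A L)
    (hS : μ • b ∈ S) : ∃ d : ℕ, (⟨μ • b, hS⟩ : S) ^ d ∈ m.map (algebraMap A S) := by
  obtain ⟨p, hp, hpb⟩ := hb
  let f := scaleRoots p μ
  have hfm : f.Monic := (monic_scaleRoots_iff μ).mpr hp
  have hfE : f.IsWeaklyEisensteinAt m := by
    refine ⟨fun {n} hn => ?_⟩
    rw [natDegree_scaleRoots] at hn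
    rw [coeff_scaleRoots]
    apply Ideal.mul_mem_left
    obtain ⟨k, hk⟩ : ∃ k, p.natDegree - n = k + 1 := ⟨p.natDegree - n - 1, by omega⟩
    rw [hk, pow_succ]
    exact Ideal.mul_mem_left _ _ hμ
  have hroot : (f.map (algebraMap A S)).IsRoot ⟨μ • b, hS⟩ := by
    rw [IsRoot.def, eval_map_algebraMap]
    apply Subtype.val_injective
    rw [aeval_subalgebra_coe]
    show aeval (μ • b) f = _
    rw [Algebra.smul_def]
    exact scaleRoots_aeval_eq_zero (by rw [← aeval_def] at hpb; exact hpb)
  exact ⟨_, (hfE.map (algebraMap A S)).pow_natDegree_le_of_root_of_monic_mem hroot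
    (hfm.map _) _ le_rfl⟩

theorem exists_local_adjoin (A K L : Type*) [CommRing A] [IsDomain A] [IsLocalRing A] [Field K]
    [Algebra A K] [IsFractionRing A K] [Field L] [Algebra A L] [Algebra K L]
    [IsScalarTower A K L] [FiniteDimensional K L] :
    ∃ s : Set L, s.Finite ∧ Submodule.span K s = ⊤ ∧ (∀ x ∈ s, IsIntegral A x) ∧
      IsLocalRing (Algebra.adjoin A s) := by
  classical
  obtain ⟨ι, b, hb⟩ := FiniteDimensional.exists_is_basis_integral A K L
  by_cases hm : maximalIdeal A = ⊥
  · have hA : IsField A := IsLocalRing.isField_iff_maximalIdeal_eq.mpr hm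
    refine ⟨Set.range b, Set.finite_range b, b.span_eq, by rintro _ ⟨i, rfl⟩; exact hb i, ?_⟩
    haveI : Algebra.IsIntegral A (Algebra.adjoin A (Set.range b)) :=
      Algebra.IsIntegral.adjoin (by rintro _ ⟨i, rfl⟩; exact hb i)
    have hF : IsField (Algebra.adjoin A (Set.range b)) := isField_of_isIntegral_of_isField' hA
    refine IsLocalRing.of_isUnit_or_isUnit_one_sub_self (fun a => ?_)
    by_cases ha : a = 0
    · right; rw [ha, sub_zero]; exact isUnit_one
    · left
      obtain ⟨a', ha'⟩ := hF.mul_inv_cancel ha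
      exact IsUnit.of_mul_eq_one _ ha'
  · obtain ⟨μ, hμm, hμ0⟩ : ∃ μ ∈ maximalIdeal A, μ ≠ 0 := by
      by_contra hcon
      push Not at hcon
      exact hm ((Submodule.eq_bot_iff _).mpr hcon)
    have hμK : algebraMap A K μ ≠ 0 := fun h0 =>
      hμ0 (IsFractionRing.injective A K (by rw [h0, map_zero]))
    let s : Set L := Set.range (fun i => μ • b i)
    have hsint : ∀ x ∈ s, IsIntegral A x := by
      rintro _ ⟨i, rfl⟩; exact (hb i).smul μ
    refine ⟨s, Set.finite_range _, ?_, hsint, ?_⟩
    · rw [eq_top_iff, ← b.span_eq, Submodule.span_le]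
      rintro _ ⟨i, rfl⟩
      have : b i = (algebraMap A K μ)⁻¹ • (μ • b i) := by
        rw [← algebraMap_smul K μ (b i), smul_smul, inv_mul_cancel₀ hμK, one_smul]
      rw [this]
      exact Submodule.smul_mem _ _ (Submodule.subset_span ⟨i, rfl⟩)
    · haveI : Algebra.IsIntegral A (Algebra.adjoin A s) := Algebra.IsIntegral.adjoin hsint
      refine isLocalRing_of_adjoin_eq_top A (Algebra.adjoin A s)
        (((↑) : Algebra.adjoin A s → L) ⁻¹' s) Algebra.adjoin_adjoin_coe_preimage ?_
      rintro ⟨x, hxS⟩ ⟨i, hi⟩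
      have hi' : μ • b i = x := hi
      subst hi'
      exact exists_pow_mem_map_of_isIntegral A L (maximalIdeal A) μ hμm (b i) (hb i) _ hxS

end Groth.Agent.H8.Jap.AUK
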