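import Mathlib
import Groth.Prelude.Def_Found
set_option autoImplicit false
universe u
open Module TensorProduct

namespace Groth.Agent.H8.Jap.AU

section
variable (R : Type u) [CommRing R] [IsDomain R] (T : Type u) [CommRing T] [Algebra R T]
  [Module.Flat R T]

local notation "K" => FractionRing R

/-- nonzero elements of `R` are nonzerodivisors on a flat algebra -/
theorem algebraMap_mem_nonZeroDivisors {r : R} (hr : r ≠ 0) :
    algebraMap R T r ∈ nonZeroDivisors T := by
  have h1 : IsSMulRegular R r := (IsRegular.of_ne_zero hr).isSMulRegular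
  have h2 : IsSMulRegular T (algebraMap R T r) := IsSMulRegular.of_flat h1
  rw [mem_nonZeroDivisors_iff_right]
  intro x hx
  apply h2
  simp only [smul_eq_mul, mul_zero]
  rw [mul_comm]; exact hx

theorem algebraMap_notMem_of_mem_minimalPrimes {q : Ideal T} (hq : q ∈ minimalPrimes T) {r : R}
    (hr : r ≠ 0) : algebraMap R T r ∉ q := fun h =>
  Set.disjoint_left.mp (Ideal.disjoint_nonZeroDivisors_of_mem_minimalPrimes hq) h
    (algebraMap_mem_nonZeroDivisors R T hr)

/-- every element of `T ⊗ K` is `t ⊗ 1` up to a nonzero scalar -/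
theorem exists_smul_eq_tmul_one (y : T ⊗[R] K) : ∃ (t : T) (s : R), s ≠ 0 ∧ s • y = t ⊗ₜ[R] (1 : K) := by
  induction y using TensorProduct.induction_on with
  | zero => exact ⟨0, 1, one_ne_zero, by simp⟩
  | tmul t k =>
    obtain ⟨a, s, hs, rfl⟩ := IsFractionRing.div_surjective (A := R) k
    refine ⟨a • t, s, nonZeroDivisors.ne_zero hs, ?_⟩
    rw [TensorProduct.smul_tmul', TensorProduct.smul_tmul, TensorProduct.smul_tmul]
    congr 1
    rw [Algebra.smul_def, Algebra.smul_def, mul_one]
    have hs0 : algebraMap R K s ≠ 0 :=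
      (map_ne_zero_iff _ (IsFractionRing.injective R K)).mpr (nonZeroDivisors.ne_zero hs)
    field_simp
  | add y y' hy hy' =>
    obtain ⟨t, s, hs, e⟩ := hy
    obtain ⟨t', s', hs', e'⟩ := hy'
    refine ⟨s' • t + s • t', s * s', mul_ne_zero hs hs', ?_⟩
    rw [smul_add, mul_smul, mul_smul, smul_comm s s' y, e, e',
      TensorProduct.add_tmul, TensorProduct.smul_tmul', TensorProduct.smul_tmul']

omit [Module.Flat R T] in
theorem eq_zero_of_smul_eq_zero (s : R) (hs : s ≠ 0) (y : T ⊗[R] K) (h : s • y = 0) : y = 0 := by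
  let m : K →ₗ[R] K := LinearMap.mulLeft R ((algebraMap R K s)⁻¹)
  have hs0 : algebraMap R K s ≠ 0 := (map_ne_zero_iff _ (IsFractionRing.injective R K)).mpr hs
  have key : ∀ y : T ⊗[R] K, LinearMap.lTensor T m (s • y) = y := by
    intro y
    induction y using TensorProduct.induction_on with
    | zero => simp
    | tmul t k =>
      rw [TensorProduct.smul_tmul', TensorProduct.smul_tmul, LinearMap.lTensor_tmul]
      congr 1
      simp only [m, LinearMap.mulLeft_apply, Algebra.smul_def]
      field_simp
    | add a b ha hb => rw [smul_add, map_add, ha, hb]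
  rw [← key y, h, map_zero]

end

section main
variable (R : Type u) [CommRing R] [IsDomain R]
  (T : Type u) [CommRing T] [Algebra R T] [Module.Flat R T]

local notation "K" => FractionRing R

set_option linter.unusedSectionVars false
/-- minimal primes as a type -/
abbrev MinP := {q : Ideal T // q ∈ minimalPrimes T}

instance (q : MinP T) : q.1.IsPrime := q.2.1.1

theorem algebraMap_Fq_injective (q : MinP T) :
    Function.Injective (algebraMap R (FractionRing (T ⧸ q.1))) := by
  rw [injective_iff_map_eq_zero]
  intro r hr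
  by_contra hr0
  have h1 : algebraMap R T r ∉ q.1 := algebraMap_notMem_of_mem_minimalPrimes R T q.2 hr0
  apply h1
  rw [IsScalarTower.algebraMap_apply R (T ⧸ q.1) (FractionRing (T ⧸ q.1)),
    IsScalarTower.algebraMap_apply R T (T ⧸ q.1)] at hr
  have := (IsFractionRing.injective (T ⧸ q.1) (FractionRing (T ⧸ q.1))) (hr.trans (map_zero _).symm)
  exact Ideal.Quotient.eq_zero_iff_mem.mp this

/-- `K → Frac (T/q)` -/
noncomputable def theta (q : MinP T) : K →ₐ[R] FractionRing (T ⧸ q.1) :=
  IsFractionRing.liftAlgHom (g := Algebra.ofId R (FractionRing (T ⧸ q.1)))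
    (algebraMap_Fq_injective R T q)

/-- `K → ∏ Frac (T/q)` -/
noncomputable def gK : K →ₐ[R] (∀ q : MinP T, FractionRing (T ⧸ q.1)) :=
  AlgHom.pi (theta R T)

/-- `T ⊗ K → ∏ Frac (T/q)` -/
noncomputable def PsiK : T ⊗[R] K →ₐ[T] (∀ q : MinP T, FractionRing (T ⧸ q.1)) :=
  Algebra.TensorProduct.lift (Algebra.ofId T _) (gK R T) (fun _ _ => Commute.all _ _)

theorem PsiK_tmul (t : T) (k : K) (q : MinP T) :
    PsiK R T (t ⊗ₜ k) q = algebraMap T (FractionRing (T ⧸ q.1)) t * theta R T q k := by
  simp [PsiK, gK, Algebra.ofId_apply]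

theorem PsiK_injective [IsReduced T] : Function.Injective (PsiK R T) := by
  rw [injective_iff_map_eq_zero]
  intro y hy
  obtain ⟨t, s, hs, e⟩ := exists_smul_eq_tmul_one R T y
  have h1 : PsiK R T (t ⊗ₜ 1) = 0 := by
    rw [← e, ← algebraMap_smul T s y, map_smul, hy, smul_zero]
  have ht : t = 0 := by
    have : t ∈ sInf (minimalPrimes T) := by
      rw [Ideal.mem_sInf]
      intro q hq
      have h2 := congrFun h1 ⟨q, hq⟩
      rw [PsiK_tmul, map_one, mul_one, Pi.zero_apply,
        IsScalarTower.algebraMap_apply T (T ⧸ q) (FractionRing (T ⧸ q))] at h2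
      haveI : q.IsPrime := hq.1.1
      have := (IsFractionRing.injective (T ⧸ q) (FractionRing (T ⧸ q))) (h2.trans (map_zero _).symm)
      exact Ideal.Quotient.eq_zero_iff_mem.mp this
    have h3 : sInf (minimalPrimes T) = nilradical T := Ideal.sInf_minimalPrimes
    rw [h3, nilradical_eq_zero T] at this
    exact this
  rw [ht, TensorProduct.zero_tmul] at e
  exact eq_zero_of_smul_eq_zero R T s hs y e

/-- **Descent of N-1** along a faithfully flat reduced Noetherian extension whose irreducible
components are N-1. -/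
theorem isN1_of_faithfullyFlat [Module.FaithfullyFlat R T] [IsNoetherianRing T]
    [IsReduced T] (h : ∀ (q : Ideal T) [q.IsPrime], q ∈ minimalPrimes T → CAlg.IsN1 (T ⧸ q)) :
    CAlg.IsN1 R := by
  classical
  haveI : Finite (MinP T) := (minimalPrimes.finite_of_isNoetherianRing T).to_subtype
  let R' := integralClosure R K
  -- the T-linear map
  let Ψ : T ⊗[R] R' →ₗ[T] (∀ q : MinP T, FractionRing (T ⧸ q.1)) :=
    (PsiK R T).toLinearMap ∘ₗ (TensorProduct.AlgebraTensorModule.lTensor T T R'.val.toLinearMap)
  have hΨ : ∀ (t : T) (x : R') (q : MinP T), Ψ (t ⊗ₜ x) q =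
      algebraMap T (FractionRing (T ⧸ q.1)) t * theta R T q (x : K) := by
    intro t x q
    exact PsiK_tmul R T t (x : K) q
  have hΨinj : Function.Injective Ψ := by
    refine (PsiK_injective R T).comp ?_
    exact Module.Flat.lTensor_preserves_injective_linearMap (M := T) R'.val.toLinearMap
      Subtype.val_injective
  -- target submodule
  let C' : Submodule T (∀ q : MinP T, FractionRing (T ⧸ q.1)) :=
    Submodule.pi Set.univ (fun q => (Subalgebra.toSubmodule
      (integralClosure (T ⧸ q.1) (FractionRing (T ⧸ q.1)))).restrictScalars T)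
  have hC'fg : C'.FG := by
    apply Submodule.fg_pi
    intro q
    exact Submodule.FG.restrictScalars_of_surjective (Module.Finite.iff_fg.mp (h q.1 q.2))
      Ideal.Quotient.mk_surjective
  have hle : ∀ z, Ψ z ∈ C' := by
    intro z
    induction z using TensorProduct.induction_on with
    | zero => rw [map_zero]; exact Submodule.zero_mem _
    | tmul t x =>
      rw [Submodule.mem_pi]
      intro q _
      rw [hΨ]
      show _ ∈ integralClosure (T ⧸ q.1) (FractionRing (T ⧸ q.1))
      refine Subalgebra.mul_mem _ ?_ ?_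
      · rw [IsScalarTower.algebraMap_apply T (T ⧸ q.1) (FractionRing (T ⧸ q.1))]
        exact Subalgebra.algebraMap_mem _ _
      · have hx : IsIntegral R (x : K) := x.2
        exact (hx.map (theta R T q)).tower_top
    | add a b ha hb => rw [map_add]; exact Submodule.add_mem _ ha hb
  haveI : IsNoetherian T C' := isNoetherian_of_fg_of_noetherian _ hC'fg
  haveI : Module.Finite T (T ⊗[R] R') :=
    Module.Finite.of_injective (Ψ.codRestrict C' hle)
      (fun a b hab => hΨinj (congrArg Subtype.val hab))
  exact Module.Finite.of_finite_tensorProduct_of_faithfullyFlat T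

end main

end Groth.Agent.H8.Jap.AU
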