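import Mathlib
set_option autoImplicit false
universe u
open Module

namespace Groth.Agent.H8.Jap.AUK

/-- In a normal Noetherian domain, an associated prime `p` of `A/(x)` is "locally principal":
there is `π ∈ p` with `p A_p = π A_p`. -/
theorem exists_principal_of_mem_associatedPrimes (A : Type u) [CommRing A] [IsDomain A]
    [IsNoetherianRing A] [IsIntegrallyClosed A] (x : A) (hx : x ≠ 0) (p : Ideal A)
    (hp : p ∈ associatedPrimes A (A ⧸ Ideal.span {x})) :
    ∃ π ∈ p, ∀ a ∈ p, ∃ t : A, t ∉ p ∧ t * a ∈ Ideal.span {π} := by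
  obtain ⟨hprime, zb, hz⟩ := isAssociatedPrime_iff.mp hp
  obtain ⟨z, rfl⟩ := Ideal.Quotient.mk_surjective zb
  have hmem : ∀ a : A, a ∈ p ↔ ∃ c : A, a * z = x * c := by
    intro a
    rw [hz, Submodule.mem_colon_singleton, Submodule.mem_bot]
    change Ideal.Quotient.mk (Ideal.span {x}) (a * z) = 0 ↔ _
    rw [Ideal.Quotient.eq_zero_iff_mem, Ideal.mem_span_singleton']
    exact ⟨fun ⟨c, hc⟩ => ⟨c, by rw [← hc, mul_comm]⟩, fun ⟨c, hc⟩ => ⟨c, by rw [hc, mul_comm]⟩⟩
  have hxp : x ∈ p := (hmem x).mpr ⟨z, by ring⟩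
  by_contra hcon
  push Not at hcon
  -- so for all π ∈ p there is a ∈ p such that all t with t a ∈ (π) lie in p
  have key : ∀ a ∈ p, ∀ c : A, a * z = x * c → c ∈ p := by
    intro a ha c hc
    by_contra hcp
    obtain ⟨a', ha', h'⟩ := hcon a ha
    obtain ⟨c', hc'⟩ := (hmem a').mp ha'
    -- t := c, t * a' = a * c' ?
    apply h' c hcp
    rw [Ideal.mem_span_singleton']
    refine ⟨c', ?_⟩
    apply mul_left_cancel₀ hx
    calc x * (c' * a) = (x * c') * a := by ring
      _ = (a' * z) * a := by rw [hc']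
      _ = a' * (a * z) := by ring
      _ = a' * (x * c) := by rw [hc]
      _ = x * (c * a') := by ring
  -- y = z / x is integral
  let K := FractionRing A
  let y : K := algebraMap A K z / algebraMap A K x
  have hxK : algebraMap A K x ≠ 0 := (map_ne_zero_iff _ (IsFractionRing.injective A K)).mpr hx
  let N : Submodule A K := Submodule.map (Algebra.linearMap A K) p
  have hN0 : N ≠ ⊥ := by
    intro h
    have : algebraMap A K x ∈ N := ⟨x, hxp, rfl⟩
    rw [h, Submodule.mem_bot] at this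
    exact hxK this
  have hNfg : N.FG := Submodule.FG.map _ (IsNoetherian.noetherian p)
  have hyN : ∀ n ∈ N, y • n ∈ N := by
    rintro _ ⟨a, ha, rfl⟩
    obtain ⟨c, hc⟩ := (hmem a).mp ha
    refine ⟨c, key a ha c hc, ?_⟩
    show algebraMap A K c = y * algebraMap A K a
    have : algebraMap A K a * algebraMap A K z = algebraMap A K x * algebraMap A K c := by
      rw [← map_mul, ← map_mul, hc]
    show _ = algebraMap A K z / algebraMap A K x * algebraMap A K a
    rw [div_mul_eq_mul_div, eq_div_iff hxK, mul_comm, ← this, mul_comm]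
  have hyint : IsIntegral A y := isIntegral_of_smul_mem_submodule N hN0 hNfg y hyN
  obtain ⟨w, hw⟩ := IsIntegrallyClosed.isIntegral_iff.mp hyint
  -- then z = x w, so 1 ∈ p
  have h1 : (1 : A) ∈ p := by
    rw [hmem]
    refine ⟨w, ?_⟩
    apply IsFractionRing.injective A K
    rw [map_mul, map_mul, hw, map_one, one_mul]
    show _ = algebraMap A K x * (algebraMap A K z / algebraMap A K x)
    rw [mul_div_cancel₀ _ hxK]
  exact hprime.ne_top ((Ideal.eq_top_iff_one p).mpr h1)

open IsLocalRing in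
/-- A Noetherian local ring whose maximal ideal is generated by a nonzerodivisor is reduced. -/
theorem isReduced_of_maximalIdeal_eq_span (C : Type*) [CommRing C] [IsLocalRing C]
    [IsNoetherianRing C] (ϖ : C) (hϖ : ϖ ∈ nonZeroDivisors C)
    (hm : maximalIdeal C = Ideal.span {ϖ}) : IsReduced C := by
  refine ⟨fun u hu => ?_⟩
  by_contra hu0
  have hK : (⨅ n : ℕ, (maximalIdeal C) ^ n) = ⊥ :=
    Ideal.iInf_pow_eq_bot_of_isLocalRing _ (maximalIdeal.isMaximal C).ne_top
  have hex : ∃ n, u ∉ (maximalIdeal C) ^ n := by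
    by_contra h
    push Not at h
    apply hu0
    have : u ∈ ⨅ n : ℕ, (maximalIdeal C) ^ n := (Ideal.mem_iInf).mpr h
    rw [hK] at this
    exact this
  classical
  have hn : u ∉ (maximalIdeal C) ^ (Nat.find hex) := Nat.find_spec hex
  have hn0 : Nat.find hex ≠ 0 := by
    intro h0
    rw [h0, pow_zero, Ideal.one_eq_top] at hn
    exact hn trivial
  obtain ⟨k, hk⟩ := Nat.exists_eq_succ_of_ne_zero hn0
  have huk : u ∈ (maximalIdeal C) ^ k := by
    by_contra h
    exact Nat.find_min hex (by rw [hk]; exact Nat.lt_succ_self k) h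
  rw [hm, Ideal.span_singleton_pow, Ideal.mem_span_singleton] at huk
  obtain ⟨v, rfl⟩ := huk
  have hv : IsUnit v := by
    by_contra hv
    have hvm : v ∈ maximalIdeal C := (mem_maximalIdeal v).mpr hv
    rw [hm, Ideal.mem_span_singleton] at hvm
    obtain ⟨w, rfl⟩ := hvm
    apply hn
    rw [hk, hm, Ideal.span_singleton_pow, Ideal.mem_span_singleton]
    exact ⟨w, by rw [Nat.succ_eq_add_one, pow_succ]; ring⟩
  obtain ⟨j, hj⟩ := hu
  rw [mul_pow] at hj
  have h0 : (ϖ ^ k) ^ j = 0 := (hv.pow j).mul_left_eq_zero.mp hj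
  have h2 : (ϖ ^ k) ^ j ∈ nonZeroDivisors C := pow_mem (pow_mem hϖ _) _
  exact nonZeroDivisors.ne_zero h2 h0

end Groth.Agent.H8.Jap.AUK
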