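import Mathlib
import Groth.Agent.Lib.Helper8.Japanese.AUK1
import Groth.Agent.Lib.Helper8.Japanese.AU1
import Groth.Agent.Lib.Helper1.AssFlat

set_option autoImplicit false
universe u
open TensorProduct

namespace Groth.Agent.H8.Jap.AUK

section
variable {A B : Type u} [CommRing A] [IsNoetherianRing A] [CommRing B]
  [Algebra A B] [Module.Flat A B]

/-- an associated prime `P` of `B/IB` contracts to an associated prime `p` of `A/I`
and `P` is associated to `B/pB`. -/
theorem ass_step (I : Ideal A) (P : Ideal B)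
    (hP : P ∈ associatedPrimes B (B ⧸ I.map (algebraMap A B))) :
    P.comap (algebraMap A B) ∈ associatedPrimes A (A ⧸ I) ∧
    P ∈ associatedPrimes B (B ⧸ (P.comap (algebraMap A B)).map (algebraMap A B)) := by
  rw [LinearEquiv.AssociatedPrimes.eq
    (Algebra.TensorProduct.quotIdealMapEquivTensorQuot B I).toLinearEquiv] at hP
  refine ⟨H1.AssFlat.comap_mem_associatedPrimes B _ P hP, ?_⟩
  have h2 := H1.AssFlat.mem_associatedPrimes_quot_comap_of_finite B _ P hP
  rw [← LinearEquiv.AssociatedPrimes.eq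
    (Algebra.TensorProduct.quotIdealMapEquivTensorQuot B
      (P.comap (algebraMap A B))).toLinearEquiv] at h2
  exact h2

end

/-- For a radical ideal `J` in a Noetherian ring, an associated prime `P` of `B/J` has a witness
`s ∉ P` with `s P ⊆ J`. -/
theorem exists_notMem_mul_mem {B : Type*} [CommRing B] [IsNoetherianRing B] (J : Ideal B)
    (hJ : J.IsRadical) (P : Ideal B) (hP : P ∈ associatedPrimes B (B ⧸ J)) :
    ∃ s : B, s ∉ P ∧ ∀ u ∈ P, s * u ∈ J := by
  obtain ⟨hprime, zb, hz⟩ := isAssociatedPrime_iff.mp hP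
  obtain ⟨z, rfl⟩ := Ideal.Quotient.mk_surjective zb
  have hmem : ∀ u : B, u ∈ P ↔ u * z ∈ J := by
    intro u
    rw [hz, Submodule.mem_colon_singleton, Submodule.mem_bot]
    change Ideal.Quotient.mk J (u * z) = 0 ↔ _
    rw [Ideal.Quotient.eq_zero_iff_mem]
  refine ⟨z, fun hzP => ?_, fun u hu => by rw [mul_comm]; exact (hmem u).mp hu⟩
  have h1 : z * z ∈ J := (hmem z).mp hzP
  have h2 : z ∈ J := hJ ⟨2, by rwa [pow_two]⟩
  exact hprime.ne_top ((Ideal.eq_top_iff_one P).mpr ((hmem 1).mpr (by rwa [one_mul])))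

open IsLocalRing in
/-- Key local statement: if `P ∈ Ass_B(B/xB)`, then `B_P` is reduced. -/
theorem isReduced_localization_of_ass {A B : Type u} [CommRing A] [IsDomain A]
    [IsNoetherianRing A] [CommRing B] [IsNoetherianRing B] [Algebra A B] [Module.Flat A B]
    (x : A) (hx : x ≠ 0)
    (ha : ∀ p ∈ associatedPrimes A (A ⧸ Ideal.span {x}), ∃ π ∈ p, ∀ a ∈ p,
      ∃ t : A, t ∉ p ∧ t * a ∈ Ideal.span {π})
    (hb : ∀ p ∈ associatedPrimes A (A ⧸ Ideal.span {x}),
      IsReduced (B ⧸ p.map (algebraMap A B)))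
    (P : Ideal B) [P.IsPrime]
    (hP : P ∈ associatedPrimes B (B ⧸ (Ideal.span {x}).map (algebraMap A B))) :
    IsReduced (Localization.AtPrime P) := by
  obtain ⟨hp, hP'⟩ := ass_step (Ideal.span {x}) P hP
  set p := P.comap (algebraMap A B) with hpdef
  obtain ⟨π, hπp, hπ⟩ := ha p hp
  haveI := hb p hp
  have hrad : (p.map (algebraMap A B)).IsRadical :=
    (Ideal.isRadical_iff_quotient_reduced _).mpr inferInstance
  obtain ⟨s, hsP, hs⟩ := exists_notMem_mul_mem _ hrad P hP'
  have hxp : x ∈ p := by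
    obtain ⟨_, w, hw⟩ := isAssociatedPrime_iff.mp hp
    rw [hw, Submodule.mem_colon_singleton, Submodule.mem_bot]
    obtain ⟨w, rfl⟩ := Ideal.Quotient.mk_surjective w
    change Ideal.Quotient.mk _ (x * w) = 0
    rw [Ideal.Quotient.eq_zero_iff_mem]
    exact Ideal.mul_mem_right _ _ (Ideal.subset_span rfl)
  have hπ0 : π ≠ 0 := by
    rintro rfl
    obtain ⟨t, htp, ht⟩ := hπ x hxp
    rw [Ideal.span_singleton_eq_bot.mpr rfl, Ideal.mem_bot] at ht
    rcases mul_eq_zero.mp ht with h | h
    · exact htp (h ▸ p.zero_mem)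
    · exact hx h
  let C := Localization.AtPrime P
  let ϖ : C := algebraMap B C (algebraMap A B π)
  have hϖ : ϖ ∈ nonZeroDivisors C := by
    have h1 : algebraMap A B π ∈ nonZeroDivisors B :=
      AU.algebraMap_mem_nonZeroDivisors A B hπ0
    exact IsLocalization.map_nonZeroDivisors_le P.primeCompl C (Submonoid.mem_map_of_mem _ h1)
  apply isReduced_of_maximalIdeal_eq_span C ϖ hϖ
  apply le_antisymm
  · rw [← Localization.AtPrime.map_eq_maximalIdeal, Ideal.map_le_iff_le_comap]
    intro u hu
    rw [Ideal.mem_comap]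
    have h1 : s * u ∈ p.map (algebraMap A B) := hs u hu
    have h2 : (p.map (algebraMap A B)).map (algebraMap B C) ≤ Ideal.span {ϖ} := by
      rw [Ideal.map_map, Ideal.map_le_iff_le_comap]
      intro a hap
      obtain ⟨t, htp, ht⟩ := hπ a hap
      rw [Ideal.mem_comap]
      obtain ⟨c, hc⟩ := Ideal.mem_span_singleton'.mp ht
      have hunit : IsUnit (algebraMap B C (algebraMap A B t)) :=
        IsLocalization.map_units C (⟨algebraMap A B t, htp⟩ : P.primeCompl)
      have h3 : algebraMap B C (algebraMap A B t) * algebraMap B C (algebraMap A B a) ∈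
          Ideal.span {ϖ} := by
        rw [← map_mul, ← map_mul, ← hc, map_mul, map_mul]
        exact Ideal.mul_mem_left _ _ (Ideal.subset_span rfl)
      exact (Ideal.unit_mul_mem_iff_mem _ hunit).mp h3
    have hsu : IsUnit (algebraMap B C s) := IsLocalization.map_units C (⟨s, hsP⟩ : P.primeCompl)
    have h3 := h2 (Ideal.mem_map_of_mem (algebraMap B C) h1)
    rw [map_mul] at h3
    exact (Ideal.unit_mul_mem_iff_mem _ hsu).mp h3
  · rw [Ideal.span_singleton_le_iff_mem, ← Localization.AtPrime.map_eq_maximalIdeal]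
    exact Ideal.mem_map_of_mem _ hπp

/-- **Key lemma for analytic unramifiedness.** -/
theorem isReduced_of_ass {A B : Type u} [CommRing A] [IsDomain A]
    [IsNoetherianRing A] [CommRing B] [IsNoetherianRing B] [Algebra A B] [Module.Flat A B]
    (x : A) (hx : x ≠ 0) (hjac : algebraMap A B x ∈ Ideal.jacobson (⊥ : Ideal B))
    (ha : ∀ p ∈ associatedPrimes A (A ⧸ Ideal.span {x}), ∃ π ∈ p, ∀ a ∈ p,
      ∃ t : A, t ∉ p ∧ t * a ∈ Ideal.span {π})
    (hb : ∀ p ∈ associatedPrimes A (A ⧸ Ideal.span {x}),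
      IsReduced (B ⧸ p.map (algebraMap A B))) : IsReduced B := by
  have hxB : algebraMap A B x ∈ nonZeroDivisors B :=
    AU.algebraMap_mem_nonZeroDivisors A B hx
  -- (I) nilpotents lie in `xB`
  have hI : ∀ b : B, IsNilpotent b → b ∈ (Ideal.span {x}).map (algebraMap A B) := by
    intro b hb'
    by_contra hbx
    have hne : (Ideal.Quotient.mk ((Ideal.span {x}).map (algebraMap A B)) b) ≠ 0 := by
      rwa [Ne, Ideal.Quotient.eq_zero_iff_mem]
    obtain ⟨P, hPass, hle⟩ := exists_le_isAssociatedPrime_of_isNoetherianRing B _ hne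
    haveI : P.IsPrime := hPass.isPrime
    haveI := isReduced_localization_of_ass x hx ha hb P hPass
    have h0 : algebraMap B (Localization.AtPrime P) b = 0 :=
      (hb'.map (algebraMap B (Localization.AtPrime P))).eq_zero
    obtain ⟨⟨s, hs⟩, hsb⟩ := (IsLocalization.map_eq_zero_iff P.primeCompl _ b).mp h0
    apply hs
    apply hle
    rw [Submodule.mem_colon_singleton, Submodule.mem_bot]
    change Ideal.Quotient.mk _ (s * b) = 0
    rw [hsb, map_zero]
  -- (II) Nakayama
  have hN : nilradical B = ⊥ := by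
    apply Submodule.eq_bot_of_le_smul_of_le_jacobson_bot (Ideal.span {algebraMap A B x})
      (nilradical B) (IsNoetherian.noetherian _)
    · intro b hb'
      have h1 := hI b hb'
      rw [Ideal.map_span, Set.image_singleton] at h1
      obtain ⟨c, rfl⟩ := Ideal.mem_span_singleton'.mp h1
      have hc : IsNilpotent c := by
        obtain ⟨n, hn⟩ := hb'
        refine ⟨n, ?_⟩
        rw [mul_pow] at hn
        exact (pow_mem hxB n).2 _ hn
      rw [mul_comm]
      exact Submodule.smul_mem_smul (Ideal.subset_span rfl) hc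
    · rw [Ideal.span_singleton_le_iff_mem]; exact hjac
  exact nilradical_eq_bot_iff.mp hN

end Groth.Agent.H8.Jap.AUK
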