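import Mathlib
import Groth.Agent.Lib.Helper8.Japanese.AUK2

set_option autoImplicit false
universe u
open TensorProduct IsLocalRing

namespace Groth.Agent.H8.Jap.AUK

/-- the image of the Jacobson radical under an integral ring map lies in the Jacobson radical -/
theorem algebraMap_mem_jacobson_bot_of_isIntegral (T B : Type*) [CommRing T] [CommRing B]
    [Algebra T B] [Algebra.IsIntegral T B] (t : T) (ht : t ∈ Ideal.jacobson (⊥ : Ideal T)) :
    algebraMap T B t ∈ Ideal.jacobson (⊥ : Ideal B) := by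
  rw [Ideal.jacobson, Ideal.mem_sInf]
  rintro M ⟨-, hM⟩
  haveI := hM
  have hmax : (M.comap (algebraMap T B)).IsMaximal :=
    Ideal.isMaximal_comap_of_isIntegral_of_isMaximal M
  have h2 : t ∈ M.comap (algebraMap T B) := by
    rw [Ideal.jacobson, Ideal.mem_sInf] at ht
    exact ht ⟨bot_le, hmax⟩
  exact h2

/-- `(A ⊗ T)/p(A ⊗ T) ≅ (A/p) ⊗ T` -/
noncomputable def quotTensorEquiv (R A T : Type u) [CommRing R] [CommRing A] [CommRing T]
    [Algebra R A] [Algebra R T] (p : Ideal A) :
    ((A ⊗[R] T) ⧸ p.map (algebraMap A (A ⊗[R] T))) ≃+* (A ⧸ p) ⊗[R] T :=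
  ((Algebra.TensorProduct.quotIdealMapEquivTensorQuot (A ⊗[R] T) p).toRingEquiv).trans <|
  (Algebra.TensorProduct.comm A (A ⊗[R] T) (A ⧸ p)).toRingEquiv.trans <|
  (Algebra.TensorProduct.cancelBaseChange R A A (A ⧸ p) T).toRingEquiv

theorem isNoetherianRing_tensor (R A T : Type u) [CommRing R] [CommRing A] [CommRing T]
    [Algebra R A] [Algebra R T] [Module.Finite R A] [IsNoetherianRing T] :
    IsNoetherianRing (A ⊗[R] T) := by
  haveI : IsNoetherianRing (T ⊗[R] A) := IsNoetherianRing.of_finite T _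
  exact isNoetherianRing_of_ringEquiv _ (Algebra.TensorProduct.comm R T A).toRingEquiv

theorem isReduced_tensor_of_injective (R S A T : Type u) [CommRing R] [CommRing A] [CommRing T]
    [CommRing S] [Algebra R S]
    [Algebra R A] [Algebra R T] [Module.Flat R T] (f : S →ₐ[R] A) (hf : Function.Injective f)
    [IsReduced (A ⊗[R] T)] : IsReduced (S ⊗[R] T) := by
  refine isReduced_of_injective (Algebra.TensorProduct.map f (AlgHom.id R T)) ?_
  intro a b hab
  exact Module.Flat.rTensor_preserves_injective_linearMap (M := T) f.toLinearMap hf hab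

theorem isReduced_of_surjective_of_isField {A B : Type*} [CommRing A] [CommRing B] (f : A →+* B)
    (hf : Function.Surjective f) (hA : IsField A) : IsReduced B := by
  refine ⟨fun b hb => ?_⟩
  obtain ⟨a, rfl⟩ := hf b
  by_cases ha : a = 0
  · rw [ha, map_zero]
  obtain ⟨a', ha'⟩ := hA.mul_inv_cancel ha
  obtain ⟨n, hn⟩ := hb
  have h1 : (1 : B) = 0 := by
    calc (1 : B) = (f a * f a') ^ n := by rw [← map_mul, ha', map_one, one_pow]
      _ = 0 := by rw [mul_pow, hn, zero_mul]
  calc f a = f a * 1 := (mul_one _).symm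
    _ = 0 := by rw [h1, mul_zero]

theorem isReduced_tensor_of_field (R T : Type u) [CommRing R] [IsLocalRing R] [CommRing T]
    [Algebra R T]
    (hres : ∀ t : T, ∃ r : R, t - algebraMap R T r ∈ (maximalIdeal R).map (algebraMap R T))
    (A : Type u) [CommRing A] (hA : IsField A) [Algebra R A]
    (hmA : ∀ r ∈ maximalIdeal R, algebraMap R A r = 0) : IsReduced (A ⊗[R] T) := by
  let J : Ideal T :=
    { carrier := {y | ∀ a : A, a ⊗ₜ[R] y = 0}
      add_mem' := fun {y z} hy hz a => by rw [tmul_add, hy a, hz a, add_zero]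
      zero_mem' := fun a => tmul_zero _ _
      smul_mem' := fun s y hy a => by
        have : a ⊗ₜ[R] (s • y) = ((1 : A) ⊗ₜ[R] s) * (a ⊗ₜ[R] y) := by
          rw [Algebra.TensorProduct.tmul_mul_tmul, one_mul, smul_eq_mul]
        rw [this, hy a, mul_zero] }
  have hJ : (maximalIdeal R).map (algebraMap R T) ≤ J := by
    rw [Ideal.map_le_iff_le_comap]
    intro m hm a
    show a ⊗ₜ[R] (algebraMap R T m) = 0
    rw [Algebra.algebraMap_eq_smul_one, ← smul_tmul, Algebra.smul_def, hmA m hm, zero_mul,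
      zero_tmul]
  refine isReduced_of_surjective_of_isField
    (Algebra.TensorProduct.includeLeft : A →ₐ[R] A ⊗[R] T).toRingHom ?_ hA
  intro z
  induction z using TensorProduct.induction_on with
  | zero => exact ⟨0, map_zero _⟩
  | add a b ha hb =>
    obtain ⟨x, rfl⟩ := ha
    obtain ⟨y, rfl⟩ := hb
    exact ⟨x + y, map_add _ _ _⟩
  | tmul a t =>
    obtain ⟨r, hr⟩ := hres t
    refine ⟨r • a, ?_⟩
    show (r • a) ⊗ₜ[R] (1 : T) = a ⊗ₜ[R] t
    have h1 : a ⊗ₜ[R] (t - algebraMap R T r) = 0 := hJ hr a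
    rw [tmul_sub, sub_eq_zero] at h1
    rw [h1, Algebra.algebraMap_eq_smul_one, smul_tmul]

theorem mem_of_mem_associatedPrimes_quot_span {A : Type*} [CommRing A] [IsNoetherianRing A]
    (x : A) (p : Ideal A) (hp : p ∈ associatedPrimes A (A ⧸ Ideal.span {x})) : x ∈ p := by
  obtain ⟨_, w, hw⟩ := isAssociatedPrime_iff.mp hp
  rw [hw, Submodule.mem_colon_singleton, Submodule.mem_bot]
  obtain ⟨w, rfl⟩ := Ideal.Quotient.mk_surjective w
  change Ideal.Quotient.mk _ (x * w) = 0
  rw [Ideal.Quotient.eq_zero_iff_mem]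
  exact Ideal.mul_mem_right _ _ (Ideal.subset_span rfl)

end Groth.Agent.H8.Jap.AUK
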