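import Mathlib
import Groth.Agent.Lib.Helper8.Japanese.AUK3

set_option autoImplicit false
universe u
open TensorProduct IsLocalRing

namespace Groth.Agent.H8.Jap.AUK

theorem isReduced_tensor_of_normal (R T : Type u) [CommRing R] [IsNoetherianRing R]
    [IsLocalRing R] [CommRing T] [IsNoetherianRing T] [Algebra R T] [Module.Flat R T]
    (hjac : (maximalIdeal R).map (algebraMap R T) ≤ Ideal.jacobson ⊥)
    (hres : ∀ t : T, ∃ r : R, t - algebraMap R T r ∈ (maximalIdeal R).map (algebraMap R T))
    (A : Type u) [CommRing A] [IsDomain A] [IsIntegrallyClosed A] [Algebra R A]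
    [Module.Finite R A]
    (IH : ∀ (S : Type u) [CommRing S] [IsDomain S] [Algebra R S] [Module.Finite R S],
      RingHom.ker (algebraMap R A) < RingHom.ker (algebraMap R S) → IsReduced (S ⊗[R] T)) :
    IsReduced (A ⊗[R] T) := by
  by_cases hq : maximalIdeal R ≤ RingHom.ker (algebraMap R A)
  · have hfield : IsField A := by
      haveI : Algebra.IsIntegral R A := Algebra.IsIntegral.of_finite R A
      have hker : RingHom.ker (algebraMap R A) = maximalIdeal R :=
        le_antisymm (IsLocalRing.le_maximalIdeal (RingHom.ker_ne_top _)) hq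
      have : (⊥ : Ideal A).IsMaximal := by
        apply Ideal.isMaximal_of_isIntegral_of_isMaximal_comap (R := R) ⊥
        rw [← RingHom.ker_eq_comap_bot, hker]; exact maximalIdeal.isMaximal R
      exact Ring.isField_iff_maximal_bot.mpr this
    exact isReduced_tensor_of_field R T hres A hfield (fun r hr => hq hr)
  · obtain ⟨μ, hμm, hμq⟩ := SetLike.not_le_iff_exists.mp hq
    set x := algebraMap R A μ with hxdef
    have hx : x ≠ 0 := hμq
    haveI : IsNoetherianRing A := IsNoetherianRing.of_finite R A
    haveI : IsNoetherianRing (A ⊗[R] T) := isNoetherianRing_tensor R A T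
    apply isReduced_of_ass (A := A) (B := A ⊗[R] T) x hx
    · -- jacobson
      have h1 : algebraMap T (T ⊗[R] A) (algebraMap R T μ) ∈ Ideal.jacobson ⊥ :=
        algebraMap_mem_jacobson_bot_of_isIntegral T (T ⊗[R] A) _
          (hjac (Ideal.mem_map_of_mem _ hμm))
      rw [Ideal.mem_jacobson_bot] at h1 ⊢
      intro y
      have h2 := h1 (Algebra.TensorProduct.comm R A T y)
      have h3 : algebraMap T (T ⊗[R] A) (algebraMap R T μ) * (Algebra.TensorProduct.comm R A T y)
          + 1 = Algebra.TensorProduct.comm R A T (algebraMap A (A ⊗[R] T) x * y + 1) := by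
        rw [map_add, map_mul, map_one]
        congr 2
        rw [hxdef, Algebra.TensorProduct.algebraMap_apply, Algebra.TensorProduct.algebraMap_apply,
          Algebra.TensorProduct.comm_tmul]
        simp only [Algebra.algebraMap_self, RingHom.id_apply]
        rw [Algebra.algebraMap_eq_smul_one, Algebra.algebraMap_eq_smul_one, smul_tmul]
      rw [h3] at h2
      exact (isUnit_map_iff (Algebra.TensorProduct.comm R A T) _).mp h2
    · intro p hp; exact exists_principal_of_mem_associatedPrimes A x hx p hp
    · intro p hp
      haveI : p.IsPrime := hp.isPrime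
      haveI : IsReduced ((A ⧸ p) ⊗[R] T) := by
        apply IH (A ⧸ p)
        have hxp := mem_of_mem_associatedPrimes_quot_span x p hp
        refine lt_of_le_of_ne ?_ ?_
        · intro r hr
          rw [RingHom.mem_ker] at hr ⊢
          rw [IsScalarTower.algebraMap_apply R A (A ⧸ p), hr, map_zero]
        · intro h
          apply hμq
          rw [h, RingHom.mem_ker, IsScalarTower.algebraMap_apply R A (A ⧸ p)]
          exact Ideal.Quotient.eq_zero_iff_mem.mpr hxp
      exact isReduced_of_injective (quotTensorEquiv R A T p) (RingEquiv.injective _)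

end Groth.Agent.H8.Jap.AUK
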