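import Mathlib
import Groth.Prelude.Def_Found
import Groth.Agent.Lib.Helper8.Japanese.AUK4
import Groth.Agent.Lib.Helper8.Japanese.FiniteExt

set_option autoImplicit false
universe u
open TensorProduct IsLocalRing

namespace Groth.Agent.H8.Jap.AUK

/-- A domain finite over a Nagata ring is N-2. -/
theorem isN2_of_finite_of_isNagata (R S : Type u) [CommRing R] [CommRing S] [IsDomain S]
    [Algebra R S] [Module.Finite R S] (hR : CAlg.IsNagata R) : CAlg.IsN2 S := by
  set q := RingHom.ker (algebraMap R S) with hq
  haveI : q.IsPrime := RingHom.ker_isPrime _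
  letI : Algebra (R ⧸ q) S := (Ideal.Quotient.lift q (algebraMap R S) (fun a ha => ha)).toAlgebra
  haveI : IsScalarTower R (R ⧸ q) S := IsScalarTower.of_algebraMap_eq (fun r => rfl)
  haveI : Module.Finite (R ⧸ q) S := Module.Finite.of_restrictScalars_finite R (R ⧸ q) S
  have hinj : Function.Injective (algebraMap (R ⧸ q) S) := RingHom.lift_injective_of_ker_le_ideal
    q (fun a ha => ha) le_rfl
  exact isN2_of_finite_injective (R ⧸ q) S hinj (hR.2 q)

theorem isN1_of_isN2 (S : Type u) [CommRing S] [IsDomain S] (h : CAlg.IsN2 S) : CAlg.IsN1 S :=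
  h (FractionRing S) inferInstance

/-- **Reducedness of base change.** `R` a Nagata local ring, `T` a flat Noetherian `R`-algebra
with `𝔪 T` in the Jacobson radical and `R → T/𝔪T` surjective (e.g. the completion). Then
`S ⊗ T` is reduced for every domain `S` finite over `R`. -/
theorem isReduced_tensor (R T : Type u) [CommRing R] [IsLocalRing R] [CommRing T]
    [IsNoetherianRing T] [Algebra R T] [Module.Flat R T] (hR : CAlg.IsNagata R)
    (hjac : (maximalIdeal R).map (algebraMap R T) ≤ Ideal.jacobson ⊥)
    (hres : ∀ t : T, ∃ r : R, t - algebraMap R T r ∈ (maximalIdeal R).map (algebraMap R T))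
    (S : Type u) [CommRing S] [IsDomain S] [Algebra R S] [Module.Finite R S] :
    IsReduced (S ⊗[R] T) := by
  haveI := hR.1
  suffices H : ∀ q : Ideal R, ∀ (S : Type u) [CommRing S] [IsDomain S] [Algebra R S]
      [Module.Finite R S], RingHom.ker (algebraMap R S) = q → IsReduced (S ⊗[R] T) from
    H _ S rfl
  intro q
  refine IsNoetherian.induction (P := fun q : Ideal R => ∀ (S : Type u) [CommRing S] [IsDomain S]
    [Algebra R S] [Module.Finite R S], RingHom.ker (algebraMap R S) = q → IsReduced (S ⊗[R] T))
    ?_ q
  intro q IH S _ _ _ _ hS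
  have hN2 : CAlg.IsN2 S := isN2_of_finite_of_isNagata R S hR
  have hN1 : Module.Finite S (integralClosure S (FractionRing S)) := isN1_of_isN2 S hN2
  let A := integralClosure S (FractionRing S)
  haveI : IsIntegrallyClosed A :=
    integralClosure.isIntegrallyClosedOfFiniteExtension (FractionRing S)
  haveI : Module.Finite R A := Module.Finite.trans S A
  have hinj : Function.Injective (IsScalarTower.toAlgHom R S A) := by
    intro a b hab
    apply IsFractionRing.injective S (FractionRing S)
    exact congrArg Subtype.val hab
  have hker : RingHom.ker (algebraMap R A) = q := by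
    rw [← hS]
    ext r
    rw [RingHom.mem_ker, RingHom.mem_ker, IsScalarTower.algebraMap_apply R S A]
    exact map_eq_zero_iff _ hinj
  haveI : IsReduced (A ⊗[R] T) := by
    apply isReduced_tensor_of_normal R T hjac hres A
    intro S' _ _ _ _ hlt
    rw [hker] at hlt
    exact IH _ hlt S' rfl
  exact isReduced_tensor_of_injective R S A T (IsScalarTower.toAlgHom R S A) hinj

end Groth.Agent.H8.Jap.AUK
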