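import Mathlib
import Groth.Prelude.Def_Found
import Groth.Agent.Lib.Helper5.LocIC

set_option autoImplicit false
universe u
open TensorProduct

namespace Groth.Agent.H8.Jap.AUK

theorem exists_smul_mem_adjoin (A K L : Type*) [CommRing A] [IsDomain A] [Field K] [Algebra A K]
    [IsFractionRing A K] [Field L] [Algebra A L] [Algebra K L] [IsScalarTower A K L]
    (s : Set L) (hs : Submodule.span K s = ⊤) (z : L) :
    ∃ d : A, d ≠ 0 ∧ d • z ∈ Algebra.adjoin A s := by
  have hz : z ∈ Submodule.span K s := by rw [hs]; trivial
  induction hz using Submodule.span_induction with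
  | mem x hx => exact ⟨1, one_ne_zero, by rw [one_smul]; exact Algebra.subset_adjoin hx⟩
  | zero => exact ⟨1, one_ne_zero, by simp⟩
  | add x y _ _ hx hy =>
    obtain ⟨d1, h1, h1'⟩ := hx
    obtain ⟨d2, h2, h2'⟩ := hy
    refine ⟨d1 * d2, mul_ne_zero h1 h2, ?_⟩
    rw [smul_add]
    refine Subalgebra.add_mem _ ?_ ?_
    · rw [mul_comm, mul_smul]; exact Subalgebra.smul_mem _ h1' d2
    · rw [mul_smul]; exact Subalgebra.smul_mem _ h2' d1
  | smul c x _ hx =>
    obtain ⟨d, hd, hd'⟩ := hx
    obtain ⟨a, t, rfl⟩ := IsLocalization.exists_mk'_eq (nonZeroDivisors A) c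
    refine ⟨t * d, mul_ne_zero (nonZeroDivisors.ne_zero t.2) hd, ?_⟩
    have : ((t : A) * d) • (IsLocalization.mk' K a t • x) = a • (d • x) := by
      rw [mul_smul, smul_comm d, ← algebraMap_smul K (t : A), ← mul_smul,
        IsLocalization.mk'_spec'_mk, algebraMap_smul]
    rw [this]
    exact Subalgebra.smul_mem _ hd' a

/-- A Noetherian domain all of whose finite extension domains are N-1 is N-2. -/
theorem isN2_of_forall_finite_isN1 (A : Type u) [CommRing A] [IsDomain A] [IsNoetherianRing A]
    (h : ∀ (B : Type u) [CommRing B] [IsDomain B] [Algebra A B] [Module.Finite A B],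
      Function.Injective (algebraMap A B) → CAlg.IsN1 B) : CAlg.IsN2 A := by
  intro L _ _ _ _ hfin
  haveI := hfin
  obtain ⟨s, b, hb⟩ := FiniteDimensional.exists_is_basis_integral A (FractionRing A) L
  let B := Algebra.adjoin A (Set.range b)
  haveI : Module.Finite A B := Module.Finite.iff_fg.mpr
    (fg_adjoin_of_finite (Set.finite_range b) (by rintro _ ⟨i, rfl⟩; exact hb i))
  have hinjL : Function.Injective (algebraMap A L) := by
    rw [IsScalarTower.algebraMap_eq A (FractionRing A) L]
    exact (algebraMap (FractionRing A) L).injective.comp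
      (IsFractionRing.injective A (FractionRing A))
  have hinj : Function.Injective (algebraMap A B) := by
    intro x y hxy
    apply hinjL
    exact congrArg Subtype.val hxy
  have hN1 : CAlg.IsN1 B := h B hinj
  haveI : IsFractionRing B L := by
    apply IsFractionRing.of_field
    intro z
    obtain ⟨d, hd, hdz⟩ := exists_smul_mem_adjoin A (FractionRing A) L (Set.range b)
      b.span_eq z
    refine ⟨⟨d • z, hdz⟩, algebraMap A B d, ?_⟩
    have hd' : algebraMap A L d ≠ 0 := fun h0 => hd (hinjL (by rw [h0, map_zero]))
    show z = (d • z) / algebraMap A L d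
    rw [Algebra.smul_def, mul_div_cancel_left₀ _ hd']
  have hfinB : Module.Finite B (integralClosure B L) := (H5.isN1_iff B L).mp hN1
  haveI : Module.Finite A (integralClosure B L) := Module.Finite.trans B _
  haveI : IsNoetherian A (integralClosure B L) := isNoetherian_of_isNoetherianRing_of_finite A _
  let f : integralClosure A L →ₗ[A] integralClosure B L :=
    { toFun := fun x => ⟨x.1, IsIntegral.tower_top x.2⟩
      map_add' := fun _ _ => rfl
      map_smul' := fun _ _ => rfl }
  refine Module.Finite.of_injective f (fun x y hxy => Subtype.ext ?_)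
  have := congrArg (fun w : integralClosure B L => (w : L)) hxy
  exact this

end Groth.Agent.H8.Jap.AUK
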