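import Mathlib
import Groth.Prelude.Def_Found
import Groth.Agent.Lib.Helper5.LocIC
import Groth.Agent.Lib.Helper8.Japanese.AUK5
import Groth.Agent.Lib.Helper8.Japanese.AUK7
import Groth.Agent.Lib.Helper8.Japanese.AUK10

set_option autoImplicit false
universe u
open TensorProduct IsLocalRing

namespace Groth.Agent.H8.Jap.AUK

/-- A Noetherian local domain all of whose finite local extension domains are N-1 is N-2. -/
theorem isN2_of_forall_finite_local_isN1 (A : Type u) [CommRing A] [IsDomain A]
    [IsNoetherianRing A] [IsLocalRing A]
    (h : ∀ (B : Type u) [CommRing B] [IsDomain B] [IsLocalRing B] [Algebra A B]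
      [Module.Finite A B], Function.Injective (algebraMap A B) → CAlg.IsN1 B) : CAlg.IsN2 A := by
  intro L _ _ _ _ hfin
  haveI := hfin
  obtain ⟨s, hsfin, hspan, hsint, hloc⟩ := exists_local_adjoin A (FractionRing A) L
  let B := Algebra.adjoin A s
  haveI : Module.Finite A B := Module.Finite.iff_fg.mpr (fg_adjoin_of_finite hsfin hsint)
  have hinjL : Function.Injective (algebraMap A L) := by
    rw [IsScalarTower.algebraMap_eq A (FractionRing A) L]
    exact (algebraMap (FractionRing A) L).injective.comp
      (IsFractionRing.injective A (FractionRing A))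
  have hinj : Function.Injective (algebraMap A B) := by
    intro x y hxy
    apply hinjL
    exact congrArg Subtype.val hxy
  have hN1 : CAlg.IsN1 B := h B hinj
  haveI : IsFractionRing B L := by
    apply IsFractionRing.of_field
    intro z
    obtain ⟨d, hd, hdz⟩ := exists_smul_mem_adjoin A (FractionRing A) L s hspan z
    refine ⟨⟨d • z, hdz⟩, algebraMap A B d, ?_⟩
    have hd' : algebraMap A L d ≠ 0 := fun h0 => hd (hinjL (by rw [h0, map_zero]))
    show z = (d • z) / algebraMap A L d
    rw [Algebra.smul_def, mul_div_cancel_left₀ _ hd']
  have hfinB : Module.Finite B (integralClosure B L) := (H5.isN1_iff B L).mp hN1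
  haveI : Module.Finite A (integralClosure B L) := Module.Finite.trans B _
  haveI : IsNoetherian A (integralClosure B L) := isNoetherian_of_isNoetherianRing_of_finite A _
  let f : integralClosure A L →ₗ[A] integralClosure B L :=
    { toFun := fun x => ⟨x.1, IsIntegral.tower_top x.2⟩
      map_add' := fun _ _ => rfl
      map_smul' := fun _ _ => rfl }
  refine Module.Finite.of_injective f (fun x y hxy => Subtype.ext ?_)
  have := congrArg (fun w : integralClosure B L => (w : L)) hxy
  exact this

/-- A ring finite over a Nagata ring is Nagata. -/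
theorem isNagata_of_finite (R S : Type u) [CommRing R] [CommRing S] [Algebra R S]
    [Module.Finite R S] (hR : CAlg.IsNagata R) : CAlg.IsNagata S := by
  haveI := hR.1
  refine ⟨IsNoetherianRing.of_finite R S, fun q _ => ?_⟩
  exact isN2_of_finite_of_isNagata R (S ⧸ q) hR

end Groth.Agent.H8.Jap.AUK
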