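import Mathlib

set_option autoImplicit false
universe u
open IsLocalRing

namespace Groth.Agent.H8.Jap.NagFT

/-- If `q R_q` is principal, any fraction `b/a` can be written with numerator or denominator
outside `q`. -/
theorem exists_coprime_fraction (R : Type*) [CommRing R] [IsDomain R] [IsNoetherianRing R]
    (q : Ideal R) [q.IsPrime] (π : R) (hπq : π ∈ q)
    (hπ : ∀ c ∈ q, ∃ t : R, t ∉ q ∧ t * c ∈ Ideal.span {π}) (a b : R) (ha : a ≠ 0) :
    ∃ a' b' : R, a' * b = b' * a ∧ (a' ∉ q ∨ b' ∉ q) := by
  by_cases hb : b = 0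
  · exact ⟨1, 0, by rw [hb]; ring, Or.inl (fun h => (Ideal.IsPrime.ne_top inferInstance)
      ((Ideal.eq_top_iff_one q).mpr h))⟩
  let Rq := Localization.AtPrime q
  let K := FractionRing R
  have hle : q.primeCompl ≤ nonZeroDivisors R := by
    intro t ht
    rw [mem_nonZeroDivisors_iff_ne_zero]
    rintro rfl
    exact ht q.zero_mem
  letI : Algebra Rq K :=
    IsLocalization.localizationAlgebraOfSubmonoidLe Rq K q.primeCompl (nonZeroDivisors R) hle
  haveI : IsScalarTower R Rq K :=
    IsLocalization.localization_isScalarTower_of_submonoid_le Rq K q.primeCompl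
      (nonZeroDivisors R) hle
  haveI : IsFractionRing Rq K :=
    IsFractionRing.isFractionRing_of_isDomain_of_isLocalization q.primeCompl Rq K
  have hprinc : (maximalIdeal Rq).IsPrincipal := by
    refine ⟨algebraMap R Rq π, ?_⟩
    rw [← Localization.AtPrime.map_eq_maximalIdeal]
    apply le_antisymm
    · rw [Ideal.map_le_iff_le_comap]
      intro c hc
      obtain ⟨t, htq, htc⟩ := hπ c hc
      obtain ⟨c', hc'⟩ := Ideal.mem_span_singleton'.mp htc
      rw [Ideal.mem_comap, Ideal.submodule_span_eq]
      have hunit : IsUnit (algebraMap R Rq t) :=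
        IsLocalization.map_units Rq (⟨t, htq⟩ : q.primeCompl)
      have h3 : algebraMap R Rq t * algebraMap R Rq c ∈ Ideal.span {algebraMap R Rq π} := by
        rw [← map_mul, ← hc', map_mul]
        exact Ideal.mul_mem_left _ _ (Ideal.subset_span rfl)
      exact (Ideal.unit_mul_mem_iff_mem _ hunit).mp h3
    · rw [Ideal.submodule_span_eq, Ideal.span_singleton_le_iff_mem]
      exact Ideal.mem_map_of_mem _ hπq
  haveI : ValuationRing Rq :=
    ((tfae_of_isNoetherianRing_of_isLocalRing_of_isDomain Rq).out 4 1).mp hprinc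
  have haK : algebraMap R K a ≠ 0 := fun h0 =>
    ha (IsFractionRing.injective R K (by rw [h0, map_zero]))
  have hbK : algebraMap R K b ≠ 0 := fun h0 =>
    hb (IsFractionRing.injective R K (by rw [h0, map_zero]))
  rcases ValuationRing.isInteger_or_isInteger Rq (algebraMap R K b / algebraMap R K a) with h | h
  · obtain ⟨w, hw⟩ := h
    obtain ⟨b', ⟨a', ha'⟩, rfl⟩ := IsLocalization.exists_mk'_eq q.primeCompl w
    refine ⟨a', b', ?_, Or.inl ha'⟩
    apply IsFractionRing.injective R K
    have h1 : algebraMap Rq K (IsLocalization.mk' Rq b' (⟨a', ha'⟩ : q.primeCompl)) *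
        algebraMap R K a' = algebraMap R K b' := by
      rw [IsScalarTower.algebraMap_apply R Rq K a', ← map_mul, IsLocalization.mk'_spec_mk,
        ← IsScalarTower.algebraMap_apply]
    rw [hw] at h1
    rw [map_mul, map_mul, ← h1, div_mul_eq_mul_div, div_mul_cancel₀ _ haK, mul_comm]
  · obtain ⟨w, hw⟩ := h
    obtain ⟨a', ⟨b', hb'⟩, rfl⟩ := IsLocalization.exists_mk'_eq q.primeCompl w
    refine ⟨a', b', ?_, Or.inr hb'⟩
    apply IsFractionRing.injective R K
    have h1 : algebraMap Rq K (IsLocalization.mk' Rq a' (⟨b', hb'⟩ : q.primeCompl)) *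
        algebraMap R K b' = algebraMap R K a' := by
      rw [IsScalarTower.algebraMap_apply R Rq K b', ← map_mul, IsLocalization.mk'_spec_mk,
        ← IsScalarTower.algebraMap_apply]
    rw [hw] at h1
    rw [map_mul, map_mul, ← h1, inv_div, div_mul_eq_mul_div, mul_comm, mul_div_cancel₀ _ hbK,
      mul_comm]

end Groth.Agent.H8.Jap.NagFT
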