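import Mathlib
import Groth.Agent.Lib.Helper8.Japanese.AUK3
import Groth.Agent.Lib.Helper8.Japanese.NagFT2

set_option autoImplicit false
universe u
open IsLocalRing

namespace Groth.Agent.H8.Jap.NagFT

section
variable {R S₀ : Type u} [CommRing R] [IsDomain R] [IsNoetherianRing R]
  [CommRing S₀] [IsDomain S₀] [Algebra R S₀] [IsNoetherianRing S₀]
  (hinj : Function.Injective (algebraMap R S₀))
  (y : S₀) (a b : R) (ha : a ≠ 0) (hab : algebraMap R S₀ a * y = algebraMap R S₀ b)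
  (hS1 : ∀ s : S₀, ∃ r : R, s - algebraMap R S₀ r ∈ Ideal.span {y})
  (hS2 : ∀ r : R, algebraMap R S₀ r ∈ Ideal.span {y} → ∃ r' : R, a * r = b * r')

include hinj ha hab hS2 in
theorem algebraMap_mem_span_iff (r : R) :
    algebraMap R S₀ r ∈ Ideal.span {y} ↔ ∃ r' : R, a * r = b * r' := by
  refine ⟨hS2 r, ?_⟩
  rintro ⟨r', hr'⟩
  rw [Ideal.mem_span_singleton']
  refine ⟨algebraMap R S₀ r', ?_⟩
  have haS : algebraMap R S₀ a ≠ 0 := fun h0 => ha (hinj (by rw [h0, map_zero]))
  apply mul_left_cancel₀ haS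
  calc algebraMap R S₀ a * (algebraMap R S₀ r' * y)
      = (algebraMap R S₀ a * y) * algebraMap R S₀ r' := by ring
    _ = algebraMap R S₀ (b * r') := by rw [hab, map_mul]
    _ = algebraMap R S₀ a * algebraMap R S₀ r := by rw [← hr', map_mul]

include hinj ha hab hS1 hS2 in
/-- associated primes of `S₀/y` contract to associated primes of `R/b` -/
theorem comap_mem_associatedPrimes (q₀ : Ideal S₀)
    (hq₀ : q₀ ∈ associatedPrimes S₀ (S₀ ⧸ Ideal.span {y})) :
    q₀.comap (algebraMap R S₀) ∈ associatedPrimes R (R ⧸ Ideal.span {b}) := by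
  obtain ⟨hprime, ξ, hξ⟩ := isAssociatedPrime_iff.mp hq₀
  obtain ⟨s, rfl⟩ := Ideal.Quotient.mk_surjective ξ
  obtain ⟨r₀, hr₀⟩ := hS1 s
  haveI := hprime
  refine isAssociatedPrime_iff.mpr ⟨Ideal.comap_isPrime _ _,
    Ideal.Quotient.mk _ (a * r₀), ?_⟩
  ext r
  rw [Ideal.mem_comap, hξ, Submodule.mem_colon_singleton, Submodule.mem_bot,
    Submodule.mem_colon_singleton, Submodule.mem_bot]
  have h1 : algebraMap R S₀ r • (Ideal.Quotient.mk (Ideal.span {y}) s) = 0 ↔
      algebraMap R S₀ (r * r₀) ∈ Ideal.span {y} := by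
    change Ideal.Quotient.mk _ (algebraMap R S₀ r * s) = 0 ↔ _
    rw [Ideal.Quotient.eq_zero_iff_mem, map_mul]
    have h2 : algebraMap R S₀ r * s - algebraMap R S₀ r * algebraMap R S₀ r₀ ∈
        Ideal.span {y} := by
      rw [← mul_sub]; exact Ideal.mul_mem_left _ _ hr₀
    constructor
    · intro h; have := Ideal.sub_mem _ h h2; simpa using this
    · intro h; have := Ideal.add_mem _ h h2; simpa using this
  have h3 : r • (Ideal.Quotient.mk (Ideal.span {b}) (a * r₀)) = 0 ↔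
      ∃ r' : R, a * (r * r₀) = b * r' := by
    change Ideal.Quotient.mk _ (r * (a * r₀)) = 0 ↔ _
    rw [Ideal.Quotient.eq_zero_iff_mem, Ideal.mem_span_singleton']
    constructor
    · rintro ⟨c, hc⟩; exact ⟨c, by rw [mul_comm b c, hc]; ring⟩
    · rintro ⟨c, hc⟩; exact ⟨c, by rw [mul_comm c b, ← hc]; ring⟩
  rw [h1, h3]
  exact algebraMap_mem_span_iff hinj y a b ha hab hS2 (r * r₀)

include hinj ha hab hS1 hS2 in
/-- condition (a) of the key lemma for localizations of `S₀ = R[y]` -/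
theorem exists_principal_of_localization [IsIntegrallyClosed R] (hy0 : y ≠ 0)
    (A : Type u) [CommRing A] [Algebra S₀ A] (M : Submonoid S₀) [IsLocalization M A]
    (P : Ideal A) (hP : P ∈ associatedPrimes A (A ⧸ Ideal.span {algebraMap S₀ A y})) :
    ∃ π ∈ P, ∀ α ∈ P, ∃ t : A, t ∉ P ∧ t * α ∈ Ideal.span {π} := by
  haveI : Module.Flat S₀ A := IsLocalization.flat A M
  have hP' : P ∈ associatedPrimes A (A ⧸ (Ideal.span {y}).map (algebraMap S₀ A)) := by
    rwa [Ideal.map_span, Set.image_singleton]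
  haveI : P.IsPrime := hP.isPrime
  have hq₀ := (AUK.ass_step (Ideal.span {y}) P hP').1
  set q₀ := P.comap (algebraMap S₀ A) with hq₀def
  have hq := comap_mem_associatedPrimes hinj y a b ha hab hS1 hS2 q₀ hq₀
  set q := q₀.comap (algebraMap R S₀) with hqdef
  haveI : q.IsPrime := hq.isPrime
  have haS : algebraMap R S₀ a ≠ 0 := fun h0 => ha (hinj (by rw [h0, map_zero]))
  have hb : b ≠ 0 := by
    rintro rfl
    rw [map_zero] at hab
    rcases mul_eq_zero.mp hab with h | h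
    · exact haS h
    · exact hy0 h
  obtain ⟨π, hπq, hπ⟩ := AUK.exists_principal_of_mem_associatedPrimes R b hb q hq
  obtain ⟨a', b', hab', hor⟩ := exists_coprime_fraction R q π hπq hπ a b ha
  have hyq₀ : y ∈ q₀ := AUK.mem_of_mem_associatedPrimes_quot_span y q₀ hq₀
  have hay : algebraMap R S₀ a' * y = algebraMap R S₀ b' := by
    apply mul_left_cancel₀ haS
    calc algebraMap R S₀ a * (algebraMap R S₀ a' * y)
        = algebraMap R S₀ a' * (algebraMap R S₀ a * y) := by ring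
      _ = algebraMap R S₀ (a' * b) := by rw [hab, map_mul]
      _ = algebraMap R S₀ a * algebraMap R S₀ b' := by rw [hab', map_mul, mul_comm]
  have hb'q : b' ∈ q := by
    show algebraMap R S₀ b' ∈ q₀
    rw [← hay]; exact Ideal.mul_mem_left _ _ hyq₀
  have ha'q : a' ∉ q := hor.resolve_right (fun h => h hb'q)
  obtain ⟨t₂, ht₂q, ht₂⟩ := hπ b' hb'q
  obtain ⟨c₂, hc₂⟩ := Ideal.mem_span_singleton'.mp ht₂
  refine ⟨algebraMap S₀ A (algebraMap R S₀ π), hπq, ?_⟩
  intro α hα
  obtain ⟨s, u, rfl⟩ := IsLocalization.exists_mk'_eq M α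
  have hs : s ∈ q₀ := by
    show algebraMap S₀ A s ∈ P
    rw [← IsLocalization.mk'_spec A s u]
    exact Ideal.mul_mem_right _ _ hα
  obtain ⟨r, hr⟩ := hS1 s
  obtain ⟨s', hs'⟩ := Ideal.mem_span_singleton'.mp hr
  have hrq : r ∈ q := by
    show algebraMap R S₀ r ∈ q₀
    have : algebraMap R S₀ r = s - s' * y := by rw [hs']; ring
    rw [this]
    exact Ideal.sub_mem _ hs (Ideal.mul_mem_left _ _ hyq₀)
  obtain ⟨t₁, ht₁q, ht₁⟩ := hπ r hrq
  obtain ⟨c₁, hc₁⟩ := Ideal.mem_span_singleton'.mp ht₁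
  refine ⟨algebraMap S₀ A (algebraMap R S₀ (t₁ * t₂ * a')), ?_, ?_⟩
  · show (t₁ * t₂ * a') ∉ q
    intro h
    rcases Ideal.IsPrime.mem_or_mem inferInstance h with h | h
    · rcases Ideal.IsPrime.mem_or_mem inferInstance h with h | h
      · exact ht₁q h
      · exact ht₂q h
    · exact ha'q h
  · rw [Ideal.mem_span_singleton']
    refine ⟨IsLocalization.mk' A (algebraMap R S₀ (t₂ * a' * c₁) +
      algebraMap R S₀ t₁ * s' * algebraMap R S₀ c₂) u, ?_⟩
    rw [mul_comm, IsLocalization.mul_mk'_eq_mk'_of_mul, IsLocalization.mul_mk'_eq_mk'_of_mul]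
    congr 1
    have hs2 : s = algebraMap R S₀ r + s' * y := by rw [hs']; ring
    rw [hs2]
    have e1 : algebraMap R S₀ t₁ * algebraMap R S₀ r = algebraMap R S₀ c₁ * algebraMap R S₀ π := by
      rw [← map_mul, ← map_mul, hc₁]
    have e2 : algebraMap R S₀ t₂ * algebraMap R S₀ b' = algebraMap R S₀ c₂ * algebraMap R S₀ π := by
      rw [← map_mul, ← map_mul, hc₂]
    simp only [map_mul]
    calc algebraMap R S₀ π * (algebraMap R S₀ t₂ * algebraMap R S₀ a' * algebraMap R S₀ c₁ +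
          algebraMap R S₀ t₁ * s' * algebraMap R S₀ c₂)
        = algebraMap R S₀ t₂ * algebraMap R S₀ a' * (algebraMap R S₀ c₁ * algebraMap R S₀ π) +
          algebraMap R S₀ t₁ * s' * (algebraMap R S₀ c₂ * algebraMap R S₀ π) := by ring
      _ = algebraMap R S₀ t₂ * algebraMap R S₀ a' * (algebraMap R S₀ t₁ * algebraMap R S₀ r) +
          algebraMap R S₀ t₁ * s' * (algebraMap R S₀ t₂ * (algebraMap R S₀ a' * y)) := by
        rw [e1, ← e2, hay]
      _ = algebraMap R S₀ t₁ * algebraMap R S₀ t₂ * algebraMap R S₀ a' *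
          (algebraMap R S₀ r + s' * y) := by ring

end

end Groth.Agent.H8.Jap.NagFT
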