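import Mathlib
import Groth.Prelude.Def_Found
import Groth.Agent.Lib.Helper5.LocIC
import Groth.Agent.Lib.Helper8.Japanese.FiniteExt
set_option autoImplicit false
universe u
open Module

namespace Groth.Agent.H8.Jap

/-- Localizations of Nagata rings are Nagata (any localization in the same universe). -/
theorem isNagata_of_isLocalization (A : Type u) [CommRing A] (hA : CAlg.IsNagata A) (S : Submonoid A)
    (B : Type u) [CommRing B] [Algebra A B] [IsLocalization S B] : CAlg.IsNagata B := by
  obtain ⟨hN, hA2⟩ := hA
  haveI := hN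
  refine ⟨IsLocalization.isNoetherianRing S B hN, fun P hP => ?_⟩
  let p : Ideal A := P.comap (algebraMap A B)
  haveI : p.IsPrime := Ideal.comap_isPrime _ _
  have hPp : p.map (algebraMap A B) = P := IsLocalization.map_under S B P
  haveI : (p.map (algebraMap A B)).IsPrime := hPp ▸ hP
  have h1 : CAlg.IsN2 (B ⧸ p.map (algebraMap A B)) :=
    Groth.Agent.H5.isN2_of_isLocalization (A ⧸ p) (Algebra.algebraMapSubmonoid (A ⧸ p) S)
      (B ⧸ p.map (algebraMap A B)) (hA2 p)
  exact isN2_of_ringEquiv (Ideal.quotEquivOfEq hPp) h1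

end Groth.Agent.H8.Jap
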