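import Mathlib
import Groth.Prelude.Def_Found
import Groth.Agent.Lib.Helper8.Japanese.AUK11
import Groth.Agent.Lib.Helper8.Japanese.NagLoc
import Groth.Agent.Lib.Helper8.Japanese.NagFT3

set_option autoImplicit false
universe u
open IsLocalRing

namespace Groth.Agent.H8.Jap.NagFT

/-- If `S₀ = R + y S₀`, `A` is a localization of `S₀` and `P` a prime of `A` containing `y`,
then `A/P` is a localization of `R/(P ∩ R)`; in particular it is Nagata if `R` is. -/
theorem isNagata_quotient_of_localization {R S₀ : Type u} [CommRing R] [CommRing S₀] [Algebra R S₀]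
    (hR : CAlg.IsNagata R) (y : S₀)
    (hS1 : ∀ s : S₀, ∃ r : R, s - algebraMap R S₀ r ∈ Ideal.span {y})
    (A : Type u) [CommRing A] [Algebra S₀ A] [Algebra R A] [IsScalarTower R S₀ A]
    (M : Submonoid S₀) [IsLocalization M A]
    (P : Ideal A) [P.IsPrime] (hyP : algebraMap S₀ A y ∈ P) : CAlg.IsNagata (A ⧸ P) := by
  set q := P.comap (algebraMap R A) with hq
  haveI : q.IsPrime := Ideal.comap_isPrime _ _
  let φ : R ⧸ q →+* A ⧸ P := Ideal.quotientMap P (algebraMap R A) le_rfl
  letI : Algebra (R ⧸ q) (A ⧸ P) := φ.toAlgebra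
  have hφ : ∀ r : R, φ (Ideal.Quotient.mk q r) = Ideal.Quotient.mk P (algebraMap R A r) :=
    fun r => rfl
  have hφinj : Function.Injective φ := Ideal.quotientMap_injective' le_rfl
  -- every element of S₀ is congruent to an element of R in A/P
  have hmod : ∀ s : S₀, ∃ r : R, Ideal.Quotient.mk P (algebraMap S₀ A s) =
      φ (Ideal.Quotient.mk q r) := by
    intro s
    obtain ⟨r, hr⟩ := hS1 s
    obtain ⟨s', hs'⟩ := Ideal.mem_span_singleton'.mp hr
    refine ⟨r, ?_⟩
    rw [hφ, IsScalarTower.algebraMap_apply R S₀ A, ← sub_eq_zero, ← map_sub, ← map_sub,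
      Ideal.Quotient.eq_zero_iff_mem, ← hs', map_mul]
    exact Ideal.mul_mem_left _ _ hyP
  let M' : Submonoid (R ⧸ q) := (IsUnit.submonoid (A ⧸ P)).comap φ
  haveI : IsLocalization M' (A ⧸ P) := by
    refine ⟨fun t => t.2, ?_, ?_⟩
    · intro z
      obtain ⟨α, rfl⟩ := Ideal.Quotient.mk_surjective z
      obtain ⟨s, u, rfl⟩ := IsLocalization.exists_mk'_eq M α
      obtain ⟨r, hr⟩ := hmod s
      obtain ⟨t, ht⟩ := hmod u
      have hu : IsUnit (Ideal.Quotient.mk P (algebraMap S₀ A u)) :=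
        (IsLocalization.map_units A u).map _
      refine ⟨⟨Ideal.Quotient.mk q r, ⟨Ideal.Quotient.mk q t, ?_⟩⟩, ?_⟩
      · show IsUnit (φ (Ideal.Quotient.mk q t))
        rw [← ht]; exact hu
      · show Ideal.Quotient.mk P (IsLocalization.mk' A s u) * φ (Ideal.Quotient.mk q t) =
          φ (Ideal.Quotient.mk q r)
        rw [← ht, ← hr, ← map_mul, IsLocalization.mk'_spec]
    · intro x y' hxy
      exact ⟨1, by rw [hφinj hxy]⟩
  exact isNagata_of_isLocalization (R ⧸ q) (AUK.isNagata_of_finite R (R ⧸ q) hR) M' (A ⧸ P)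

end Groth.Agent.H8.Jap.NagFT
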