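import Mathlib
import Groth.Prelude.Def_Found
import Groth.Agent.Lib.Helper8.Japanese.AUK5
import Groth.Agent.Lib.Helper8.OneDim.Compl

set_option autoImplicit false
universe u
open IsLocalRing TensorProduct

namespace Groth.Agent.H8.Jap.NagFT

theorem map_mem_jacobson_bot_of_surjective {B T : Type*} [CommRing B] [CommRing T] (g : B →+* T)
    (hg : Function.Surjective g) (x : B) (hx : x ∈ Ideal.jacobson (⊥ : Ideal B)) :
    g x ∈ Ideal.jacobson (⊥ : Ideal T) := by
  rw [Ideal.mem_jacobson_bot] at hx ⊢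
  intro y
  obtain ⟨y', rfl⟩ := hg y
  have := (hx y').map g
  rwa [map_add, map_mul, map_one] at this

/-- If `A/P` is Nagata, then `Â/PÂ` is reduced. -/
theorem isReduced_quotient_map_adicCompletion (A : Type u) [CommRing A] [IsLocalRing A]
    [IsNoetherianRing A] (P : Ideal A) [P.IsPrime] (hD : CAlg.IsNagata (A ⧸ P)) :
    IsReduced (AdicCompletion (maximalIdeal A) A ⧸
      P.map (algebraMap A (AdicCompletion (maximalIdeal A) A))) := by
  have hfg : (maximalIdeal A).FG := IsNoetherian.noetherian _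
  haveI : IsNoetherianRing (AdicCompletion (maximalIdeal A) A) :=
    OneDim.isNoetherianRing_adicCompletion A
  have hmax : maximalIdeal (AdicCompletion (maximalIdeal A) A) =
      (maximalIdeal A).map (algebraMap A (AdicCompletion (maximalIdeal A) A)) :=
    AdicCompletion.maximalIdeal_eq_map_of_fg hfg
  haveI : IsLocalRing (A ⧸ P) :=
    IsLocalRing.of_surjective' (Ideal.Quotient.mk P) Ideal.Quotient.mk_surjective
  set B := AdicCompletion (maximalIdeal A) A with hB
  let g : B →ₐ[A] (A ⧸ P) ⊗[A] B := Algebra.TensorProduct.includeRight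
  have hg : Function.Surjective g := by
    intro z
    induction z using TensorProduct.induction_on with
    | zero => exact ⟨0, map_zero _⟩
    | add a b ha hb =>
      obtain ⟨x, rfl⟩ := ha
      obtain ⟨y, rfl⟩ := hb
      exact ⟨x + y, map_add _ _ _⟩
    | tmul d β =>
      obtain ⟨a, rfl⟩ := Ideal.Quotient.mk_surjective d
      refine ⟨a • β, ?_⟩
      show (1 : A ⧸ P) ⊗ₜ[A] (a • β) = (Ideal.Quotient.mk P a) ⊗ₜ[A] β
      rw [TensorProduct.tmul_smul, TensorProduct.smul_tmul', ← Ideal.Quotient.algebraMap_eq,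
        Algebra.algebraMap_eq_smul_one]
  haveI : IsNoetherianRing ((A ⧸ P) ⊗[A] B) := isNoetherianRing_of_surjective B _ g.toRingHom hg
  -- compatibility
  have hcompat : ∀ a : A, algebraMap (A ⧸ P) ((A ⧸ P) ⊗[A] B) (Ideal.Quotient.mk P a) =
      g (algebraMap A B a) := by
    intro a
    show (Ideal.Quotient.mk P a) ⊗ₜ[A] (1 : B) = (1 : A ⧸ P) ⊗ₜ[A] (algebraMap A B a)
    rw [Algebra.algebraMap_eq_smul_one, TensorProduct.tmul_smul, TensorProduct.smul_tmul',
      ← Ideal.Quotient.algebraMap_eq, Algebra.algebraMap_eq_smul_one]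
  have hmD : maximalIdeal (A ⧸ P) = (maximalIdeal A).map (Ideal.Quotient.mk P) :=
    (IsLocalRing.map_maximalIdeal_of_surjective _ Ideal.Quotient.mk_surjective).symm
  have hjac : (maximalIdeal (A ⧸ P)).map (algebraMap (A ⧸ P) ((A ⧸ P) ⊗[A] B)) ≤
      Ideal.jacobson ⊥ := by
    rw [hmD, Ideal.map_map, Ideal.map_le_iff_le_comap]
    intro μ hμ
    rw [Ideal.mem_comap, RingHom.comp_apply, hcompat]
    apply map_mem_jacobson_bot_of_surjective g.toRingHom hg
    rw [IsLocalRing.jacobson_eq_maximalIdeal ⊥ bot_ne_top, hmax]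
    exact Ideal.mem_map_of_mem _ hμ
  have hres : ∀ t : (A ⧸ P) ⊗[A] B, ∃ d : A ⧸ P, t - algebraMap (A ⧸ P) _ d ∈
      (maximalIdeal (A ⧸ P)).map (algebraMap (A ⧸ P) ((A ⧸ P) ⊗[A] B)) := by
    intro t
    obtain ⟨β, rfl⟩ := hg t
    obtain ⟨α, hα⟩ := OneDim.exists_sub_mem_maximalIdeal_adicCompletion A β
    refine ⟨Ideal.Quotient.mk P α, ?_⟩
    rw [hcompat, ← map_sub]
    rw [hmax] at hα
    have hle : ((maximalIdeal A).map (algebraMap A B)).map g.toRingHom ≤
        (maximalIdeal (A ⧸ P)).map (algebraMap (A ⧸ P) ((A ⧸ P) ⊗[A] B)) := by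
      rw [Ideal.map_map, Ideal.map_le_iff_le_comap]
      intro μ hμ
      rw [Ideal.mem_comap, RingHom.comp_apply]
      show g (algebraMap A B μ) ∈ _
      rw [← hcompat]
      apply Ideal.mem_map_of_mem
      rw [hmD]
      exact Ideal.mem_map_of_mem _ hμ
    exact hle (Ideal.mem_map_of_mem g.toRingHom hα)
  have hred := AUK.isReduced_tensor (A ⧸ P) ((A ⧸ P) ⊗[A] B) hD hjac hres (A ⧸ P)
  haveI : IsReduced ((A ⧸ P) ⊗[A] B) :=
    isReduced_of_injective (Algebra.TensorProduct.lid (A ⧸ P) ((A ⧸ P) ⊗[A] B)).symm.toRingEquiv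
      (RingEquiv.injective _)
  exact isReduced_of_injective
    (((Algebra.TensorProduct.quotIdealMapEquivTensorQuot B P).toRingEquiv).trans
      (Algebra.TensorProduct.comm A B (A ⧸ P)).toRingEquiv) (RingEquiv.injective _)

end Groth.Agent.H8.Jap.NagFT
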