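import Mathlib
import Groth.Prelude.Def_Found
import Groth.Agent.Lib.Helper8.Japanese.NagFT4
import Groth.Agent.Lib.Helper8.Japanese.NagFT5

set_option autoImplicit false
universe u
open IsLocalRing TensorProduct

namespace Groth.Agent.H8.Jap.NagFT

/-- **Trivial residue field case.** `R` a normal Nagata domain, `S₀ = R[y]` with `y = b/a`,
`𝔪₀` a prime of `S₀` containing `y`. Then `(S₀)_{𝔪₀}` is analytically unramified. -/
theorem isReduced_adicCompletion_localization {R S₀ : Type u} [CommRing R] [IsDomain R]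
    [IsIntegrallyClosed R] (hR : CAlg.IsNagata R)
    [CommRing S₀] [IsDomain S₀] [Algebra R S₀] [IsNoetherianRing S₀]
    (hinj : Function.Injective (algebraMap R S₀))
    (y : S₀) (a b : R) (ha : a ≠ 0) (hab : algebraMap R S₀ a * y = algebraMap R S₀ b)
    (hS1 : ∀ s : S₀, ∃ r : R, s - algebraMap R S₀ r ∈ Ideal.span {y})
    (hS2 : ∀ r : R, algebraMap R S₀ r ∈ Ideal.span {y} → ∃ r' : R, a * r = b * r')
    (hy0 : y ≠ 0) (m₀ : Ideal S₀) [m₀.IsPrime] (hym : y ∈ m₀) :
    IsReduced (AdicCompletion (maximalIdeal (Localization.AtPrime m₀))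
      (Localization.AtPrime m₀)) := by
  haveI := hR.1
  haveI : IsNoetherianRing (Localization.AtPrime m₀) :=
    IsLocalization.isNoetherianRing m₀.primeCompl _ inferInstance
  have hfg : (maximalIdeal (Localization.AtPrime m₀)).FG := IsNoetherian.noetherian _
  haveI : IsNoetherianRing (AdicCompletion (maximalIdeal (Localization.AtPrime m₀))
      (Localization.AtPrime m₀)) := OneDim.isNoetherianRing_adicCompletion _
  have hmax := AdicCompletion.maximalIdeal_eq_map_of_fg hfg
  have hle : m₀.primeCompl ≤ nonZeroDivisors S₀ := by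
    intro t ht
    rw [mem_nonZeroDivisors_iff_ne_zero]
    rintro rfl
    exact ht m₀.zero_mem
  have hy₁0 : algebraMap S₀ (Localization.AtPrime m₀) y ≠ 0 := fun h0 =>
    hy0 (IsLocalization.injective (Localization.AtPrime m₀) hle (by rw [h0, map_zero]))
  have hy₁m : algebraMap S₀ (Localization.AtPrime m₀) y ∈
      maximalIdeal (Localization.AtPrime m₀) :=
    (IsLocalization.AtPrime.to_map_mem_maximal_iff _ m₀ y).mpr hym
  refine AUK.isReduced_of_ass (algebraMap S₀ (Localization.AtPrime m₀) y) hy₁0 ?_ ?_ ?_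
  · rw [IsLocalRing.jacobson_eq_maximalIdeal ⊥ bot_ne_top, hmax]
    exact Ideal.mem_map_of_mem _ hy₁m
  · intro P hP
    exact exists_principal_of_localization hinj y a b ha hab hS1 hS2 hy0 _ m₀.primeCompl P hP
  · intro P hP
    haveI : P.IsPrime := hP.isPrime
    have hyP := AUK.mem_of_mem_associatedPrimes_quot_span _ P hP
    exact isReduced_quotient_map_adicCompletion _ P
      (isNagata_quotient_of_localization hR y hS1 _ m₀.primeCompl P hyP)

end Groth.Agent.H8.Jap.NagFT
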