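import Mathlib
import Groth.Prelude.Def_Found
import Groth.Agent.Lib.Helper8.Japanese.AU1
import Groth.Agent.Lib.Helper8.Japanese.CompleteNagata
import Groth.Agent.Lib.Helper8.OneDim.Compl
set_option autoImplicit false
universe u
open Module IsLocalRing

namespace Groth.Agent.H8.Jap

section
variable (R : Type u) [CommRing R] [IsLocalRing R] [IsNoetherianRing R]

/-- the completion of a Noetherian local ring is complete for its own maximal ideal -/
theorem isAdicComplete_adicCompletion_maximalIdeal :
    letI := AdicCompletion.isLocalRing_of_fg (R := R) (IsNoetherian.noetherian _)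
    IsAdicComplete (maximalIdeal (AdicCompletion (maximalIdeal R) R))
      (AdicCompletion (maximalIdeal R) R) := by
  have hfg : (maximalIdeal R).FG := IsNoetherian.noetherian _
  letI := AdicCompletion.isLocalRing_of_fg (R := R) hfg
  rw [AdicCompletion.maximalIdeal_eq_map_of_fg hfg]
  exact (IsAdicComplete.map_algebraMap_iff (R := R) (S := AdicCompletion (maximalIdeal R) R)
    (M := AdicCompletion (maximalIdeal R) R) (I := maximalIdeal R)).mpr
      (AdicCompletion.isAdicComplete hfg)

/-- the completion of a Noetherian local ring is a Nagata ring -/
theorem isNagata_adicCompletion : CAlg.IsNagata (AdicCompletion (maximalIdeal R) R) := by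
  have hfg : (maximalIdeal R).FG := IsNoetherian.noetherian _
  haveI : IsNoetherianRing (AdicCompletion (maximalIdeal R) R) :=
    OneDim.isNoetherianRing_adicCompletion R
  letI := AdicCompletion.isLocalRing_of_fg (R := R) hfg
  haveI := isAdicComplete_adicCompletion_maximalIdeal R
  exact isNagata_of_complete_local _

/-- An analytically unramified Noetherian local domain is N-1. -/
theorem isN1_of_isReduced_adicCompletion [IsDomain R]
    [IsReduced (AdicCompletion (maximalIdeal R) R)] : CAlg.IsN1 R := by
  have hfg : (maximalIdeal R).FG := IsNoetherian.noetherian _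
  haveI : IsNoetherianRing (AdicCompletion (maximalIdeal R) R) :=
    OneDim.isNoetherianRing_adicCompletion R
  letI := AdicCompletion.isLocalRing_of_fg (R := R) hfg
  haveI := AdicCompletion.algebraMap_isLocalHom_of_fg (R := R) hfg
  haveI : Module.FaithfullyFlat R (AdicCompletion (maximalIdeal R) R) :=
    Module.FaithfullyFlat.of_flat_of_isLocalHom
  have hNag := isNagata_adicCompletion R
  apply AU.isN1_of_faithfullyFlat R (AdicCompletion (maximalIdeal R) R)
  intro q _ _
  exact hNag.2 q (FractionRing (AdicCompletion (maximalIdeal R) R ⧸ q)) inferInstance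

end

end Groth.Agent.H8.Jap
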