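import Mathlib
import Groth.Prelude.Def_Found
import Groth.Agent.Lib.Helper8.Japanese.AUK5

set_option autoImplicit false
universe u
open TensorProduct

namespace Groth.Agent.H8.Jap.AUK

theorem isN1_quotient_tensor (A A' B : Type u) [CommRing A] [CommRing A'] [Algebra A A']
    [CommRing B] [Algebra A B] [Module.Finite A B] (hA' : CAlg.IsNagata A')
    (q : Ideal (B ⊗[A] A')) [q.IsPrime] : CAlg.IsN1 ((B ⊗[A] A') ⧸ q) := by
  let g : A' →+* (B ⊗[A] A') ⧸ q :=
    (Ideal.Quotient.mk q).comp (Algebra.TensorProduct.includeRight : A' →ₐ[A] B ⊗[A] A').toRingHom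
  letI : Algebra A' ((B ⊗[A] A') ⧸ q) := g.toAlgebra
  let e := Algebra.TensorProduct.comm A A' B
  let f : A' ⊗[A] B →ₗ[A'] (B ⊗[A] A') ⧸ q :=
    { toFun := fun x => Ideal.Quotient.mk q (e x)
      map_add' := fun x y => by simp
      map_smul' := fun c x => by
        show Ideal.Quotient.mk q (e (c • x)) = g c * Ideal.Quotient.mk q (e x)
        have : c • x = (c ⊗ₜ[A] (1 : B)) * x := by
          rw [Algebra.smul_def]; rfl
        rw [this, map_mul, map_mul]
        congr 1 }
  have hf : Function.Surjective f := by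
    intro y
    obtain ⟨z, rfl⟩ := Ideal.Quotient.mk_surjective y
    exact ⟨e.symm z, by simp [f]⟩
  haveI : Module.Finite A' ((B ⊗[A] A') ⧸ q) := Module.Finite.of_surjective f hf
  exact isN1_of_isN2 _ (isN2_of_finite_of_isNagata A' _ hA')

end Groth.Agent.H8.Jap.AUK
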