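import Mathlib
import Groth.Prelude.Def_Found
import Groth.Agent.Lib.Helper8.Japanese.AUK9
import Groth.Agent.Lib.Helper8.Japanese.AU2

set_option autoImplicit false
universe u
open IsLocalRing TensorProduct

namespace Groth.Agent.H8.Jap.NagFT

/-- common denominator for a finite birational extension -/
theorem exists_common_denominator (A₀ E : Type*) [CommRing A₀] [IsDomain A₀] [CommRing E]
    [Algebra A₀ E] [Module.Finite A₀ E]
    (hbir : ∀ e : E, ∃ d : A₀, d ≠ 0 ∧ ∃ α : A₀, d • e = algebraMap A₀ E α) :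
    ∃ d : A₀, d ≠ 0 ∧ ∀ e : E, ∃ α : A₀, d • e = algebraMap A₀ E α := by
  classical
  obtain ⟨s, hs⟩ := (Module.Finite.fg_top : (⊤ : Submodule A₀ E).FG)
  choose dd hdd using hbir
  refine ⟨∏ x ∈ s, dd x, Finset.prod_ne_zero_iff.mpr (fun x _ => (hdd x).1), ?_⟩
  intro e
  have he : e ∈ Submodule.span A₀ (s : Set E) := by rw [hs]; trivial
  induction he using Submodule.span_induction with
  | mem x hx =>
    obtain ⟨α, hα⟩ := (hdd x).2
    refine ⟨(∏ z ∈ s.erase x, dd z) * α, ?_⟩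
    rw [← Finset.mul_prod_erase s dd hx, mul_comm, mul_smul, hα, map_mul, Algebra.smul_def]
  | zero => exact ⟨0, by simp⟩
  | add x y _ _ hx hy =>
    obtain ⟨α, hα⟩ := hx
    obtain ⟨β, hβ⟩ := hy
    exact ⟨α + β, by rw [smul_add, hα, hβ, map_add]⟩
  | smul c x _ hx =>
    obtain ⟨α, hα⟩ := hx
    exact ⟨c * α, by rw [smul_comm, hα, map_mul, Algebra.smul_def]⟩

/-- **BF**: base change of a finite birational extension by a flat reduced algebra is reduced. -/
theorem isReduced_tensor_of_birational (A₀ E T : Type u) [CommRing A₀] [IsDomain A₀] [CommRing E]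
    [IsDomain E] [Algebra A₀ E] [Module.Finite A₀ E]
    (hinj : Function.Injective (algebraMap A₀ E))
    (hbir : ∀ e : E, ∃ d : A₀, d ≠ 0 ∧ ∃ α : A₀, d • e = algebraMap A₀ E α)
    [CommRing T] [Algebra A₀ T] [Module.Flat A₀ T] [IsReduced T] : IsReduced (E ⊗[A₀] T) := by
  obtain ⟨d, hd0, hd⟩ := exists_common_denominator A₀ E hbir
  let ι : T →ₐ[A₀] E ⊗[A₀] T := Algebra.TensorProduct.includeRight
  have hι : Function.Injective ι := by
    have h1 := Module.Flat.rTensor_preserves_injective_linearMap (M := T)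
      (Algebra.linearMap A₀ E) hinj
    intro t₁ t₂ h
    have h2 : (LinearMap.rTensor T (Algebra.linearMap A₀ E)) ((1 : A₀) ⊗ₜ[A₀] t₁) =
        (LinearMap.rTensor T (Algebra.linearMap A₀ E)) ((1 : A₀) ⊗ₜ[A₀] t₂) := by
      simpa [ι] using h
    have h3 := h1 h2
    have h4 := congrArg (TensorProduct.lid A₀ T) h3
    simpa using h4
  have hrange : ∀ ε : E ⊗[A₀] T, ∃ τ : T, d • ε = ι τ := by
    intro ε
    induction ε using TensorProduct.induction_on with
    | zero => exact ⟨0, by simp⟩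
    | tmul e t =>
      obtain ⟨α, hα⟩ := hd e
      refine ⟨α • t, ?_⟩
      show d • (e ⊗ₜ[A₀] t) = (1 : E) ⊗ₜ[A₀] (α • t)
      rw [TensorProduct.smul_tmul', hα, TensorProduct.tmul_smul, TensorProduct.smul_tmul',
        Algebra.algebraMap_eq_smul_one]
    | add x y hx hy =>
      obtain ⟨τ₁, h₁⟩ := hx
      obtain ⟨τ₂, h₂⟩ := hy
      exact ⟨τ₁ + τ₂, by rw [smul_add, h₁, h₂, map_add]⟩
  have hdE : algebraMap A₀ E d ≠ 0 := fun h0 => hd0 (hinj (by rw [h0, map_zero]))
  have hnzd : algebraMap E (E ⊗[A₀] T) (algebraMap A₀ E d) ∈ nonZeroDivisors (E ⊗[A₀] T) :=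
    AU.algebraMap_mem_nonZeroDivisors E (E ⊗[A₀] T) hdE
  refine ⟨fun ε hε => ?_⟩
  obtain ⟨n, hn⟩ := hε
  obtain ⟨τ, hτ⟩ := hrange ε
  have h1 : ι (τ ^ n) = 0 := by
    rw [map_pow, ← hτ, smul_pow, hn, smul_zero]
  have h2 : τ ^ n = 0 := hι (by rw [h1, map_zero])
  have h3 : τ = 0 := IsNilpotent.eq_zero ⟨n, h2⟩
  rw [h3, map_zero] at hτ
  have h4 : algebraMap E (E ⊗[A₀] T) (algebraMap A₀ E d) * ε = 0 := by
    rw [← hτ, ← IsScalarTower.algebraMap_apply, Algebra.smul_def]
  exact (mul_left_mem_nonZeroDivisors_eq_zero_iff hnzd).mp h4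

/-- A finite birational extension of an analytically unramified local domain is N-1. -/
theorem isN1_of_finite_birational (A₀ E : Type u) [CommRing A₀] [IsDomain A₀] [IsLocalRing A₀]
    [IsNoetherianRing A₀] [IsReduced (AdicCompletion (maximalIdeal A₀) A₀)]
    [CommRing E] [IsDomain E] [Algebra A₀ E] [Module.Finite A₀ E]
    (hinj : Function.Injective (algebraMap A₀ E))
    (hbir : ∀ e : E, ∃ d : A₀, d ≠ 0 ∧ ∃ α : A₀, d • e = algebraMap A₀ E α) : CAlg.IsN1 E := by
  have hfg : (maximalIdeal A₀).FG := IsNoetherian.noetherian _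
  haveI : IsNoetherianRing (AdicCompletion (maximalIdeal A₀) A₀) :=
    OneDim.isNoetherianRing_adicCompletion A₀
  haveI := AdicCompletion.algebraMap_isLocalHom_of_fg (R := A₀) hfg
  haveI : Module.FaithfullyFlat A₀ (AdicCompletion (maximalIdeal A₀) A₀) :=
    Module.FaithfullyFlat.of_flat_of_isLocalHom
  haveI : IsNoetherianRing (E ⊗[A₀] (AdicCompletion (maximalIdeal A₀) A₀)) :=
    AUK.isNoetherianRing_tensor A₀ E _
  haveI : IsReduced (E ⊗[A₀] (AdicCompletion (maximalIdeal A₀) A₀)) :=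
    isReduced_tensor_of_birational A₀ E _ hinj hbir
  apply AU.isN1_of_faithfullyFlat E (E ⊗[A₀] (AdicCompletion (maximalIdeal A₀) A₀))
  intro q _ _
  exact AUK.isN1_quotient_tensor A₀ _ E (isNagata_adicCompletion A₀) q

end Groth.Agent.H8.Jap.NagFT
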