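import Mathlib
import Groth.Prelude.Def_Found
import Groth.Agent.Lib.Helper5.LocIC
import Groth.Agent.Lib.Helper8.Japanese.NagFT7

set_option autoImplicit false
universe u
open IsLocalRing TensorProduct

namespace Groth.Agent.H8.Jap.NagFT

/-- **P2 + P3.** -/
theorem isN1_atPrime_of_finite_localization (S₀ S : Type u) [CommRing S₀] [IsDomain S₀]
    [IsNoetherianRing S₀] [CommRing S] [IsDomain S] [Algebra S₀ S]
    (hinj : Function.Injective (algebraMap S₀ S)) (m : Ideal S) [m.IsPrime]
    (hAU : IsReduced (AdicCompletion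
      (maximalIdeal (Localization.AtPrime (m.comap (algebraMap S₀ S))))
      (Localization.AtPrime (m.comap (algebraMap S₀ S)))))
    (hfin : Module.Finite (Localization.AtPrime (m.comap (algebraMap S₀ S)))
      (Localization (Algebra.algebraMapSubmonoid S (m.comap (algebraMap S₀ S)).primeCompl)))
    (hbir : ∀ s : S, ∃ d : S₀, d ≠ 0 ∧ ∃ α : S₀, d • s = algebraMap S₀ S α) :
    CAlg.IsN1 (Localization.AtPrime m) := by
  set m₀ := m.comap (algebraMap S₀ S) with hm₀
  set M₁ := Algebra.algebraMapSubmonoid S m₀.primeCompl with hM₁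
  have hM₁0 : M₁ ≤ nonZeroDivisors S := by
    rintro _ ⟨t, ht, rfl⟩
    rw [mem_nonZeroDivisors_iff_ne_zero]
    intro h0
    apply ht
    rw [hinj (by rw [h0, map_zero] : algebraMap S₀ S t = algebraMap S₀ S 0)]
    exact m₀.zero_mem
  have hm₀0 : m₀.primeCompl ≤ nonZeroDivisors S₀ := by
    intro t ht
    rw [mem_nonZeroDivisors_iff_ne_zero]
    rintro rfl
    exact ht m₀.zero_mem
  haveI : IsDomain (Localization M₁) := IsLocalization.isDomain_localization hM₁0
  haveI : IsNoetherianRing (Localization.AtPrime m₀) :=
    IsLocalization.isNoetherianRing m₀.primeCompl _ inferInstance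
  haveI := hAU
  haveI := hfin
  have hinjE : Function.Injective (algebraMap (Localization.AtPrime m₀) (Localization M₁)) :=
    localizationAlgebra_injective (Localization.AtPrime m₀) (Localization M₁) hinj
  have hbirE : ∀ e : Localization M₁, ∃ d : Localization.AtPrime m₀, d ≠ 0 ∧
      ∃ α : Localization.AtPrime m₀, d • e = algebraMap _ (Localization M₁) α := by
    intro e
    obtain ⟨s, ⟨_, t, ht, rfl⟩, rfl⟩ := IsLocalization.exists_mk'_eq M₁ e
    obtain ⟨d, hd0, α, hα⟩ := hbir s
    refine ⟨algebraMap S₀ _ d, ?_, IsLocalization.mk' _ α (⟨t, ht⟩ : m₀.primeCompl), ?_⟩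
    · intro h0
      exact hd0 (IsLocalization.injective (Localization.AtPrime m₀) hm₀0 (by rw [h0, map_zero]))
    · rw [Algebra.smul_def, ← IsScalarTower.algebraMap_apply S₀ (Localization.AtPrime m₀)
        (Localization M₁), IsScalarTower.algebraMap_apply S₀ S (Localization M₁),
        IsLocalization.mul_mk'_eq_mk'_of_mul, ← Algebra.smul_def, hα]
      rw [IsLocalization.algebraMap_mk' (S := S) (Rₘ := Localization.AtPrime m₀)
        (Sₘ := Localization M₁)]
  have hE : CAlg.IsN1 (Localization M₁) :=
    isN1_of_finite_birational (Localization.AtPrime m₀) (Localization M₁) hinjE hbirE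
  -- S_m is a localization of E
  have hle : M₁ ≤ m.primeCompl := by
    rintro _ ⟨t, ht, rfl⟩
    exact ht
  letI : Algebra (Localization M₁) (Localization.AtPrime m) :=
    IsLocalization.localizationAlgebraOfSubmonoidLe _ _ M₁ m.primeCompl hle
  haveI : IsScalarTower S (Localization M₁) (Localization.AtPrime m) :=
    IsLocalization.localization_isScalarTower_of_submonoid_le _ _ M₁ m.primeCompl hle
  haveI : IsLocalization (m.primeCompl.map (algebraMap S (Localization M₁)))
      (Localization.AtPrime m) :=
    IsLocalization.isLocalization_of_submonoid_le _ _ M₁ m.primeCompl hle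
  exact H5.isN1_of_isLocalization (Localization M₁)
    (m.primeCompl.map (algebraMap S (Localization M₁))) (Localization.AtPrime m) hE

end Groth.Agent.H8.Jap.NagFT
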