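import Mathlib

set_option autoImplicit false
universe u
open Polynomial

namespace Groth.Agent.H8.Jap.NagFT

theorem finite_localization_of_integral_equation (R S₀ S : Type*) [CommRing R] [CommRing S₀]
    [CommRing S] [Algebra R S₀] [Algebra S₀ S] [Algebra R S] [IsScalarTower R S₀ S] (x : S)
    (hgen : Algebra.adjoin R {x} = ⊤) (m₀ : Ideal S₀) [m₀.IsPrime] (f : R[X]) (y₀ : S₀)
    (hy : aeval x f = algebraMap S₀ S y₀) (hdeg : 0 < f.natDegree)
    (hc : algebraMap R S₀ f.leadingCoeff ∉ m₀) :
    Module.Finite (Localization.AtPrime m₀)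
      (Localization (Algebra.algebraMapSubmonoid S m₀.primeCompl)) := by
  set A₀ := Localization.AtPrime m₀ with hA₀
  set M₁ := Algebra.algebraMapSubmonoid S m₀.primeCompl with hM₁
  set E := Localization M₁ with hE
  set xE : E := algebraMap S E x with hxE
  haveI : IsScalarTower R A₀ E := IsScalarTower.of_algebraMap_eq (fun r => by
    rw [IsScalarTower.algebraMap_apply R S₀ A₀, ← IsScalarTower.algebraMap_apply S₀ A₀ E,
      IsScalarTower.algebraMap_apply S₀ S E, ← IsScalarTower.algebraMap_apply R S₀ S,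
      ← IsScalarTower.algebraMap_apply R S E])
  -- the unit
  have hunit : IsUnit (algebraMap R A₀ f.leadingCoeff) := by
    rw [IsScalarTower.algebraMap_apply R S₀ A₀]
    exact IsLocalization.map_units A₀ (⟨_, hc⟩ : m₀.primeCompl)
  obtain ⟨u, hu⟩ := hunit
  set F : A₀[X] := f.map (algebraMap R A₀) - C (algebraMap S₀ A₀ y₀) with hF
  have hlc0 : algebraMap R A₀ f.leadingCoeff ≠ 0 := by
    rw [← hu]; exact u.ne_zero
  have hdegmap : (f.map (algebraMap R A₀)).degree = f.degree :=
    degree_map_eq_of_leadingCoeff_ne_zero _ hlc0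
  have hlt : (C (algebraMap S₀ A₀ y₀)).degree < (f.map (algebraMap R A₀)).degree := by
    rw [hdegmap]
    refine degree_C_le.trans_lt ?_
    rw [← natDegree_pos_iff_degree_pos]
    exact hdeg
  have hlead : F.leadingCoeff = algebraMap R A₀ f.leadingCoeff := by
    rw [hF, leadingCoeff_sub_of_degree_lt hlt, leadingCoeff_map_of_leadingCoeff_ne_zero _ hlc0]
  have hmonic : (C (↑u⁻¹ : A₀) * F).Monic := by
    apply monic_C_mul_of_mul_leadingCoeff_eq_one
    rw [hlead, ← hu, Units.inv_mul]
  have hroot : aeval xE F = 0 := by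
    rw [hF, map_sub, aeval_C, aeval_map_algebraMap, hxE, aeval_algebraMap_apply, hy,
      ← IsScalarTower.algebraMap_apply, ← IsScalarTower.algebraMap_apply, sub_self]
  have hint : IsIntegral A₀ xE := ⟨C (↑u⁻¹ : A₀) * F, hmonic, by
    rw [← aeval_def, map_mul, hroot, mul_zero]⟩
  have hfg := hint.fg_adjoin_singleton
  have hSmem : ∀ s : S, algebraMap S E s ∈ Algebra.adjoin A₀ {xE} := by
    intro s
    have hs : s ∈ Algebra.adjoin R {x} := by rw [hgen]; trivial
    induction hs using Algebra.adjoin_induction with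
    | mem z hz =>
      rw [Set.mem_singleton_iff.mp hz]
      exact Algebra.subset_adjoin rfl
    | algebraMap r =>
      have : algebraMap S E (algebraMap R S r) = algebraMap A₀ E (algebraMap R A₀ r) := by
        rw [← IsScalarTower.algebraMap_apply, ← IsScalarTower.algebraMap_apply]
      rw [this]
      exact Subalgebra.algebraMap_mem _ _
    | add a b _ _ ha hb => rw [map_add]; exact Subalgebra.add_mem _ ha hb
    | mul a b _ _ ha hb => rw [map_mul]; exact Subalgebra.mul_mem _ ha hb
  have htop : Algebra.adjoin A₀ {xE} = ⊤ := by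
    rw [eq_top_iff]
    intro e _
    obtain ⟨s, ⟨_, t, ht, rfl⟩, rfl⟩ := IsLocalization.exists_mk'_eq M₁ e
    have : IsLocalization.mk' E s (⟨algebraMap S₀ S t, t, ht, rfl⟩ : M₁) =
        algebraMap S E s * algebraMap A₀ E (IsLocalization.mk' A₀ 1 (⟨t, ht⟩ : m₀.primeCompl)) := by
      rw [IsLocalization.algebraMap_mk' (S := S) (Rₘ := A₀) (Sₘ := E), map_one,
        IsLocalization.mul_mk'_eq_mk'_of_mul, mul_one]
    rw [this]
    exact Subalgebra.mul_mem _ (hSmem s) (Subalgebra.algebraMap_mem _ _)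
  rw [htop] at hfg
  exact ⟨by simpa using hfg⟩

end Groth.Agent.H8.Jap.NagFT
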