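import Mathlib
import Groth.Prelude.Def_Found
import Groth.Agent.Lib.Helper8.Japanese.NagFT1
import Groth.Agent.Lib.Helper8.Japanese.NagFT6
import Groth.Agent.Lib.Helper8.Japanese.NagFT8
import Groth.Agent.Lib.Helper8.Japanese.NagFT9
import Groth.Agent.Lib.Helper8.Japanese.NagFT10
import Groth.Agent.S0576

set_option autoImplicit false
universe u
open IsLocalRing Polynomial

namespace Groth.Agent.H8.Jap.NagFT

section
variable {R K : Type u} [CommRing R] [IsDomain R] [IsIntegrallyClosed R] [Field K] [Algebra R K]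
  [IsFractionRing R K]

/-- the hypotheses of the trivial residue field case hold for `S₀ = R[y] ⊆ K` -/
theorem isReduced_adicCompletion_adjoin (hR : CAlg.IsNagata R) (S₀ : Type u) [CommRing S₀]
    [Algebra R S₀] (ι : S₀ →ₐ[R] K) (hι : Function.Injective ι) (y₀ : S₀)
    (hgen₀ : Algebra.adjoin R {y₀} = ⊤)
    (m₀ : Ideal S₀) [m₀.IsPrime] (hym : y₀ ∈ m₀) :
    IsReduced (AdicCompletion (maximalIdeal (Localization.AtPrime m₀))
      (Localization.AtPrime m₀)) := by
  haveI := hR.1
  haveI : IsDomain S₀ := hι.isDomain ι.toRingHom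
  have hinjK : Function.Injective (algebraMap R K) := IsFractionRing.injective R K
  have hinj : Function.Injective (algebraMap R S₀) := by
    intro r₁ r₂ h
    apply hinjK
    have := congrArg ι h
    rwa [AlgHom.commutes, AlgHom.commutes] at this
  by_cases hy0 : y₀ = 0
  · haveI : Module.Finite R S₀ := by
      have h1 : (Subalgebra.toSubmodule (Algebra.adjoin R {y₀})).FG :=
        IsIntegral.fg_adjoin_singleton (hy0 ▸ isIntegral_zero)
      rw [hgen₀] at h1
      exact ⟨by simpa using h1⟩
    have h1 : CAlg.IsNagata S₀ := AUK.isNagata_of_finite R S₀ hR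
    have h2 : CAlg.IsNagata (Localization.AtPrime m₀) :=
      isNagata_of_isLocalization S₀ h1 m₀.primeCompl _
    exact Groth.Agent.S0576.result _ h2
  · haveI : IsNoetherianRing S₀ := by
      haveI : Algebra.FiniteType R S₀ := ⟨⟨{y₀}, by simpa using hgen₀⟩⟩
      exact Algebra.FiniteType.isNoetherianRing R S₀
    obtain ⟨b, a, hba⟩ := IsLocalization.exists_mk'_eq (nonZeroDivisors R) (ι y₀)
    have ha0 : (a : R) ≠ 0 := nonZeroDivisors.ne_zero a.2
    have habK : algebraMap R K a * ι y₀ = algebraMap R K b := by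
      rw [← hba, IsLocalization.mk'_spec'_mk]
    have hab : algebraMap R S₀ a * y₀ = algebraMap R S₀ b := by
      apply hι
      rw [map_mul, AlgHom.commutes, AlgHom.commutes]
      exact habK
    have hS1 := exists_sub_mem_span_of_adjoin_eq_top y₀ hgen₀
    have hmemK : ∀ s₀ : S₀, ι s₀ ∈ Algebra.adjoin R {ι y₀} := by
      intro s₀
      have hs : s₀ ∈ Algebra.adjoin R {y₀} := by rw [hgen₀]; trivial
      induction hs using Algebra.adjoin_induction with
      | mem z hz => rw [Set.mem_singleton_iff.mp hz]; exact Algebra.subset_adjoin rfl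
      | algebraMap r => rw [AlgHom.commutes]; exact Subalgebra.algebraMap_mem _ r
      | add a b _ _ ha hb => rw [map_add]; exact Subalgebra.add_mem _ ha hb
      | mul a b _ _ ha hb => rw [map_mul]; exact Subalgebra.mul_mem _ ha hb
    have hS2 : ∀ r : R, algebraMap R S₀ r ∈ Ideal.span {y₀} → ∃ r' : R, (a : R) * r = b * r' := by
      intro r hr
      obtain ⟨s₀, hs₀⟩ := Ideal.mem_span_singleton'.mp hr
      have hK : algebraMap R K r = ι y₀ * ι s₀ := by
        have := congrArg ι hs₀
        rw [map_mul, AlgHom.commutes] at this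
        rw [mul_comm]
        exact this.symm
      obtain ⟨r', hr'⟩ := exists_eq_mul_of_mem_adjoin (ι y₀) _ (hmemK s₀) r hK
      refine ⟨r', ?_⟩
      apply hinjK
      rw [map_mul, map_mul, hr', ← mul_assoc, habK]
    exact isReduced_adicCompletion_localization hR hinj y₀ a b ha0 hab hS1 hS2 hy0 m₀ hym

end

end Groth.Agent.H8.Jap.NagFT
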