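import Mathlib
import Groth.Prelude.Def_Found
import Groth.Agent.Lib.Helper8.Japanese.NagFT11

set_option autoImplicit false
universe u
open IsLocalRing Polynomial

namespace Groth.Agent.H8.Jap.NagFT

section
variable {R K : Type u} [CommRing R] [IsDomain R] [IsIntegrallyClosed R] [Field K] [Algebra R K]
  [IsFractionRing R K]

/-- **(C-ii)**: localizations of `R[x] ⊆ K` at maximal ideals are N-1. -/
theorem isN1_atPrime_adjoin (hR : CAlg.IsNagata R) (S : Type u) [CommRing S]
    [Algebra R S] (ι : S →ₐ[R] K) (hι : Function.Injective ι) (x : S)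
    (hgen : Algebra.adjoin R {x} = ⊤) (m : Ideal S) [m.IsMaximal] :
    ∃ (_ : IsDomain S), CAlg.IsN1 (Localization.AtPrime m) := by
  haveI := hR.1
  haveI : IsDomain S := hι.isDomain ι.toRingHom
  refine ⟨inferInstance, ?_⟩
  obtain ⟨f, hlc, hmem, hdeg⟩ := exists_polynomial_mem_maximal R S x hgen m
  set y : S := aeval x f with hy
  have hgen₀ : Algebra.adjoin R {(⟨y, Algebra.subset_adjoin rfl⟩ : Algebra.adjoin R {y})} = ⊤ := by
    have := Algebra.adjoin_adjoin_coe_preimage (R := R) (s := ({y} : Set S))
    convert this using 2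
    ext z
    simp [Subtype.ext_iff]
  have hι₀ : Function.Injective (ι.comp (Algebra.adjoin R {y}).val) :=
    hι.comp Subtype.val_injective
  have hinj : Function.Injective (algebraMap (Algebra.adjoin R {y}) S) := Subtype.val_injective
  have hAU := isReduced_adicCompletion_adjoin hR (Algebra.adjoin R {y})
    (ι.comp (Algebra.adjoin R {y}).val) hι₀ ⟨y, Algebra.subset_adjoin rfl⟩ hgen₀
    (m.comap (algebraMap (Algebra.adjoin R {y}) S)) hmem
  haveI : IsNoetherianRing (Algebra.adjoin R {y}) := by
    haveI : Algebra.FiniteType R (Algebra.adjoin R {y}) :=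
      ⟨⟨{⟨y, Algebra.subset_adjoin rfl⟩}, by simpa using hgen₀⟩⟩
    exact Algebra.FiniteType.isNoetherianRing R _
  have hfin := finite_localization_of_integral_equation R (Algebra.adjoin R {y}) S x hgen
    (m.comap (algebraMap (Algebra.adjoin R {y}) S)) f ⟨y, Algebra.subset_adjoin rfl⟩ rfl hdeg hlc
  refine isN1_atPrime_of_finite_localization (Algebra.adjoin R {y}) S hinj m hAU hfin ?_
  intro s
  obtain ⟨r₁, r₂, hr⟩ := IsLocalization.exists_mk'_eq (nonZeroDivisors R) (ι s)
  have hr₂ : (r₂ : R) ≠ 0 := nonZeroDivisors.ne_zero r₂.2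
  have hinjS : Function.Injective (algebraMap R S) := by
    intro a b hab
    apply IsFractionRing.injective R K
    have := congrArg ι hab
    rwa [AlgHom.commutes, AlgHom.commutes] at this
  refine ⟨algebraMap R _ r₂, ?_, algebraMap R _ r₁, ?_⟩
  · intro h0
    apply hr₂
    apply hinjS
    have := congrArg (algebraMap (Algebra.adjoin R {y}) S) h0
    rw [map_zero] at this
    rw [map_zero, ← this]
    rfl
  · apply hι
    rw [Algebra.smul_def, map_mul]
    show ι (algebraMap R S r₂) * ι s = ι (algebraMap R S r₁)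
    rw [AlgHom.commutes, AlgHom.commutes, ← hr, IsLocalization.mk'_spec'_mk]

end

end Groth.Agent.H8.Jap.NagFT
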