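import Mathlib
import Groth.Prelude.Def_Found
import Groth.Agent.Lib.Helper8.Japanese.NagFT12
import Groth.Agent.Lib.Helper8.Japanese.N1Local

set_option autoImplicit false
universe u
open IsLocalRing Polynomial

namespace Groth.Agent.H8.Jap.NagFT

section
variable {R K : Type u} [CommRing R] [IsDomain R] [IsIntegrallyClosed R] [Field K] [Algebra R K]
  [IsFractionRing R K]

/-- **(C-i)**: `R[x]_a = R_a` is normal. -/
theorem exists_isIntegrallyClosed_away_adjoin (S : Type u) [CommRing S] [IsDomain S]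
    [Algebra R S] (ι : S →ₐ[R] K) (hι : Function.Injective ι) (x : S)
    (hgen : Algebra.adjoin R {x} = ⊤) :
    ∃ f : S, f ≠ 0 ∧ IsIntegrallyClosed (Localization.Away f) := by
  obtain ⟨b, a, hba⟩ := IsLocalization.exists_mk'_eq (nonZeroDivisors R) (ι x)
  have ha0 : (a : R) ≠ 0 := nonZeroDivisors.ne_zero a.2
  have hinjS : Function.Injective (algebraMap R S) := by
    intro r₁ r₂ h
    apply IsFractionRing.injective R K
    have := congrArg ι h
    rwa [AlgHom.commutes, AlgHom.commutes] at this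
  have hab : algebraMap R S a * x = algebraMap R S b := by
    apply hι
    rw [map_mul, AlgHom.commutes, AlgHom.commutes, ← hba, IsLocalization.mk'_spec'_mk]
  set f : S := algebraMap R S a with hf
  have hf0 : f ≠ 0 := fun h0 => ha0 (hinjS (by rw [← hf, h0, map_zero]))
  refine ⟨f, hf0, ?_⟩
  have hclaim : ∀ s : S, ∃ (k : ℕ) (r : R), f ^ k * s = algebraMap R S r := by
    intro s
    have hs : s ∈ Algebra.adjoin R {x} := by rw [hgen]; trivial
    induction hs using Algebra.adjoin_induction with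
    | mem z hz =>
      rw [Set.mem_singleton_iff.mp hz]
      exact ⟨1, b, by rw [pow_one, hab]⟩
    | algebraMap r => exact ⟨0, r, by rw [pow_zero, one_mul]⟩
    | add s₁ s₂ _ _ h₁ h₂ =>
      obtain ⟨k₁, r₁, e₁⟩ := h₁
      obtain ⟨k₂, r₂, e₂⟩ := h₂
      refine ⟨k₁ + k₂, (a : R) ^ k₂ * r₁ + (a : R) ^ k₁ * r₂, ?_⟩
      rw [map_add, map_mul, map_mul, map_pow, map_pow, ← hf, ← e₁, ← e₂, pow_add]
      ring
    | mul s₁ s₂ _ _ h₁ h₂ =>
      obtain ⟨k₁, r₁, e₁⟩ := h₁
      obtain ⟨k₂, r₂, e₂⟩ := h₂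
      refine ⟨k₁ + k₂, r₁ * r₂, ?_⟩
      rw [map_mul, ← e₁, ← e₂, pow_add]
      ring
  have hpow : Submonoid.powers f ≤ nonZeroDivisors S :=
    powers_le_nonZeroDivisors_of_noZeroDivisors hf0
  have hinjL : Function.Injective (algebraMap S (Localization.Away f)) :=
    IsLocalization.injective _ hpow
  haveI : IsLocalization (Submonoid.powers (a : R)) (Localization.Away f) := by
    refine ⟨?_, ?_, ?_⟩
    · rintro ⟨_, k, rfl⟩
      rw [IsScalarTower.algebraMap_apply R S (Localization.Away f), map_pow, ← hf]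
      exact IsLocalization.map_units _ (⟨f ^ k, k, rfl⟩ : Submonoid.powers f)
    · intro z
      obtain ⟨s, ⟨_, j, rfl⟩, rfl⟩ := IsLocalization.exists_mk'_eq (Submonoid.powers f) z
      obtain ⟨k, r, e⟩ := hclaim s
      refine ⟨⟨r, ⟨(a : R) ^ (j + k), j + k, rfl⟩⟩, ?_⟩
      show IsLocalization.mk' _ s _ * algebraMap R _ ((a : R) ^ (j + k)) = algebraMap R _ r
      rw [IsScalarTower.algebraMap_apply R S (Localization.Away f),
        IsScalarTower.algebraMap_apply R S (Localization.Away f) r, map_pow, ← hf, ← e, pow_add,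
        map_mul, map_mul, ← mul_assoc, IsLocalization.mk'_spec, mul_comm]
    · intro r₁ r₂ h
      refine ⟨1, ?_⟩
      rw [IsScalarTower.algebraMap_apply R S (Localization.Away f),
        IsScalarTower.algebraMap_apply R S (Localization.Away f) r₂] at h
      rw [hinjS (hinjL h)]
  exact isIntegrallyClosed_of_isLocalization (Localization.Away f) (Submonoid.powers (a : R))
    (powers_le_nonZeroDivisors_of_noZeroDivisors ha0)

/-- **(C)**: for a normal Nagata domain `R` and `x ∈ K`, `R[x]` is N-1. -/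
theorem isN1_adjoin (hR : CAlg.IsNagata R) (S : Type u) [CommRing S] [IsDomain S]
    [Algebra R S] (ι : S →ₐ[R] K) (hι : Function.Injective ι) (x : S)
    (hgen : Algebra.adjoin R {x} = ⊤) : CAlg.IsN1 S := by
  haveI := hR.1
  haveI : IsNoetherianRing S := by
    haveI : Algebra.FiniteType R S := ⟨⟨{x}, by simpa using hgen⟩⟩
    exact Algebra.FiniteType.isNoetherianRing R S
  rw [isN1_iff_local]
  refine ⟨exists_isIntegrallyClosed_away_adjoin S ι hι x hgen, fun m _ => ?_⟩
  obtain ⟨_, h⟩ := isN1_atPrime_adjoin hR S ι hι x hgen m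
  exact h

end

end Groth.Agent.H8.Jap.NagFT
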