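import Mathlib

set_option autoImplicit false
universe u

namespace Groth.Agent.H8.Jap.NagFT

theorem finite_of_adjoin_algebraic (R S K L M : Type*) [CommRing R] [IsDomain R] [CommRing S]
    [IsDomain S] [Algebra R S] (x : S) (hgen : Algebra.adjoin R {x} = ⊤) (halg : IsAlgebraic R x)
    [Field K] [Algebra R K] [IsFractionRing R K] [Field L] [Algebra S L] [IsFractionRing S L]
    [Field M] [Algebra S M] [Algebra L M] [IsScalarTower S L M] [FiniteDimensional L M]
    [Algebra R M] [IsScalarTower R S M] [Algebra K M] [IsScalarTower R K M] :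
    FiniteDimensional K M := by
  haveI : Algebra.FiniteType R S := ⟨⟨{x}, by simpa using hgen⟩⟩
  haveI : Algebra.EssFiniteType S L := Algebra.EssFiniteType.of_isLocalization L (nonZeroDivisors S)
  haveI : Algebra.EssFiniteType S M := Algebra.EssFiniteType.comp S L M
  haveI : Algebra.EssFiniteType R M := Algebra.EssFiniteType.comp R S M
  haveI : Algebra.EssFiniteType K M := Algebra.EssFiniteType.of_comp R K M
  haveI : Algebra.IsAlgebraic R S := ⟨fun s =>
    Algebra.isAlgebraic_adjoin_singleton_iff.mpr halg s (by rw [hgen]; trivial)⟩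
  haveI : Algebra.IsAlgebraic S L := IsLocalization.isAlgebraic L (nonZeroDivisors S)
  haveI : Algebra.IsAlgebraic S M := Algebra.IsAlgebraic.trans S L M
  haveI : Algebra.IsAlgebraic R M := Algebra.IsAlgebraic.trans R S M
  haveI : Algebra.IsAlgebraic K M :=
    Algebra.IsAlgebraic.extendScalars (IsFractionRing.injective R K)
  exact Algebra.finite_of_essFiniteType_of_isAlgebraic

end Groth.Agent.H8.Jap.NagFT
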