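import Mathlib

set_option autoImplicit false
universe u
open Polynomial

namespace Groth.Agent.H8.Jap.NagFT

theorem finite_integralClosure_of_adjoin (R S M : Type*) [CommRing R] [CommRing S]
    [IsNoetherianRing S] [Algebra R S] [CommRing M] [Algebra S M] [Algebra R M]
    [IsScalarTower R S M] (x : S) (hgen : Algebra.adjoin R {x} = ⊤) (R' : Subalgebra R M)
    (hR'int : ∀ r' ∈ R', IsIntegral R r') [Module.Finite R R']
    (hfin : Module.Finite (Algebra.adjoin R' {algebraMap S M x})
      (integralClosure (Algebra.adjoin R' {algebraMap S M x}) M)) :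
    Module.Finite S (integralClosure S M) := by
  classical
  set xM := algebraMap S M x with hxM
  set S' := Algebra.adjoin R' {xM} with hS'
  set S'' : Subalgebra S M := Algebra.adjoin S (R' : Set M) with hS''
  -- (F1)
  obtain ⟨T', hT'⟩ := (Module.Finite.iff_fg (N := Subalgebra.toSubmodule R')).mp inferInstance
  have hT'sub : (T' : Set M) ⊆ R' := by
    intro t ht
    have : t ∈ Submodule.span R (T' : Set M) := Submodule.subset_span ht
    rw [hT'] at this
    exact this
  have hadj : S'' = Algebra.adjoin S (T' : Set M) := by
    apply le_antisymm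
    · apply Algebra.adjoin_le
      intro r' hr'
      have h1 : r' ∈ Submodule.span R (T' : Set M) := by rw [hT']; exact hr'
      clear hr'
      induction h1 using Submodule.span_induction with
      | mem z hz => exact Algebra.subset_adjoin hz
      | zero => exact Subalgebra.zero_mem _
      | add a b _ _ ha hb => exact Subalgebra.add_mem _ ha hb
      | smul r z _ hz =>
        rw [← algebraMap_smul S r z]
        exact Subalgebra.smul_mem _ hz _
    · exact Algebra.adjoin_mono hT'sub
  have hF1 : (Subalgebra.toSubmodule S'').FG := by
    rw [hadj]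
    exact fg_adjoin_of_finite T'.finite_toSet
      (fun t ht => (hR'int t (hT'sub ht)).tower_top)
  -- (F2)
  have hF2 : ∀ σ : M, σ ∈ S' → σ ∈ S'' := by
    intro σ hσ
    induction hσ using Algebra.adjoin_induction with
    | mem z hz => rw [Set.mem_singleton_iff.mp hz]; exact Subalgebra.algebraMap_mem _ x
    | algebraMap r' => exact Algebra.subset_adjoin r'.2
    | add a b _ _ ha hb => exact Subalgebra.add_mem _ ha hb
    | mul a b _ _ ha hb => exact Subalgebra.mul_mem _ ha hb
  -- (F3)
  obtain ⟨T, hT⟩ := (Module.Finite.iff_fg
    (N := Subalgebra.toSubmodule (integralClosure S' M))).mp hfin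
  set V : Submodule S M := Submodule.span S (T : Set M) with hV
  have hF3 : ∀ z : M, z ∈ Submodule.span S' (T : Set M) →
      z ∈ Subalgebra.toSubmodule S'' * V := by
    intro z hz
    induction hz using Submodule.span_induction with
    | mem t ht =>
      rw [← one_mul t]
      exact Submodule.mul_mem_mul (Subalgebra.one_mem S'') (Submodule.subset_span ht)
    | zero => exact Submodule.zero_mem _
    | add a b _ _ ha hb => exact Submodule.add_mem _ ha hb
    | smul σ z _ hz =>
      have hσ : (σ : M) ∈ S'' := hF2 σ σ.2
      show (σ : M) * z ∈ _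
      refine Submodule.mul_induction_on hz ?_ ?_
      · intro a ha v hv
        rw [← mul_assoc]
        exact Submodule.mul_mem_mul (Subalgebra.mul_mem S'' hσ ha) hv
      · intro a b ha hb
        rw [mul_add]; exact Submodule.add_mem _ ha hb
  -- (F4)
  have hSmem : ∀ s : S, algebraMap S M s ∈ S' := by
    intro s
    have hs : s ∈ Algebra.adjoin R {x} := by rw [hgen]; trivial
    induction hs using Algebra.adjoin_induction with
    | mem z hz => rw [Set.mem_singleton_iff.mp hz]; exact Algebra.subset_adjoin rfl
    | algebraMap r =>
      rw [← IsScalarTower.algebraMap_apply R S M]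
      exact Subalgebra.algebraMap_mem S' (algebraMap R R' r)
    | add a b _ _ ha hb => rw [map_add]; exact Subalgebra.add_mem _ ha hb
    | mul a b _ _ ha hb => rw [map_mul]; exact Subalgebra.mul_mem _ ha hb
  let φ : S →+* S' := (algebraMap S M).codRestrict S' hSmem
  have hφ : (algebraMap S' M).comp φ = algebraMap S M := by
    ext s; rfl
  have hF4 : ∀ z : M, IsIntegral S z → IsIntegral S' z := by
    rintro z ⟨p, hp, hpz⟩
    refine ⟨p.map φ, hp.map φ, ?_⟩
    rw [eval₂_map, hφ]
    exact hpz
  -- conclusion
  have hle : Subalgebra.toSubmodule (integralClosure S M) ≤ Subalgebra.toSubmodule S'' * V := by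
    intro z hz
    apply hF3
    rw [hT]
    exact hF4 z hz
  have hNfg : (Subalgebra.toSubmodule S'' * V).FG := hF1.mul (Submodule.fg_span T.finite_toSet)
  haveI : IsNoetherian S ↥(Subalgebra.toSubmodule S'' * V) :=
    isNoetherian_of_fg_of_noetherian _ hNfg
  exact Module.Finite.of_injective (Submodule.inclusion hle) (Submodule.inclusion_injective hle)

end Groth.Agent.H8.Jap.NagFT
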