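import Mathlib
import Groth.Prelude.Def_Found
import Groth.Agent.Lib.Helper5.LocIC
import Groth.Agent.Lib.Helper8.Japanese.FiniteExt
import Groth.Agent.Lib.Helper8.Japanese.NagFT13
import Groth.Agent.Lib.Helper8.Japanese.NagFT14
import Groth.Agent.Lib.Helper8.Japanese.NagFT15

set_option autoImplicit false
universe u
open IsLocalRing Polynomial

namespace Groth.Agent.H8.Jap.NagFT

theorem isN2_of_isNagata_of_isDomain (R : Type u) [CommRing R] [IsDomain R]
    (hR : CAlg.IsNagata R) : CAlg.IsN2 R :=
  isN2_of_ringEquiv (RingEquiv.quotientBot R) (hR.2 ⊥)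

/-- **(C')**: a domain generated over a Nagata domain by one algebraic element is N-2. -/
theorem isN2_of_adjoin_algebraic (R S : Type u) [CommRing R] [IsDomain R]
    (hR : CAlg.IsNagata R) [CommRing S] [IsDomain S] [Algebra R S]
    (hinj : Function.Injective (algebraMap R S)) (x : S) (hgen : Algebra.adjoin R {x} = ⊤)
    (halg : IsAlgebraic R x) : CAlg.IsN2 S := by
  intro M _ _ _ _ hfin
  haveI := hfin
  haveI := hR.1
  haveI : IsNoetherianRing S := by
    haveI : Algebra.FiniteType R S := ⟨⟨{x}, by simpa using hgen⟩⟩
    exact Algebra.FiniteType.isNoetherianRing R S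
  letI : Algebra R M := ((algebraMap S M).comp (algebraMap R S)).toAlgebra
  haveI : IsScalarTower R S M := IsScalarTower.of_algebraMap_eq (fun _ => rfl)
  have hinjSM : Function.Injective (algebraMap S M) := by
    rw [IsScalarTower.algebraMap_eq S (FractionRing S) M]
    exact (algebraMap (FractionRing S) M).injective.comp (IsFractionRing.injective S _)
  haveI : FaithfulSMul R M := (faithfulSMul_iff_algebraMap_injective R M).mpr (hinjSM.comp hinj)
  letI : Algebra (FractionRing R) M := FractionRing.liftAlgebra R M
  haveI : IsScalarTower R (FractionRing R) M := FractionRing.isScalarTower_liftAlgebra R M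
  haveI : FiniteDimensional (FractionRing R) M :=
    finite_of_adjoin_algebraic R S (FractionRing R) (FractionRing S) M x hgen halg
  have hN2 : CAlg.IsN2 R := isN2_of_isNagata_of_isDomain R hR
  haveI hfinR' : Module.Finite R (integralClosure R M) := hN2 M inferInstance
  haveI : IsFractionRing (integralClosure R M) M :=
    integralClosure.isFractionRing_of_finite_extension (FractionRing R) M
  haveI : IsIntegrallyClosed (integralClosure R M) :=
    integralClosure.isIntegrallyClosedOfFiniteExtension (FractionRing R)
  have hR' : CAlg.IsNagata (integralClosure R M) := AUK.isNagata_of_finite R _ hR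
  have hgen' : Algebra.adjoin (integralClosure R M)
      {(⟨algebraMap S M x, Algebra.subset_adjoin rfl⟩ :
        Algebra.adjoin (integralClosure R M) {algebraMap S M x})} = ⊤ := by
    have := Algebra.adjoin_adjoin_coe_preimage (R := integralClosure R M)
      (s := ({algebraMap S M x} : Set M))
    convert this using 2
    ext z
    simp [Subtype.ext_iff]
  have hN1 : CAlg.IsN1 (Algebra.adjoin (integralClosure R M) {algebraMap S M x}) :=
    isN1_adjoin (R := integralClosure R M) (K := M) hR' _
      (Algebra.adjoin (integralClosure R M) {algebraMap S M x}).val Subtype.val_injective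
      ⟨algebraMap S M x, Algebra.subset_adjoin rfl⟩ hgen'
  haveI : FaithfulSMul (Algebra.adjoin (integralClosure R M) {algebraMap S M x}) M :=
    (faithfulSMul_iff_algebraMap_injective _ _).mpr Subtype.val_injective
  haveI : IsFractionRing (Algebra.adjoin (integralClosure R M) {algebraMap S M x}) M := by
    apply IsFractionRing.of_field
    intro z
    obtain ⟨a, b, -, hab⟩ := IsFractionRing.div_surjective (A := integralClosure R M) z
    refine ⟨algebraMap _ _ a, algebraMap _ _ b, ?_⟩
    rw [← hab, ← IsScalarTower.algebraMap_apply, ← IsScalarTower.algebraMap_apply]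
  have hfin' : Module.Finite (Algebra.adjoin (integralClosure R M) {algebraMap S M x})
      (integralClosure (Algebra.adjoin (integralClosure R M) {algebraMap S M x}) M) :=
    (H5.isN1_iff _ M).mp hN1
  exact finite_integralClosure_of_adjoin R S M x hgen (integralClosure R M)
    (fun r' hr' => hr') hfin'

end Groth.Agent.H8.Jap.NagFT
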