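import Mathlib
import Groth.Prelude.Def_Found
set_option autoImplicit false
universe u
open Module Polynomial

namespace Groth.Agent.H8.Jap

section LemmaX
variable (R : Type u) [CommRing R] [IsDomain R]
  (Om : Type u) [Field Om] [Algebra R Om] [Algebra (FractionRing R) Om]
  [IsScalarTower R (FractionRing R) Om]

/-- the twisted embedding `R[X] → Om[X]`, `X ↦ X^Q` -/
noncomputable def tau (Q : ℕ) : R[X] →+* Om[X] :=
  ((expand Om Q : Om[X] →ₐ[Om] Om[X]) : Om[X] →+* Om[X]).comp (mapRingHom (algebraMap R Om))

theorem tau_apply (Q : ℕ) (a : R[X]) : tau R Om Q a = expand Om Q (a.map (algebraMap R Om)) := rfl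

include R in
theorem algebraMap_injective_of_tower : Function.Injective (algebraMap R Om) := by
  rw [IsScalarTower.algebraMap_eq R (FractionRing R) Om]
  exact (algebraMap (FractionRing R) Om).injective.comp (IsFractionRing.injective R (FractionRing R))

theorem tau_injective {Q : ℕ} (hQ : 0 < Q) : Function.Injective (tau R Om Q) := by
  intro a b hab
  rw [tau_apply, tau_apply] at hab
  exact Polynomial.map_injective _ (algebraMap_injective_of_tower R Om) (expand_injective hQ hab)

variable [IsNoetherianRing R]

theorem finite_of_coeff_integral (hN2 : CAlg.IsN2 R) (Q : ℕ) (hQ : 0 < Q)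
    (B : Type*) [AddCommGroup B] [Module R[X] B]
    (φ : B →+ Om[X]) (hφinj : Function.Injective φ)
    (hφ : ∀ (a : R[X]) (b : B), φ (a • b) = tau R Om Q a * φ b)
    (hint : ∀ b i, IsIntegral R ((φ b).coeff i))
    (V : Finset B)
    (hV : ∀ b : B, ∃ a : R[X], a ≠ 0 ∧ a • b ∈ Submodule.span R[X] (V : Set B)) :
    Module.Finite R[X] B := by
  classical
  -- coefficient set
  let S : Finset Om := V.biUnion (fun v => (φ v).coeffs)
  let K' : IntermediateField (FractionRing R) Om := IntermediateField.adjoin (FractionRing R) (S : Set Om)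
  have hSint : ∀ s ∈ S, IsIntegral R s := by
    intro s hs
    obtain ⟨v, -, hv⟩ := Finset.mem_biUnion.mp hs
    obtain ⟨n, -, rfl⟩ := mem_coeffs_iff.mp hv
    exact hint v n
  haveI : FiniteDimensional (FractionRing R) K' :=
    IntermediateField.finiteDimensional_adjoin (fun s hs => (hSint s hs).tower_top)
  haveI : IsScalarTower R K' Om := IsScalarTower.of_algebraMap_eq (fun r => rfl)
  have hfin : Module.Finite R (integralClosure R K') := hN2 K' inferInstance
  obtain ⟨E, hE⟩ :=
    (Module.Finite.iff_fg (N := Subalgebra.toSubmodule (integralClosure R K'))).mp hfin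
  -- claim 1
  have hτ : ∀ a : R[X], tau R Om Q a ∈ lifts (algebraMap K' Om) := by
    intro a
    rw [lifts_iff_coeff_lifts]
    intro n
    rw [tau_apply, coeff_expand hQ]
    split_ifs
    · rw [coeff_map]
      exact ⟨algebraMap R K' (a.coeff (n / Q)), (IsScalarTower.algebraMap_apply R K' Om _).symm⟩
    · exact ⟨0, map_zero _⟩
  have hV1 : ∀ v ∈ V, φ v ∈ lifts (algebraMap K' Om) := by
    intro v hv
    rw [lifts_iff_coeff_lifts]
    intro n
    by_cases h0 : (φ v).coeff n = 0
    · rw [h0]; exact ⟨0, map_zero _⟩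
    · have : (φ v).coeff n ∈ S := Finset.mem_biUnion.mpr ⟨v, hv, coeff_mem_coeffs h0⟩
      exact ⟨⟨_, IntermediateField.subset_adjoin (FractionRing R) _ this⟩, rfl⟩
  have hspan : ∀ y ∈ Submodule.span R[X] (V : Set B), φ y ∈ lifts (algebraMap K' Om) := by
    intro y hy
    induction hy using Submodule.span_induction with
    | mem v hv => exact hV1 v hv
    | zero => rw [map_zero]; exact Subsemiring.zero_mem _
    | add y z _ _ hy hz => rw [map_add]; exact Subsemiring.add_mem _ hy hz
    | smul a y _ hy => rw [hφ]; exact Subsemiring.mul_mem _ (hτ a) hy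
  have h1 : ∀ b, φ b ∈ lifts (algebraMap K' Om) := by
    intro b
    obtain ⟨a, ha, hab⟩ := hV b
    have h2 := hspan _ hab
    rw [hφ] at h2
    obtain ⟨g1, hg1⟩ := (mem_lifts _).mp h2
    obtain ⟨a1, ha1⟩ := (mem_lifts _).mp (hτ a)
    have hτa : tau R Om Q a ≠ 0 := fun h0 => ha (tau_injective R Om hQ (h0.trans (map_zero _).symm))
    rw [mem_lifts]
    refine ⟨g1 / a1, ?_⟩
    rw [Polynomial.map_div, hg1, ha1, mul_div_cancel_left₀ _ hτa]
  -- Om[X] as R[X]-algebra via tau
  letI : Algebra R[X] Om[X] := (tau R Om Q).toAlgebra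
  let φl : B →ₗ[R[X]] Om[X] :=
    { toFun := φ
      map_add' := map_add φ
      map_smul' := fun a b => by rw [hφ]; rfl }
  let G : Set Om[X] := (fun ei : K' × ℕ => C (algebraMap K' Om ei.1) * X ^ ei.2) ''
    ((E : Set K') ×ˢ (Finset.range Q : Set ℕ))
  have hmono : ∀ c ∈ Submodule.span R (E : Set K'), ∀ i : ℕ,
      monomial i (algebraMap K' Om c) ∈ Submodule.span R[X] G := by
    intro c hc i
    induction hc using Submodule.span_induction with
    | mem e he =>
      have : (monomial i (algebraMap K' Om e) : Om[X]) =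
          (X ^ (i / Q) : R[X]) • (C (algebraMap K' Om e) * X ^ (i % Q)) := by
        rw [Algebra.smul_def, RingHom.algebraMap_toAlgebra, tau_apply, Polynomial.map_pow, map_X,
          map_pow, expand_X, ← C_mul_X_pow_eq_monomial]
        conv_lhs => rw [← Nat.div_add_mod i Q, pow_add, pow_mul]
        ring
      rw [this]
      refine Submodule.smul_mem _ _ (Submodule.subset_span ⟨(e, i % Q), ⟨he, ?_⟩, rfl⟩)
      simp only [Finset.coe_range, Set.mem_Iio]
      exact Nat.mod_lt _ hQ
    | zero => simp
    | add y z _ _ hy hz =>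
      rw [map_add, map_add]
      exact Submodule.add_mem _ hy hz
    | smul r y _ hy =>
      have : (monomial i (algebraMap K' Om (r • y)) : Om[X]) =
          (C r : R[X]) • (monomial i (algebraMap K' Om y) : Om[X]) := by
        rw [Algebra.smul_def (C r), RingHom.algebraMap_toAlgebra, tau_apply, Polynomial.map_C,
          expand_C, C_mul_monomial, Algebra.smul_def, map_mul,
          ← IsScalarTower.algebraMap_apply R K' Om]
      rw [this]
      exact Submodule.smul_mem _ _ hy
  have hG : ∀ b, φl b ∈ Submodule.span R[X] G := by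
    intro b
    show φ b ∈ _
    rw [← (φ b).sum_monomial_eq, Polynomial.sum]
    refine Submodule.sum_mem _ (fun i _ => ?_)
    obtain ⟨c, hc⟩ := (lifts_iff_coeff_lifts _).mp (h1 b) i
    rw [← hc]
    refine hmono c ?_ i
    rw [hE]
    have := hint b i
    rw [← hc] at this
    exact (isIntegral_algebraMap_iff (algebraMap K' Om).injective).mp this
  have hGfin : G.Finite := Set.Finite.image _ (Set.Finite.prod E.finite_toSet (Finset.finite_toSet _))
  haveI : IsNoetherian R[X] (Submodule.span R[X] G) :=
    isNoetherian_of_fg_of_noetherian _ (Submodule.fg_span hGfin)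
  exact Module.Finite.of_injective (φl.codRestrict _ hG)
    (fun x y hxy => hφinj (congrArg Subtype.val hxy))

end LemmaX

end Groth.Agent.H8.Jap
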