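import Mathlib
import Groth.Prelude.Def_Found
import Groth.Agent.Lib.Helper8.Japanese.PurelyInsep
import Groth.Agent.Lib.Helper8.Japanese.PolyX
set_option autoImplicit false
universe u
open Module Polynomial

namespace Groth.Agent.H8.Jap

attribute [local instance] Polynomial.algebra

section setup
variable (R : Type u) [CommRing R] [IsDomain R]

local notation "K" => FractionRing R
local notation "F" => FractionRing R[X]

theorem map_C_nonZeroDivisors_le :
    (nonZeroDivisors R).map (C : R →+* R[X]) ≤ nonZeroDivisors R[X] := by
  rintro _ ⟨r, hr, rfl⟩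
  rw [mem_nonZeroDivisors_iff_ne_zero]
  intro h
  exact (mem_nonZeroDivisors_iff_ne_zero.mp hr) (C_eq_zero.mp h)

noncomputable instance polyFracAlgebra : Algebra K[X] F :=
  haveI : IsLocalization ((nonZeroDivisors R).map (C : R →+* R[X])) K[X] :=
    Polynomial.isLocalization (nonZeroDivisors R) K
  IsLocalization.localizationAlgebraOfSubmonoidLe K[X] F _ (nonZeroDivisors R[X])
    (map_C_nonZeroDivisors_le R)

instance polyFrac_isScalarTower : IsScalarTower R[X] K[X] F :=
  haveI : IsLocalization ((nonZeroDivisors R).map (C : R →+* R[X])) K[X] :=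
    Polynomial.isLocalization (nonZeroDivisors R) K
  IsLocalization.localization_isScalarTower_of_submonoid_le K[X] F _ (nonZeroDivisors R[X])
    (map_C_nonZeroDivisors_le R)

instance polyFrac_isFractionRing : IsFractionRing K[X] F :=
  haveI : IsLocalization ((nonZeroDivisors R).map (C : R →+* R[X])) K[X] :=
    Polynomial.isLocalization (nonZeroDivisors R) K
  IsFractionRing.isFractionRing_of_isDomain_of_isLocalization
    ((nonZeroDivisors R).map (C : R →+* R[X])) K[X] F

/-- (★) elements of `Frac R[X]` integral over `R[X]` are polynomials over `K` with integral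
coefficients -/
theorem exists_poly_of_isIntegral (x : F) (hx : IsIntegral R[X] x) :
    ∃ g : K[X], (∀ i, IsIntegral R (g.coeff i)) ∧ algebraMap K[X] F g = x := by
  haveI : IsIntegrallyClosed K[X] := UniqueFactorizationMonoid.instIsIntegrallyClosed
  obtain ⟨g, hg⟩ := (isIntegrallyClosed_iff F).mp ‹IsIntegrallyClosed K[X]› (hx.tower_top (A := K[X]))
  refine ⟨g, ?_, hg⟩
  have hgi : IsIntegral R[X] g := by
    rw [← hg] at hx
    exact (isIntegral_algebraMap_iff (IsFractionRing.injective K[X] F)).mp hx
  exact Polynomial.isIntegral_iff_isIntegral_coeff.mp hgi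

theorem monomial_mem_span (E : Set K) (i : ℕ) (c : K) (hc : c ∈ Submodule.span R E) :
    algebraMap K[X] F (monomial i c) ∈
      Submodule.span R[X] ((fun e : K => algebraMap K[X] F (C e)) '' E) := by
  induction hc using Submodule.span_induction with
  | mem e he =>
    have : (monomial i e : K[X]) = (X ^ i : R[X]) • (C e : K[X]) := by
      rw [Algebra.smul_def, ← C_mul_X_pow_eq_monomial, mul_comm]
      congr 1
      show _ = Polynomial.map _ _
      simp
    rw [this, ← IsScalarTower.toAlgHom_apply R[X] K[X] F, map_smul]
    exact Submodule.smul_mem _ _ (Submodule.subset_span ⟨e, he, rfl⟩)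
  | zero => simp
  | add y z _ _ hy hz =>
    rw [map_add (monomial i), map_add]
    exact Submodule.add_mem _ hy hz
  | smul r y _ hy =>
    have : (monomial i (r • y) : K[X]) = (C r : R[X]) • (monomial i y : K[X]) := by
      rw [Algebra.smul_def]
      show _ = Polynomial.map _ _ * _
      rw [Polynomial.map_C, C_mul_monomial]
    rw [this, ← IsScalarTower.toAlgHom_apply R[X] K[X] F, map_smul]
    exact Submodule.smul_mem _ _ hy

/-- N-1 ascends to the polynomial ring. -/
theorem polynomial_isN1 [IsNoetherianRing R] (h : CAlg.IsN1 R) : CAlg.IsN1 R[X] := by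
  classical
  obtain ⟨E, hE⟩ := (Module.Finite.iff_fg (N := Subalgebra.toSubmodule (integralClosure R K))).mp h
  have hle : Subalgebra.toSubmodule (integralClosure R[X] F) ≤
      Submodule.span R[X] ((fun e : K => algebraMap K[X] F (C e)) '' (E : Set K)) := by
    intro x hx
    obtain ⟨g, hgi, rfl⟩ := exists_poly_of_isIntegral R x hx
    rw [← g.sum_monomial_eq, Polynomial.sum, map_sum]
    refine Submodule.sum_mem _ (fun i _ => monomial_mem_span R _ i _ ?_)
    rw [hE]
    exact hgi i
  haveI : IsNoetherian R[X]
      (Submodule.span R[X] ((fun e : K => algebraMap K[X] F (C e)) '' (E : Set K))) :=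
    isNoetherian_of_fg_of_noetherian _ (Submodule.fg_span (Set.Finite.image _ E.finite_toSet))
  exact Module.Finite.iff_fg.mpr ((isNoetherian_submodule.mp inferInstance) _ hle)

/-- N-2 ascends to the polynomial ring. -/
theorem polynomial_isN2 [IsNoetherianRing R] (h : CAlg.IsN2 R) : CAlg.IsN2 R[X] := by
  classical
  apply isN2_of_purelyInseparable
  intro L _ _ _ _ hfin hpi
  haveI := hfin
  obtain ⟨q, hq⟩ := ExpChar.exists R
  haveI : ExpChar K q := expChar_of_injective_algebraMap (IsFractionRing.injective R K) q
  haveI : ExpChar R[X] q := expChar_of_injective_ringHom (C_injective (R := R)) q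
  haveI : ExpChar F q := expChar_of_injective_algebraMap (IsFractionRing.injective R[X] F) q
  let Om := AlgebraicClosure K
  haveI : ExpChar Om q := expChar_of_injective_algebraMap (algebraMap K Om).injective q
  haveI : PerfectRing Om q := PerfectField.toPerfectRing q
  let n := IsPurelyInseparable.exponent F L
  let Φ : L →+* F := IsPurelyInseparable.iterateFrobenius F L q (le_refl n)
  have hΦ : ∀ a : L, algebraMap F L (Φ a) = a ^ q ^ n :=
    fun a => IsPurelyInseparable.algebraMap_iterateFrobenius F q (le_refl n) a
  have hΦ' : ∀ a : F, Φ (algebraMap F L a) = a ^ q ^ n :=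
    fun a => IsPurelyInseparable.iterateFrobenius_algebraMap L q (le_refl n) a
  let θ : K →+* Om := ((iterateFrobeniusEquiv Om q n).symm : Om →+* Om).comp (algebraMap K Om)
  have hθ : ∀ c : K, (θ c) ^ q ^ n = algebraMap K Om c := by
    intro c
    rw [← iterateFrobeniusEquiv_def Om q n]
    exact RingEquiv.apply_symm_apply _ _
  have hθF : θ.comp (iterateFrobenius K q n) = algebraMap K Om := by
    ext c
    apply (iterateFrobeniusEquiv Om q n).injective
    rw [iterateFrobeniusEquiv_def, RingHom.comp_apply, hθ, iterateFrobenius_def, map_pow]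
    rfl
  have hstar : ∀ b : integralClosure R[X] L, ∃ g : K[X], (∀ i, IsIntegral R (g.coeff i)) ∧
      algebraMap K[X] F g = Φ b := by
    intro b
    apply exists_poly_of_isIntegral R
    apply (isIntegral_algebraMap_iff (algebraMap F L).injective).mp
    rw [hΦ]
    exact b.2.pow _
  choose G hGint hGspec using hstar
  have hinjKF : Function.Injective (algebraMap K[X] F) := IsFractionRing.injective K[X] F
  have hGadd : ∀ b b', G (b + b') = G b + G b' := by
    intro b b'
    apply hinjKF
    rw [map_add, hGspec, hGspec, hGspec, Subalgebra.coe_add, map_add]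
  have hGsmul : ∀ (a : R[X]) b, G (a • b) = (a.map (algebraMap R K)) ^ q ^ n * G b := by
    intro a b
    apply hinjKF
    rw [map_mul, map_pow, hGspec, hGspec]
    have e1 : ((a • b : integralClosure R[X] L) : L) = algebraMap F L (algebraMap R[X] F a) * b := by
      rw [← IsScalarTower.algebraMap_apply, ← Algebra.smul_def]; rfl
    rw [e1, map_mul, hΦ']
    congr 2
    exact IsScalarTower.algebraMap_apply R[X] K[X] F a
  let φ : integralClosure R[X] L →+ Om[X] :=
    AddMonoidHom.mk' (fun b => (G b).map θ) (fun b b' => by rw [hGadd, Polynomial.map_add])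
  have hφdef : ∀ b, φ b = (G b).map θ := fun b => rfl
  have hφinj : Function.Injective φ := by
    intro b b' hbb
    rw [hφdef, hφdef] at hbb
    have h1 := Polynomial.map_injective θ θ.injective hbb
    have h2 : Φ b = Φ b' := by rw [← hGspec, ← hGspec, h1]
    exact Subtype.ext (Φ.injective h2)
  have hφ : ∀ (a : R[X]) b, φ (a • b) = tau R Om (q ^ n) a * φ b := by
    intro a b
    rw [hφdef, hφdef, hGsmul, Polynomial.map_mul, tau_apply]
    congr 1
    rw [← map_iterateFrobenius_expand, Polynomial.map_map, hθF, map_expand, Polynomial.map_map,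
      ← IsScalarTower.algebraMap_eq]
  have hint : ∀ b i, IsIntegral R ((φ b).coeff i) := by
    intro b i
    rw [hφdef, coeff_map]
    apply IsIntegral.of_pow (Nat.pos_of_ne_zero (pow_ne_zero n (expChar_pos K q).ne'))
    rw [hθ]
    exact (hGint b i).map (IsScalarTower.toAlgHom R K Om)
  obtain ⟨s, bs, hbs⟩ := FiniteDimensional.exists_is_basis_integral R[X] F L
  let V : Finset (integralClosure R[X] L) :=
    Finset.univ.image (fun x : s => (⟨bs x, hbs x⟩ : integralClosure R[X] L))
  have hV : ∀ b : integralClosure R[X] L, ∃ a : R[X], a ≠ 0 ∧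
      a • b ∈ Submodule.span R[X] (V : Set (integralClosure R[X] L)) := by
    intro b
    obtain ⟨d, hd⟩ := IsLocalization.exist_integer_multiples (nonZeroDivisors R[X])
      (Finset.univ : Finset s) (fun x => bs.repr (b : L) x)
    choose! c hc using hd
    refine ⟨d, nonZeroDivisors.ne_zero d.2, ?_⟩
    have : (d : R[X]) • b = ∑ x : s, c x • (⟨bs x, hbs x⟩ : integralClosure R[X] L) := by
      apply Subtype.ext
      rw [AddSubmonoidClass.coe_finsetSum]
      conv_lhs => rw [show (((d : R[X]) • b : integralClosure R[X] L) : L) = (d : R[X]) • (b : L) from rfl,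
        ← bs.sum_repr (b : L), Finset.smul_sum]
      refine Finset.sum_congr rfl (fun x _ => ?_)
      have := hc x (Finset.mem_univ x)
      show _ = c x • bs x
      rw [← smul_assoc, ← algebraMap_smul F (c x) (bs x), this]
    rw [this]
    refine Submodule.sum_mem _ (fun x _ => Submodule.smul_mem _ _ (Submodule.subset_span ?_))
    exact Finset.mem_coe.mpr (Finset.mem_image.mpr ⟨x, Finset.mem_univ x, rfl⟩)
  exact finite_of_coeff_integral R Om h (q ^ n) (Nat.pos_of_ne_zero (pow_ne_zero n (expChar_pos K q).ne'))
    _ φ hφinj hφ hint V hV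

end setup

end Groth.Agent.H8.Jap
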