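import Mathlib
import Groth.Prelude.Def_Found
import Groth.Agent.Lib.Helper8.Japanese.PolyN
import Groth.Agent.Lib.Helper8.Japanese.NagFT16

set_option autoImplicit false
universe u
open Polynomial

namespace Groth.Agent.H8.Jap.NagFT

/-- **One generator.** -/
theorem isNagata_of_adjoin_singleton (R S : Type u) [CommRing R] (hR : CAlg.IsNagata R)
    [CommRing S] [Algebra R S] (x : S) (hgen : Algebra.adjoin R {x} = ⊤) : CAlg.IsNagata S := by
  haveI := hR.1
  haveI : IsNoetherianRing S := by
    haveI : Algebra.FiniteType R S := ⟨⟨{x}, by simpa using hgen⟩⟩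
    exact Algebra.FiniteType.isNoetherianRing R S
  refine ⟨inferInstance, fun Q _ => ?_⟩
  set q := Q.comap (algebraMap R S) with hq
  haveI : q.IsPrime := Ideal.comap_isPrime _ _
  have hD : CAlg.IsNagata (R ⧸ q) := AUK.isNagata_of_finite R (R ⧸ q) hR
  haveI : IsNoetherianRing (R ⧸ q) := hD.1
  letI : Algebra (R ⧸ q) (S ⧸ Q) := (Ideal.quotientMap Q (algebraMap R S) le_rfl).toAlgebra
  have hinj : Function.Injective (algebraMap (R ⧸ q) (S ⧸ Q)) :=
    Ideal.quotientMap_injective' le_rfl
  have halg : ∀ r : R, algebraMap (R ⧸ q) (S ⧸ Q) (Ideal.Quotient.mk q r) =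
      Ideal.Quotient.mk Q (algebraMap R S r) := fun r => rfl
  have hgen' : Algebra.adjoin (R ⧸ q) {Ideal.Quotient.mk Q x} = ⊤ := by
    rw [eq_top_iff]
    rintro z -
    obtain ⟨s, rfl⟩ := Ideal.Quotient.mk_surjective z
    have hs : s ∈ Algebra.adjoin R {x} := by rw [hgen]; trivial
    induction hs using Algebra.adjoin_induction with
    | mem z hz => rw [Set.mem_singleton_iff.mp hz]; exact Algebra.subset_adjoin rfl
    | algebraMap r => rw [← halg]; exact Subalgebra.algebraMap_mem _ _
    | add a b _ _ ha hb => rw [map_add]; exact Subalgebra.add_mem _ ha hb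
    | mul a b _ _ ha hb => rw [map_mul]; exact Subalgebra.mul_mem _ ha hb
  by_cases htr : IsAlgebraic (R ⧸ q) (Ideal.Quotient.mk Q x)
  · exact isN2_of_adjoin_algebraic (R ⧸ q) (S ⧸ Q) hD hinj _ hgen' htr
  · have hinj' : Function.Injective (aeval (R := R ⧸ q) (Ideal.Quotient.mk Q x)) :=
      transcendental_iff_injective.mp htr
    have hsurj : Function.Surjective (aeval (R := R ⧸ q) (Ideal.Quotient.mk Q x)) := by
      intro z
      have hz : z ∈ Algebra.adjoin (R ⧸ q) {Ideal.Quotient.mk Q x} := by rw [hgen']; trivial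
      rw [Algebra.adjoin_singleton_eq_range_aeval] at hz
      exact hz
    let e : (R ⧸ q)[X] ≃+* S ⧸ Q :=
      RingEquiv.ofBijective (aeval (R := R ⧸ q) (Ideal.Quotient.mk Q x)).toRingHom
        ⟨hinj', hsurj⟩
    exact isN2_of_ringEquiv e
      (polynomial_isN2 (R ⧸ q) (isN2_of_isNagata_of_isDomain (R ⧸ q) hD))

theorem isNagata_of_ringEquiv {A B : Type u} [CommRing A] [CommRing B] (e : A ≃+* B)
    (hA : CAlg.IsNagata A) : CAlg.IsNagata B := by
  letI : Algebra A B := e.toRingHom.toAlgebra
  haveI : Module.Finite A B := Module.Finite.of_surjective (Algebra.linearMap A B) e.surjective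
  exact AUK.isNagata_of_finite A B hA

theorem isNagata_polynomial (R : Type u) [CommRing R] (hR : CAlg.IsNagata R) :
    CAlg.IsNagata R[X] :=
  isNagata_of_adjoin_singleton R R[X] hR X Polynomial.adjoin_X

theorem isNagata_mvPolynomial_fin (R : Type u) [CommRing R] (hR : CAlg.IsNagata R) (n : ℕ) :
    CAlg.IsNagata (MvPolynomial (Fin n) R) := by
  induction n with
  | zero => exact isNagata_of_ringEquiv (MvPolynomial.isEmptyRingEquiv R (Fin 0)).symm hR
  | succ n ih =>
    exact isNagata_of_ringEquiv (MvPolynomial.finSuccEquiv R n).symm.toRingEquiv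
      (isNagata_polynomial _ ih)

/-- **Nagata's theorem**: a finite type algebra over a Nagata ring is Nagata. -/
theorem isNagata_of_finiteType (R S : Type u) [CommRing R] (hR : CAlg.IsNagata R)
    [CommRing S] [Algebra R S] [Algebra.FiniteType R S] : CAlg.IsNagata S := by
  obtain ⟨n, f, hf⟩ := Algebra.FiniteType.iff_quotient_mvPolynomial''.mp
    (inferInstance : Algebra.FiniteType R S)
  letI : Algebra (MvPolynomial (Fin n) R) S := f.toRingHom.toAlgebra
  haveI : Module.Finite (MvPolynomial (Fin n) R) S :=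
    Module.Finite.of_surjective (Algebra.linearMap _ S) hf
  exact AUK.isNagata_of_finite _ S (isNagata_mvPolynomial_fin R hR n)

end Groth.Agent.H8.Jap.NagFT
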