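import Mathlib

set_option autoImplicit false
universe u
open IntermediateField

namespace Groth.Agent.H8.Jap.NagFT

open scoped IntermediateField.algebraAdjoinAdjoin in
/-- In a finitely generated field extension `L/K`, the algebraic closure of `K` in `L` is finite
over `K`. -/
theorem finiteDimensional_algebraicClosure (K L : Type*) [Field K] [Field L] [Algebra K L]
    [Algebra.EssFiniteType K L] : FiniteDimensional K (algebraicClosure K L) := by
  classical
  obtain ⟨s, hs⟩ := exists_finset_isTranscendenceBasis K L
  set x : s → L := (↑) with hxdef
  have hx' : AlgebraicIndependent (algebraicClosure K L) x := hs.1.extendScalars _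
  have hfinFL : Module.Finite (adjoin K (Set.range x)) L := by
    apply +allowSynthFailures Algebra.finite_of_essFiniteType_of_isAlgebraic
    · exact .of_comp K _ _
    · exact hs.isAlgebraic_field
  -- the key claim
  have claim : ∀ (ι' : Type _) (v : ι' → algebraicClosure K L), LinearIndependent K v →
      LinearIndependent (adjoin K (Set.range x)) (fun j => ((v j : algebraicClosure K L) : L)) := by
    intro ι' v hv
    rw [← LinearIndependent.iff_fractionRing (Algebra.adjoin K (Set.range x))
      (adjoin K (Set.range x))]
    rw [linearIndependent_iff']
    intro t g hg j hj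
    have hgmem : ∀ j, ∃ p : MvPolynomial s K, MvPolynomial.aeval x p = ((g j : _) : L) := by
      intro j
      have h1 : ((g j : _) : L) ∈ Algebra.adjoin K (Set.range x) := (g j).2
      have h2 : ((g j : _) : L) ∈ (MvPolynomial.aeval (R := K) x).range := by
        rw [← Algebra.adjoin_range_eq_range_aeval]; exact h1
      exact h2
    choose p hp using hgmem
    let Q : MvPolynomial s (algebraicClosure K L) :=
      ∑ j ∈ t, MvPolynomial.map (algebraMap K (algebraicClosure K L)) (p j) * MvPolynomial.C (v j)
    have hQ : MvPolynomial.aeval x Q = 0 := by
      rw [map_sum, ← hg]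
      refine Finset.sum_congr rfl (fun j _ => ?_)
      rw [map_mul, MvPolynomial.aeval_C, MvPolynomial.aeval_map_algebraMap, hp]
      rfl
    have hQ0 : Q = 0 := hx' (by rw [hQ, map_zero])
    have hcoeff : ∀ m, ∀ j ∈ t, (p j).coeff m = 0 := by
      intro m
      apply linearIndependent_iff'.mp hv t (fun j => (p j).coeff m)
      have := congrArg (MvPolynomial.coeff m) hQ0
      rw [MvPolynomial.coeff_sum, MvPolynomial.coeff_zero] at this
      rw [← this]
      refine Finset.sum_congr rfl (fun j _ => ?_)
      rw [mul_comm, MvPolynomial.coeff_C_mul, MvPolynomial.coeff_map, Algebra.smul_def, mul_comm]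
    have hpj : p j = 0 := by
      ext m
      rw [hcoeff m j hj, MvPolynomial.coeff_zero]
    apply Subtype.ext
    rw [← hp, hpj, map_zero]
    rfl
  let b := Module.Basis.ofVectorSpace K (algebraicClosure K L)
  have hli := claim _ b b.linearIndependent
  haveI : Finite (Module.Basis.ofVectorSpaceIndex K (algebraicClosure K L)) := hli.finite
  exact Module.Finite.of_basis b

end Groth.Agent.H8.Jap.NagFT
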