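import Mathlib
import Groth.Prelude.Def_Found
import Groth.Agent.Lib.Helper8.Japanese.FldFin
import Groth.Agent.Lib.Helper8.Japanese.NagFT16

set_option autoImplicit false
universe u
open IntermediateField

namespace Groth.Agent.H8.Jap.NagFT

theorem finite_integralClosure_of_domain_injective (R D : Type u) [CommRing R] [IsDomain R]
    (hR : CAlg.IsNagata R) [CommRing D] [IsDomain D] [Algebra R D]
    (hinj : Function.Injective (algebraMap R D)) [Algebra.FiniteType R D] :
    Module.Finite R (integralClosure R D) := by
  haveI := hR.1
  haveI : FaithfulSMul R D := (faithfulSMul_iff_algebraMap_injective _ _).mpr hinj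
  haveI : FaithfulSMul R (FractionRing D) := by
    rw [faithfulSMul_iff_algebraMap_injective,
      IsScalarTower.algebraMap_eq R D (FractionRing D)]
    exact (IsFractionRing.injective D (FractionRing D)).comp hinj
  letI : Algebra (FractionRing R) (FractionRing D) :=
    FractionRing.liftAlgebra R (FractionRing D)
  haveI : IsScalarTower R (FractionRing R) (FractionRing D) :=
    FractionRing.isScalarTower_liftAlgebra _ _
  haveI : Algebra.EssFiniteType (FractionRing R) (FractionRing D) := by
    haveI : Algebra.EssFiniteType D (FractionRing D) :=
      Algebra.EssFiniteType.of_isLocalization (FractionRing D) (nonZeroDivisors D)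
    haveI : Algebra.EssFiniteType R (FractionRing D) :=
      Algebra.EssFiniteType.comp R D (FractionRing D)
    exact Algebra.EssFiniteType.of_comp R (FractionRing R) (FractionRing D)
  haveI := finiteDimensional_algebraicClosure (FractionRing R) (FractionRing D)
  have hfin : Module.Finite R (integralClosure R
      (algebraicClosure (FractionRing R) (FractionRing D))) :=
    (isN2_of_isNagata_of_isDomain R hR) (algebraicClosure (FractionRing R) (FractionRing D))
      inferInstance
  haveI : IsNoetherian R (integralClosure R
      (algebraicClosure (FractionRing R) (FractionRing D))) :=
    isNoetherian_of_isNoetherianRing_of_finite R _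
  haveI : IsScalarTower R (algebraicClosure (FractionRing R) (FractionRing D)) (FractionRing D) :=
    IsScalarTower.of_algebraMap_eq (fun r => by
      rw [IsScalarTower.algebraMap_apply R (FractionRing R) (FractionRing D),
        IsScalarTower.algebraMap_apply R (FractionRing R)
          (algebraicClosure (FractionRing R) (FractionRing D)),
        ← IsScalarTower.algebraMap_apply (FractionRing R)
          (algebraicClosure (FractionRing R) (FractionRing D)) (FractionRing D)])
  have hint : ∀ z : D, IsIntegral R z → IsIntegral R (algebraMap D (FractionRing D) z) :=
    fun z hz => hz.algebraMap
  have hmem : ∀ z : D, IsIntegral R z → algebraMap D (FractionRing D) z ∈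
      algebraicClosure (FractionRing R) (FractionRing D) := by
    intro z hz
    rw [mem_algebraicClosure_iff']
    exact (hint z hz).tower_top
  let f : integralClosure R D →ₗ[R] integralClosure R
      (algebraicClosure (FractionRing R) (FractionRing D)) :=
    { toFun := fun z => ⟨⟨algebraMap D (FractionRing D) z.1, hmem z.1 z.2⟩, by
        have h1 := hint z.1 z.2
        refine (isIntegral_algHom_iff (IsScalarTower.toAlgHom R
          (algebraicClosure (FractionRing R) (FractionRing D)) (FractionRing D))
          Subtype.val_injective).mp ?_
        exact h1⟩
      map_add' := fun a b => by
        apply Subtype.ext; apply Subtype.ext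
        simp
      map_smul' := fun r a => by
        apply Subtype.ext; apply Subtype.ext
        simp only [Algebra.smul_def, RingHom.id_apply]
        show algebraMap D (FractionRing D) (algebraMap R D r * a.1) =
          algebraMap (algebraicClosure (FractionRing R) (FractionRing D)) (FractionRing D)
            (algebraMap R _ r) * algebraMap D (FractionRing D) a.1
        rw [map_mul, ← IsScalarTower.algebraMap_apply, ← IsScalarTower.algebraMap_apply] }
  refine Module.Finite.of_injective f ?_
  intro a b hab
  apply Subtype.ext
  apply IsFractionRing.injective D (FractionRing D)
  have := congrArg (fun w : integralClosure R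
      (algebraicClosure (FractionRing R) (FractionRing D)) =>
    ((w : algebraicClosure (FractionRing R) (FractionRing D)) : FractionRing D)) hab
  exact this

end Groth.Agent.H8.Jap.NagFT
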