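import Mathlib
import Groth.Prelude.Def_Found
import Groth.Agent.Lib.Helper8.Japanese.NagFT18

set_option autoImplicit false
universe u

namespace Groth.Agent.H8.Jap.NagFT

theorem finite_integralClosure_of_domain (R D : Type u) [CommRing R] (hR : CAlg.IsNagata R)
    [CommRing D] [IsDomain D] [Algebra R D] [Algebra.FiniteType R D] :
    Module.Finite R (integralClosure R D) := by
  classical
  haveI := hR.1
  set p := RingHom.ker (algebraMap R D) with hp
  haveI : p.IsPrime := RingHom.ker_isPrime _
  letI : Algebra (R ⧸ p) D := (Ideal.Quotient.lift p (algebraMap R D) (fun a ha => ha)).toAlgebra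
  haveI : IsScalarTower R (R ⧸ p) D := IsScalarTower.of_algebraMap_eq (fun r => rfl)
  have hinj : Function.Injective (algebraMap (R ⧸ p) D) :=
    RingHom.lift_injective_of_ker_le_ideal p (fun a ha => ha) le_rfl
  haveI : Algebra.FiniteType (R ⧸ p) D := Algebra.FiniteType.of_restrictScalars_finiteType R _ D
  have hN : CAlg.IsNagata (R ⧸ p) := AUK.isNagata_of_finite R (R ⧸ p) hR
  have h := finite_integralClosure_of_domain_injective (R ⧸ p) D hN hinj
  obtain ⟨T, hT⟩ := (Module.Finite.iff_fg
    (N := Subalgebra.toSubmodule (integralClosure (R ⧸ p) D))).mp h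
  have hle : Subalgebra.toSubmodule (integralClosure R D) ≤ Submodule.span R (T : Set D) := by
    intro z hz
    have hz' : IsIntegral (R ⧸ p) z := IsIntegral.tower_top (A := R ⧸ p) hz
    rw [← Submodule.restrictScalars_span R (R ⧸ p) Ideal.Quotient.mk_surjective,
      Submodule.restrictScalars_mem, hT]
    exact hz'
  haveI : IsNoetherian R ↥(Submodule.span R (T : Set D)) :=
    isNoetherian_of_fg_of_noetherian _ (Submodule.fg_span T.finite_toSet)
  exact Module.Finite.of_injective (Submodule.inclusion hle) (Submodule.inclusion_injective hle)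

/-- **Stacks 03GH** (finite type version): the integral closure of a Nagata ring in a reduced
finite type algebra is finite. -/
theorem finite_integralClosure_of_isReduced (R S : Type u) [CommRing R] (hR : CAlg.IsNagata R)
    [CommRing S] [IsReduced S] [Algebra R S] [Algebra.FiniteType R S] :
    Module.Finite R (integralClosure R S) := by
  classical
  haveI := hR.1
  haveI : IsNoetherianRing S := Algebra.FiniteType.isNoetherianRing R S
  haveI : Finite {q : Ideal S // q ∈ minimalPrimes S} :=
    (minimalPrimes.finite_of_isNoetherianRing S).to_subtype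
  haveI hprime : ∀ q : {q : Ideal S // q ∈ minimalPrimes S}, q.1.IsPrime := fun q => q.2.1.1
  haveI : ∀ q : {q : Ideal S // q ∈ minimalPrimes S},
      Module.Finite R (integralClosure R (S ⧸ q.1)) := fun q =>
    finite_integralClosure_of_domain R (S ⧸ q.1) hR
  haveI : IsNoetherian R (∀ q : {q : Ideal S // q ∈ minimalPrimes S},
      integralClosure R (S ⧸ q.1)) := isNoetherian_of_isNoetherianRing_of_finite R _
  let f : integralClosure R S →ₗ[R] (∀ q : {q : Ideal S // q ∈ minimalPrimes S},
      integralClosure R (S ⧸ q.1)) :=
    { toFun := fun z q => ⟨Ideal.Quotient.mk q.1 z.1,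
        IsIntegral.map (Ideal.Quotient.mkₐ R q.1) z.2⟩
      map_add' := fun a b => by ext q; simp
      map_smul' := fun r a => by
        ext q
        simp only [RingHom.id_apply, Pi.smul_apply]
        rfl }
  refine Module.Finite.of_injective f ?_
  rw [← LinearMap.ker_eq_bot, LinearMap.ker_eq_bot']
  intro z hz
  apply Subtype.ext
  have h1 : (z : S) ∈ sInf (minimalPrimes S) := by
    rw [Ideal.mem_sInf]
    intro q hq
    have := congrFun hz ⟨q, hq⟩
    have h2 := congrArg Subtype.val this
    exact Ideal.Quotient.eq_zero_iff_mem.mp h2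
  rw [minimalPrimes, Ideal.sInf_minimalPrimes, Ideal.radical_bot_of_isReduced] at h1
  exact h1

end Groth.Agent.H8.Jap.NagFT
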