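import Mathlib
import Groth.Agent.Lib.Helper8.Japanese.NagFT19

namespace Groth.Agent.H8.Jap.NormFin
universe u

/-- Finiteness of integral closure descends along a jointly injective finite family of
algebra maps. -/
theorem finite_integralClosure_of_pi_injective (A : Type*) [CommRing A] [IsNoetherianRing A]
    (B : Type*) [CommRing B] [Algebra A B] {ι : Type*} [Finite ι] (C : ι → Type*)
    [∀ j, CommRing (C j)] [∀ j, Algebra A (C j)] (φ : ∀ j, B →ₐ[A] C j)
    (hφ : ∀ b, (∀ j, φ j b = 0) → b = 0)
    (hfin : ∀ j, Module.Finite A (integralClosure A (C j))) :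
    Module.Finite A (integralClosure A B) := by
  let g : integralClosure A B →ₗ[A] (∀ j, integralClosure A (C j)) :=
    LinearMap.pi (fun j => LinearMap.codRestrict
      (Subalgebra.toSubmodule (integralClosure A (C j)))
      ((φ j).toLinearMap ∘ₗ (integralClosure A B).val.toLinearMap)
      (fun x => IsIntegral.map (φ j) x.2))
  have hg : Function.Injective g := by
    rw [injective_iff_map_eq_zero]
    intro x hx
    apply Subtype.ext
    apply hφ
    intro j
    have := congrArg (fun y => ((y j : integralClosure A (C j)) : C j)) hx
    exact this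
  haveI : ∀ j, IsNoetherian A (integralClosure A (C j)) := fun j =>
    isNoetherian_of_isNoetherianRing_of_finite A _
  exact Module.Finite.of_injective g hg

/-- Integral closure of a Nagata ring `A` in `B` is finite if `B` embeds in a finite product of
reduced finite type `A`-algebras. -/
theorem finite_integralClosure_of_isNagata (A : Type u) [CommRing A] (hA : CAlg.IsNagata A)
    (B : Type*) [CommRing B] [Algebra A B] {ι : Type*} [Finite ι] (C : ι → Type u)
    [∀ j, CommRing (C j)] [∀ j, Algebra A (C j)] [∀ j, IsReduced (C j)]
    [∀ j, Algebra.FiniteType A (C j)] (φ : ∀ j, B →ₐ[A] C j)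
    (hφ : ∀ b, (∀ j, φ j b = 0) → b = 0) :
    Module.Finite A (integralClosure A B) := by
  haveI := hA.1
  exact finite_integralClosure_of_pi_injective A B C φ hφ
    (fun j => NagFT.finite_integralClosure_of_isReduced A (C j) hA)

end Groth.Agent.H8.Jap.NormFin
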