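import Mathlib
import Groth.Agent.Lib.Helper8.Japanese.NormFin1
import Groth.Agent.Lib.Helper5.LocIC

namespace Groth.Agent.H8.Jap.NormFin
universe u
open IntermediateField

/-- N-2 domain `R` with fraction field `k`, `K/k` essentially of finite type: the integral
closure of `R` in `K` is finite. -/
theorem finite_integralClosure_field_of_isN2 (R : Type u) [CommRing R] [IsDomain R]
    [IsNoetherianRing R]
    (hR : CAlg.IsN2 R) (k K : Type u) [Field k] [Field K] [Algebra R k] [IsFractionRing R k]
    [Algebra k K] [Algebra R K] [IsScalarTower R k K] [Algebra.EssFiniteType k K] :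
    Module.Finite R (integralClosure R K) := by
  haveI := NagFT.finiteDimensional_algebraicClosure k K
  have hfin : Module.Finite R (integralClosure R (algebraicClosure k K)) :=
    (Groth.Agent.H5.isN2_iff R k).mp hR (algebraicClosure k K) inferInstance
  haveI : IsNoetherian R (integralClosure R (algebraicClosure k K)) :=
    isNoetherian_of_isNoetherianRing_of_finite R _
  haveI : IsScalarTower R (algebraicClosure k K) K :=
    IsScalarTower.of_algebraMap_eq (fun r => by
      rw [IsScalarTower.algebraMap_apply R k K,
        IsScalarTower.algebraMap_apply R k (algebraicClosure k K),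
        ← IsScalarTower.algebraMap_apply k (algebraicClosure k K) K])
  have hmem : ∀ z : K, IsIntegral R z → z ∈ algebraicClosure k K := by
    intro z hz
    rw [mem_algebraicClosure_iff']
    exact hz.tower_top
  let f : integralClosure R K →ₗ[R] integralClosure R (algebraicClosure k K) :=
    { toFun := fun z => ⟨⟨z.1, hmem z.1 z.2⟩, by
        refine (isIntegral_algHom_iff (IsScalarTower.toAlgHom R (algebraicClosure k K) K)
          Subtype.val_injective).mp ?_
        exact z.2⟩
      map_add' := fun a b => by
        apply Subtype.ext; apply Subtype.ext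
        simp
      map_smul' := fun r a => by
        apply Subtype.ext; apply Subtype.ext
        simp only [Algebra.smul_def, RingHom.id_apply]
        show algebraMap R K r * a.1 =
          algebraMap (algebraicClosure k K) K (algebraMap R _ r) * a.1
        rw [← IsScalarTower.algebraMap_apply] }
  refine Module.Finite.of_injective f ?_
  intro a b hab
  apply Subtype.ext
  have := congrArg (fun w : integralClosure R (algebraicClosure k K) =>
    ((w : algebraicClosure k K) : K)) hab
  exact this

/-- Nagata ring `A`, field `k` generated as a field by the image of `A`, `K/k` essentially of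
finite type: the integral closure of `A` in `K` is finite. -/
theorem finite_integralClosure_field (A : Type u) [CommRing A] (hA : CAlg.IsNagata A)
    (k K : Type u) [Field k] [Field K] [Algebra A k] [Algebra k K] [Algebra A K]
    [IsScalarTower A k K]
    (hk : ∀ z : k, ∃ a s : A, algebraMap A k s ≠ 0 ∧ z * algebraMap A k s = algebraMap A k a)
    [Algebra.EssFiniteType k K] :
    Module.Finite A (integralClosure A K) := by
  classical
  haveI := hA.1
  set p := RingHom.ker (algebraMap A k) with hp
  haveI : p.IsPrime := RingHom.ker_isPrime _
  letI : Algebra (A ⧸ p) k := (Ideal.Quotient.lift p (algebraMap A k) (fun a ha => ha)).toAlgebra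
  haveI : IsScalarTower A (A ⧸ p) k := IsScalarTower.of_algebraMap_eq (fun r => rfl)
  have hinj : Function.Injective (algebraMap (A ⧸ p) k) :=
    RingHom.lift_injective_of_ker_le_ideal p (fun a ha => ha) le_rfl
  haveI : FaithfulSMul (A ⧸ p) k := (faithfulSMul_iff_algebraMap_injective _ _).mpr hinj
  haveI : IsFractionRing (A ⧸ p) k := by
    refine IsFractionRing.of_field _ _ (fun z => ?_)
    obtain ⟨a, s, hs, h⟩ := hk z
    refine ⟨Ideal.Quotient.mk p a, Ideal.Quotient.mk p s, ?_⟩
    rw [eq_div_iff]
    · exact h
    · exact hs
  letI : Algebra (A ⧸ p) K := ((algebraMap k K).comp (algebraMap (A ⧸ p) k)).toAlgebra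
  haveI : IsScalarTower (A ⧸ p) k K := IsScalarTower.of_algebraMap_eq (fun r => rfl)
  haveI : IsScalarTower A (A ⧸ p) K := IsScalarTower.of_algebraMap_eq (fun r => by
    rw [IsScalarTower.algebraMap_apply A k K]
    rfl)
  haveI : IsNoetherianRing (A ⧸ p) := inferInstance
  have h := finite_integralClosure_field_of_isN2 (A ⧸ p) (hA.2 p) k K
  obtain ⟨T, hT⟩ := (Module.Finite.iff_fg
    (N := Subalgebra.toSubmodule (integralClosure (A ⧸ p) K))).mp h
  have hle : Subalgebra.toSubmodule (integralClosure A K) ≤ Submodule.span A (T : Set K) := by
    intro z hz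
    have hz' : IsIntegral (A ⧸ p) z := IsIntegral.tower_top (A := A ⧸ p) hz
    rw [← Submodule.restrictScalars_span A (A ⧸ p) Ideal.Quotient.mk_surjective,
      Submodule.restrictScalars_mem, hT]
    exact hz'
  haveI : IsNoetherian A ↥(Submodule.span A (T : Set K)) :=
    isNoetherian_of_fg_of_noetherian _ (Submodule.fg_span T.finite_toSet)
  exact Module.Finite.of_injective (Submodule.inclusion hle) (Submodule.inclusion_injective hle)

end Groth.Agent.H8.Jap.NormFin
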