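import Mathlib
import Groth.Agent.Lib.Helper8.Japanese.NormFin3

namespace Groth.Agent.H8.Jap.NormFin
universe u
open AlgebraicGeometry CategoryTheory

/-- The residue field at a point of an affine open is generated by the sections. -/
theorem exists_evaluation_eq {S : Scheme.{u}} (U : S.Opens) (hU : IsAffineOpen U) (y : S)
    (hy : y ∈ U) (z : S.residueField y) :
    ∃ a s : Γ(S, U), (S.evaluation U y hy).hom s ≠ 0 ∧
      z * (S.evaluation U y hy).hom s = (S.evaluation U y hy).hom a := by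
  obtain ⟨w, rfl⟩ := S.residue_surjective y z
  letI : Algebra Γ(S, U) (S.presheaf.stalk y) :=
    TopCat.Presheaf.algebra_section_stalk S.presheaf ⟨y, hy⟩
  haveI : IsLocalization.AtPrime (S.presheaf.stalk y) (hU.primeIdealOf ⟨y, hy⟩).asIdeal :=
    hU.isLocalization_stalk ⟨y, hy⟩
  obtain ⟨⟨a, s⟩, h⟩ := IsLocalization.surj (hU.primeIdealOf ⟨y, hy⟩).asIdeal.primeCompl w
  refine ⟨a, s.1, ?_, ?_⟩
  · have hunit : IsUnit (algebraMap Γ(S, U) (S.presheaf.stalk y) s.1) :=
      IsLocalization.map_units (M := (hU.primeIdealOf ⟨y, hy⟩).asIdeal.primeCompl) _ s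
    have h2 : IsUnit ((S.residue y).hom (algebraMap Γ(S, U) (S.presheaf.stalk y) s.1)) :=
      hunit.map _
    exact h2.ne_zero
  · have := congrArg (S.residue y).hom h
    rw [map_mul] at this
    exact this

theorem finite_integralClosure_app_of_residue {X S : Scheme.{u}} (f : X ⟶ S) [QuasiCompact f]
    [IsReduced X]
    (hfin : LocallyFinite (fun Z : ↥(irreducibleComponents ↥X) => (Z : Set ↥X)))
    (hres : ∀ x : X, closure {x} ∈ irreducibleComponents ↥X →
      (f.residueFieldMap x).hom.EssFiniteType)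
    (U : S.Opens) (hU : IsAffineOpen U) (hN : CAlg.IsNagata Γ(S, U)) :
    letI := (f.app U).hom.toAlgebra
    Module.Finite Γ(S, U) (integralClosure Γ(S, U) Γ(X, f ⁻¹ᵁ U)) := by
  letI := (f.app U).hom.toAlgebra
  haveI := hN.1
  have hW : IsCompact ((f ⁻¹ᵁ U : X.Opens) : Set X) := f.isCompact_preimage hU.isCompact
  have hfinite := hfin.finite_nonempty_inter_compact hW
  let ι := {Z : ↥(irreducibleComponents ↥X) // ((Z : Set X) ∩ ((f ⁻¹ᵁ U : X.Opens) : Set X)).Nonempty}
  haveI : Finite ι := hfinite.to_subtype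
  have hgen : ∀ Z : ι, ∃ η : X, IsGenericPoint η (Z.1 : Set X) := fun Z =>
    QuasiSober.sober Z.1.2.1 (isClosed_of_mem_irreducibleComponents _ Z.1.2)
  choose η hη using hgen
  have hηW : ∀ Z : ι, η Z ∈ f ⁻¹ᵁ U := fun Z =>
    ((hη Z).mem_open_set_iff (f ⁻¹ᵁ U).isOpen).mpr Z.2
  letI algk : ∀ Z : ι, Algebra Γ(S, U) (S.residueField (f (η Z))) := fun Z =>
    (S.evaluation U (f (η Z)) (hηW Z)).hom.toAlgebra
  letI algkK : ∀ Z : ι, Algebra (S.residueField (f (η Z))) (X.residueField (η Z)) := fun Z =>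
    (f.residueFieldMap (η Z)).hom.toAlgebra
  letI algK : ∀ Z : ι, Algebra Γ(S, U) (X.residueField (η Z)) := fun Z =>
    ((algebraMap (S.residueField (f (η Z))) (X.residueField (η Z))).comp
      (algebraMap Γ(S, U) (S.residueField (f (η Z))))).toAlgebra
  haveI : ∀ Z : ι, IsScalarTower Γ(S, U) (S.residueField (f (η Z))) (X.residueField (η Z)) :=
    fun Z => IsScalarTower.of_algebraMap_eq (fun r => rfl)
  let φ : ∀ Z : ι, Γ(X, f ⁻¹ᵁ U) →ₐ[Γ(S, U)] X.residueField (η Z) := fun Z =>
    { (X.evaluation (f ⁻¹ᵁ U) (η Z) (hηW Z)).hom with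
      commutes' := fun r => (Scheme.evaluation_naturality_apply f (η Z) (hηW Z) r).symm }
  refine finite_integralClosure_of_pi_injective Γ(S, U) Γ(X, f ⁻¹ᵁ U)
    (fun Z : ι => X.residueField (η Z)) φ ?_ (fun Z => ?_)
  · intro b hb
    rw [← AlgebraicGeometry.basicOpen_eq_bot_iff]
    by_contra hne
    obtain ⟨x, hx⟩ : ∃ x, x ∈ X.basicOpen b := by
      by_contra hcon
      push Not at hcon
      apply hne
      ext x
      simp only [TopologicalSpace.Opens.coe_bot, Set.mem_empty_iff_false, iff_false]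
      exact hcon x
    have hxW : x ∈ f ⁻¹ᵁ U := X.basicOpen_le b hx
    let Z₀ : ↥(irreducibleComponents ↥X) := ⟨irreducibleComponent x, irreducibleComponent_mem_irreducibleComponents x⟩
    let Z : ι := ⟨Z₀, ⟨x, mem_irreducibleComponent, hxW⟩⟩
    have h1 : η Z ∈ X.basicOpen b :=
      ((hη Z).mem_open_set_iff (X.basicOpen b).isOpen).mpr ⟨x, mem_irreducibleComponent, hx⟩
    have h2 := (Scheme.evaluation_ne_zero_iff_mem_basicOpen X (η Z) (hηW Z) b).mpr h1
    exact h2 (hb Z)
  · haveI : Algebra.EssFiniteType (S.residueField (f (η Z))) (X.residueField (η Z)) :=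
      hres (η Z) (by rw [(hη Z).def]; exact Z.1.2)
    exact finite_integralClosure_field Γ(S, U) hN (S.residueField (f (η Z)))
      (X.residueField (η Z)) (exists_evaluation_eq U hU (f (η Z)) (hηW Z))

end Groth.Agent.H8.Jap.NormFin
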