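import Mathlib
import Groth.Agent.Lib.Helper8.Japanese.NormFin1

namespace Groth.Agent.H8.Jap.NormFin
universe u
open AlgebraicGeometry CategoryTheory

theorem isFinite_fromNormalization_of_forall_finite {X S : Scheme.{u}} (f : X ⟶ S)
    [QuasiCompact f] [QuasiSeparated f]
    (h : ∀ (U : S.Opens) (_ : IsAffineOpen U),
      letI := (f.app U).hom.toAlgebra
      Module.Finite Γ(S, U) (integralClosure Γ(S, U) Γ(X, f ⁻¹ᵁ U))) :
    IsFinite f.fromNormalization := by
  rw [isFinite_iff]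
  refine ⟨inferInstance, fun U hU => ?_⟩
  letI := (f.app U).hom.toAlgebra
  rw [f.fromNormalization_app hU, CommRingCat.hom_comp]
  refine RingHom.Finite.comp ?_ ?_
  · exact RingHom.Finite.of_surjective _
      (ConcreteCategory.bijective_of_isIso (f.normalizationObjIso hU).inv).2
  · rw [CommRingCat.hom_ofHom, RingHom.finite_algebraMap]
    exact h U hU

theorem finite_integralClosure_app {X S : Scheme.{u}} (f : X ⟶ S) [LocallyOfFiniteType f]
    [QuasiCompact f] [IsReduced X] (U : S.Opens) (hU : IsAffineOpen U)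
    (hN : CAlg.IsNagata Γ(S, U)) :
    letI := (f.app U).hom.toAlgebra
    Module.Finite Γ(S, U) (integralClosure Γ(S, U) Γ(X, f ⁻¹ᵁ U)) := by
  letI := (f.app U).hom.toAlgebra
  obtain ⟨s, hs, e⟩ := isCompact_iff_finite_and_eq_biUnion_affineOpens.mp
    (f.isCompact_preimage hU.isCompact)
  haveI : Finite s := hs.to_subtype
  have hle : ∀ j : s, (j.1 : X.Opens) ≤ f ⁻¹ᵁ U := fun j => by
    rw [e]
    exact le_iSup₂ (f := fun (i : X.affineOpens) (_ : i ∈ s) => (i : X.Opens)) j.1 j.2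
  letI alg : ∀ j : s, Algebra Γ(S, U) Γ(X, j.1) := fun j =>
    (f.appLE U j.1 (hle j)).hom.toAlgebra
  haveI : ∀ j : s, Algebra.FiniteType Γ(S, U) Γ(X, j.1) := fun j =>
    f.finiteType_appLE hU j.1.2 (hle j)
  let φ : ∀ j : s, Γ(X, f ⁻¹ᵁ U) →ₐ[Γ(S, U)] Γ(X, j.1) := fun j =>
    { (X.presheaf.map (homOfLE (hle j)).op).hom with
      commutes' := fun r => rfl }
  refine finite_integralClosure_of_isNagata Γ(S, U) hN Γ(X, f ⁻¹ᵁ U)
    (fun j : s => Γ(X, j.1)) φ ?_
  intro b hb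
  refine X.sheaf.eq_of_locally_eq' (fun j : s => (j.1 : X.Opens)) (f ⁻¹ᵁ U)
    (fun j => homOfLE (hle j)) ?_ b 0 (fun j => ?_)
  · rw [e, iSup_subtype']
  · change (X.presheaf.map _) _ = (X.presheaf.map _) _
    exact (hb j).trans (map_zero (X.presheaf.map (homOfLE (hle j)).op).hom).symm

end Groth.Agent.H8.Jap.NormFin
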