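import Mathlib

namespace Groth.Agent.H8.Jap.ComplRed
open AdicCompletion

theorem factor_evalₐ {C : Type*} [CommRing C] (J : Ideal C) {m n : ℕ} (hmn : m ≤ n)
    (x : AdicCompletion J C) :
    Ideal.Quotient.factor (Ideal.pow_le_pow_right hmn) (evalₐ J n x) = evalₐ J m x := by
  induction x using AdicCompletion.induction_on with
  | h a =>
    rw [evalₐ_mk, evalₐ_mk, Ideal.Quotient.factor_mk]
    exact AdicCompletion.Ideal.mk_eq_mk J hmn a

/-- An injective ring hom from the `J`-adic completion of `C` to a complete ring `D`. -/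
theorem exists_injective_ringHom {C D : Type*} [CommRing C] [CommRing D] (g : C →+* D)
    (J : Ideal C) (I' : Ideal D) [IsAdicComplete I' D] (k : ℕ) (hk : 1 ≤ k)
    (hmap : ∀ n, J ^ (k * n) ≤ (I' ^ n).comap g)
    (hcomap : ∀ n, (I' ^ n).comap g ≤ J ^ n) :
    ∃ ψ : AdicCompletion J C →+* D, Function.Injective ψ := by
  let f : (n : ℕ) → AdicCompletion J C →+* D ⧸ I' ^ n := fun n =>
    (Ideal.quotientMap (I' ^ n) g (hmap n)).comp (evalₐ J (k * n)).toRingHom
  have hf : ∀ {m n : ℕ} (hle : m ≤ n), (Ideal.Quotient.factorPow I' hle).comp (f n) = f m := by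
    intro m n hle
    ext x
    simp only [f, RingHom.comp_apply]
    have h1 := factor_evalₐ J (Nat.mul_le_mul_left k hle) x
    obtain ⟨c, hc⟩ := Ideal.Quotient.mk_surjective (evalₐ J (k * n) x)
    have hc' : (evalₐ J (k * n)).toRingHom x = Ideal.Quotient.mk _ c := hc.symm
    have hm' : (evalₐ J (k * m)).toRingHom x = Ideal.Quotient.mk _ c := by
      change evalₐ J (k * m) x = _
      rw [← h1, ← hc, Ideal.Quotient.factor_mk]
    rw [hc', hm', Ideal.quotientMap_mk, Ideal.quotientMap_mk]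
    rfl
  refine ⟨IsAdicComplete.liftRingHom I' f hf, ?_⟩
  rw [injective_iff_map_eq_zero]
  intro x hx
  apply ext_evalₐ
  intro n
  rw [_root_.map_zero]
  have h1 : f n x = 0 := by
    rw [← IsAdicComplete.mk_liftRingHom I' f hf n x, hx, _root_.map_zero]
  obtain ⟨c, hc⟩ := Ideal.Quotient.mk_surjective (evalₐ J (k * n) x)
  have hc' : (evalₐ J (k * n)).toRingHom x = Ideal.Quotient.mk _ c := hc.symm
  simp only [f, RingHom.comp_apply] at h1
  rw [hc', Ideal.quotientMap_mk, Ideal.Quotient.eq_zero_iff_mem] at h1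
  have h2 : c ∈ J ^ n := hcomap n h1
  have hle : n ≤ k * n := Nat.le_mul_of_pos_left n hk
  rw [← factor_evalₐ J hle x, ← hc, Ideal.Quotient.factor_mk, Ideal.Quotient.eq_zero_iff_mem]
  exact h2

end Groth.Agent.H8.Jap.ComplRed
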