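import Mathlib
import Groth.Agent.Lib.Helper8.Japanese.ComplRed1

namespace Groth.Agent.H8.Jap.ComplRed
open AdicCompletion

/-- A ring isomorphism from the `J`-adic completion of `C` to a complete ring `D` in which `C` is
dense. -/
theorem exists_bijective_ringHom {C D : Type*} [CommRing C] [CommRing D] (g : C →+* D)
    (J : Ideal C) (I' : Ideal D) [IsAdicComplete I' D] (k : ℕ) (hk : 1 ≤ k)
    (hmap : ∀ n, J ^ (k * n) ≤ (I' ^ n).comap g)
    (hcomap : ∀ n, (I' ^ n).comap g ≤ J ^ n)
    (hdense : ∀ (n : ℕ) (d : D), ∃ c : C, d - g c ∈ I' ^ n) :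
    ∃ ψ : AdicCompletion J C →+* D, Function.Bijective ψ := by
  let f : (n : ℕ) → AdicCompletion J C →+* D ⧸ I' ^ n := fun n =>
    (Ideal.quotientMap (I' ^ n) g (hmap n)).comp (evalₐ J (k * n)).toRingHom
  have hf : ∀ {m n : ℕ} (hle : m ≤ n), (Ideal.Quotient.factorPow I' hle).comp (f n) = f m := by
    intro m n hle
    ext x
    simp only [f, RingHom.comp_apply]
    have h1 := factor_evalₐ J (Nat.mul_le_mul_left k hle) x
    obtain ⟨c, hc⟩ := Ideal.Quotient.mk_surjective (evalₐ J (k * n) x)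
    have hc' : (evalₐ J (k * n)).toRingHom x = Ideal.Quotient.mk _ c := hc.symm
    have hm' : (evalₐ J (k * m)).toRingHom x = Ideal.Quotient.mk _ c := by
      change evalₐ J (k * m) x = _
      rw [← h1, ← hc, Ideal.Quotient.factor_mk]
    rw [hc', hm', Ideal.quotientMap_mk, Ideal.quotientMap_mk]
    rfl
  refine ⟨IsAdicComplete.liftRingHom I' f hf, ?_, ?_⟩
  · rw [injective_iff_map_eq_zero]
    intro x hx
    apply ext_evalₐ
    intro n
    rw [_root_.map_zero]
    have h1 : f n x = 0 := by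
      rw [← IsAdicComplete.mk_liftRingHom I' f hf n x, hx, _root_.map_zero]
    obtain ⟨c, hc⟩ := Ideal.Quotient.mk_surjective (evalₐ J (k * n) x)
    have hc' : (evalₐ J (k * n)).toRingHom x = Ideal.Quotient.mk _ c := hc.symm
    simp only [f, RingHom.comp_apply] at h1
    rw [hc', Ideal.quotientMap_mk, Ideal.Quotient.eq_zero_iff_mem] at h1
    have h2 : c ∈ J ^ n := hcomap n h1
    have hle : n ≤ k * n := Nat.le_mul_of_pos_left n hk
    rw [← factor_evalₐ J hle x, ← hc, Ideal.Quotient.factor_mk, Ideal.Quotient.eq_zero_iff_mem]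
    exact h2
  · intro d
    choose c hc using fun n => hdense n d
    have hcauchy : ∀ n, c n ≡ c (n + 1) [SMOD (J ^ n • ⊤ : Submodule C C)] := by
      intro n
      rw [SModEq.sub_mem, smul_eq_mul, Ideal.mul_top]
      apply hcomap n
      rw [Ideal.mem_comap, map_sub]
      have h1 : d - g (c (n + 1)) ∈ I' ^ n := Ideal.pow_le_pow_right (Nat.le_succ n) (hc (n + 1))
      have h2 := Ideal.sub_mem _ h1 (hc n)
      convert h2 using 1
      ring
    let x : AdicCompletion J C := AdicCompletion.mk J C (AdicCauchySequence.mk J C c hcauchy)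
    refine ⟨x, ?_⟩
    rw [IsHausdorff.eq_iff_smodEq (I := I')]
    intro n
    rw [SModEq.sub_mem, smul_eq_mul, Ideal.mul_top, ← Ideal.Quotient.eq_zero_iff_mem, map_sub,
      IsAdicComplete.mk_liftRingHom I' f hf n x]
    simp only [f, RingHom.comp_apply]
    have hx : (evalₐ J (k * n)).toRingHom x = Ideal.Quotient.mk _ (c (k * n)) := by
      change evalₐ J (k * n) x = _
      exact evalₐ_mk J (k * n) _
    rw [hx, Ideal.quotientMap_mk, ← map_sub, Ideal.Quotient.eq_zero_iff_mem]
    have h3 : d - g (c (k * n)) ∈ I' ^ n :=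
      Ideal.pow_le_pow_right (Nat.le_mul_of_pos_left n hk) (hc (k * n))
    have h4 := Ideal.neg_mem_iff _ |>.mpr h3
    convert h4 using 1
    ring

end Groth.Agent.H8.Jap.ComplRed
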