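import Mathlib

set_option autoImplicit false
universe u
open TensorProduct

namespace Groth.Agent.H8.Jap.AUK

theorem injective_of_fractionRing_tensor (A K M N : Type*) [CommRing A] [IsDomain A] [Field K]
    [Algebra A K] [IsFractionRing A K] [AddCommGroup M] [Module A M] [AddCommGroup N]
    [Module K N] (ψ : K ⊗[A] M →ₗ[K] N)
    (hψ : Function.Injective (fun m : M => ψ (1 ⊗ₜ m))) : Function.Injective ψ := by
  have key : ∀ y : K ⊗[A] M, ∃ s : A, s ≠ 0 ∧ ∃ m : M,
      (algebraMap A K s) • y = (1 : K) ⊗ₜ[A] m := by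
    intro y
    induction y using TensorProduct.induction_on with
    | zero => exact ⟨1, one_ne_zero, 0, by simp⟩
    | tmul c m =>
      obtain ⟨a, t, rfl⟩ := IsLocalization.exists_mk'_eq (nonZeroDivisors A) c
      refine ⟨t, nonZeroDivisors.ne_zero t.2, a • m, ?_⟩
      rw [TensorProduct.smul_tmul', smul_eq_mul, IsLocalization.mk'_spec'_mk, tmul_smul,
        TensorProduct.smul_tmul', Algebra.algebraMap_eq_smul_one]
    | add y1 y2 h1 h2 =>
      obtain ⟨s1, hs1, m1, e1⟩ := h1
      obtain ⟨s2, hs2, m2, e2⟩ := h2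
      refine ⟨s1 * s2, mul_ne_zero hs1 hs2, s2 • m1 + s1 • m2, ?_⟩
      have h3 : ∀ (s : A) (m : M), algebraMap A K s • ((1 : K) ⊗ₜ[A] m) = (1 : K) ⊗ₜ[A] (s • m) := by
        intro s m
        rw [TensorProduct.smul_tmul', smul_eq_mul, mul_one, tmul_smul, TensorProduct.smul_tmul',
          Algebra.algebraMap_eq_smul_one]
      rw [smul_add, map_mul]
      conv_lhs => rw [mul_comm, mul_smul, e1, mul_comm, mul_smul, e2]
      rw [h3, h3, tmul_add]
  rw [injective_iff_map_eq_zero]
  intro y hy
  obtain ⟨s, hs, m, e⟩ := key y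
  have h1 : ψ (1 ⊗ₜ m) = 0 := by rw [← e, map_smul, hy, smul_zero]
  have h2 : m = 0 := hψ (by simp [h1])
  rw [h2, tmul_zero] at e
  have hsK : algebraMap A K s ≠ 0 := fun h0 =>
    hs (IsFractionRing.injective A K (by rw [h0, map_zero]))
  exact (smul_eq_zero.mp e).resolve_left hsK

theorem isReduced_tensor_of_geomReduced (A A' R B K L : Type u) [CommRing A] [IsDomain A]
    [CommRing A'] [Algebra A A'] [Module.Flat A A'] [CommRing R] [Algebra A' R] [Algebra A R]
    [IsScalarTower A A' R] (hinjR : Function.Injective (algebraMap A' R))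
    [Field K] [Algebra A K] [IsFractionRing A K] [Algebra K R] [IsScalarTower A K R]
    [Algebra.IsGeometricallyReduced K R]
    [CommRing B] [Algebra A B] [Field L] [Algebra A L] [Algebra B L] [IsScalarTower A B L]
    [Algebra K L] [IsScalarTower A K L] [Algebra.IsAlgebraic K L]
    (hinj : Function.Injective (algebraMap B L)) : IsReduced (B ⊗[A] A') := by
  let f1 : B ⊗[A] A' →ₐ[A] L ⊗[A] A' :=
    Algebra.TensorProduct.map (IsScalarTower.toAlgHom A B L) (AlgHom.id A A')
  have hf1 : Function.Injective f1 := fun a b hab =>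
    Module.Flat.rTensor_preserves_injective_linearMap (M := A')
      (IsScalarTower.toAlgHom A B L).toLinearMap hinj hab
  let f2 : L ⊗[K] (K ⊗[A] A') ≃ₐ[K] L ⊗[A] A' := Algebra.TensorProduct.cancelBaseChange A K K L A'
  let φ : K ⊗[A] A' →ₐ[K] R := Algebra.TensorProduct.lift (Algebra.ofId K R)
    (IsScalarTower.toAlgHom A A' R) (fun _ _ => Commute.all _ _)
  have hφ : Function.Injective φ := injective_of_fractionRing_tensor A K A' R φ.toLinearMap
    (by intro x y hxy; apply hinjR; simpa [φ] using hxy)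
  let f3 : L ⊗[K] (K ⊗[A] A') →ₐ[K] L ⊗[K] R := Algebra.TensorProduct.map (AlgHom.id K L) φ
  have hf3 : Function.Injective f3 := fun a b hab =>
    Module.Flat.lTensor_preserves_injective_linearMap (M := L) φ.toLinearMap hφ hab
  haveI : IsReduced (L ⊗[K] R) := inferInstance
  exact isReduced_of_injective ((f3.toRingHom.comp f2.symm.toAlgHom.toRingHom).comp f1.toRingHom)
    ((hf3.comp f2.symm.injective).comp hf1)

end Groth.Agent.H8.Jap.AUK
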