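import Mathlib
import Groth.Agent.Lib.Helper8.Japanese.NormFin3

namespace Groth.Agent.H8.Jap.NormFin
universe u

/-- **Stacks 03GH**: the integral closure of a Nagata ring in a reduced Noetherian algebra
essentially of finite type is finite. -/
theorem finite_integralClosure_of_essFiniteType (S T : Type u) [CommRing S] (hS : CAlg.IsNagata S)
    [CommRing T] [Algebra S T] [IsReduced T] [IsNoetherianRing T] [Algebra.EssFiniteType S T] :
    Module.Finite S (integralClosure S T) := by
  classical
  haveI := hS.1
  haveI : Finite {Q : Ideal T // Q ∈ minimalPrimes T} :=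
    (minimalPrimes.finite_of_isNoetherianRing T).to_subtype
  haveI hprime : ∀ Q : {Q : Ideal T // Q ∈ minimalPrimes T}, Q.1.IsPrime := fun Q => Q.2.1.1
  let φ : ∀ Q : {Q : Ideal T // Q ∈ minimalPrimes T}, T →ₐ[S] Q.1.ResidueField := fun Q =>
    IsScalarTower.toAlgHom S T Q.1.ResidueField
  refine finite_integralClosure_of_pi_injective S T
    (fun Q : {Q : Ideal T // Q ∈ minimalPrimes T} => Q.1.ResidueField) φ ?_ (fun Q => ?_)
  · intro x hx
    have h1 : x ∈ sInf (minimalPrimes T) := by
      rw [Ideal.mem_sInf]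
      intro Q hQ
      have hx' := hx ⟨Q, hQ⟩
      haveI : Q.IsPrime := hQ.1.1
      exact Ideal.algebraMap_residueField_eq_zero.mp hx'
    rw [minimalPrimes, Ideal.sInf_minimalPrimes, Ideal.radical_bot_of_isReduced] at h1
    exact h1
  · letI := Localization.AtPrime.algebraOfLiesOver (Q.1.under S) Q.1
    refine finite_integralClosure_field S hS (Q.1.under S).ResidueField Q.1.ResidueField ?_
    intro z
    obtain ⟨a, s, rfl⟩ := IsLocalization.exists_mk'_eq (nonZeroDivisors (S ⧸ Q.1.under S)) z
    obtain ⟨a, rfl⟩ := Ideal.Quotient.mk_surjective a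
    obtain ⟨s0, hs0⟩ := Ideal.Quotient.mk_surjective s.1
    refine ⟨a, s0, ?_, ?_⟩
    · rw [IsScalarTower.algebraMap_apply S (S ⧸ Q.1.under S) (Q.1.under S).ResidueField,
        Ideal.Quotient.algebraMap_eq, hs0]
      exact IsLocalization.to_map_ne_zero_of_mem_nonZeroDivisors _ le_rfl s.2
    · rw [IsScalarTower.algebraMap_apply S (S ⧸ Q.1.under S) (Q.1.under S).ResidueField,
        IsScalarTower.algebraMap_apply S (S ⧸ Q.1.under S) (Q.1.under S).ResidueField,
        Ideal.Quotient.algebraMap_eq, hs0]
      exact IsLocalization.mk'_spec _ _ _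

end Groth.Agent.H8.Jap.NormFin
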