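import Mathlib

namespace Groth.Agent.H8.Jap.ComplRed
open TensorProduct
universe u

/-- If `C ⊗ T` is reduced with `T` flat, then so is `Frac(C) ⊗ T`. -/
theorem isReduced_fractionRing_tensor (A C K T : Type*) [CommRing A] [CommRing C] [IsDomain C]
    [Field K] [CommRing T] [Algebra A C] [Algebra A K] [Algebra C K] [IsScalarTower A C K]
    [IsFractionRing C K] [Algebra A T] [Module.Flat A T] [IsReduced (C ⊗[A] T)] :
    IsReduced (K ⊗[A] T) := by
  let ι : C ⊗[A] T →ₐ[A] K ⊗[A] T :=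
    Algebra.TensorProduct.map (IsScalarTower.toAlgHom A C K) (AlgHom.id A T)
  have hι : Function.Injective ι := by
    intro a b hab
    exact Module.Flat.rTensor_preserves_injective_linearMap (M := T)
      (IsScalarTower.toAlgHom A C K).toLinearMap (IsFractionRing.injective C K) hab
  have key : ∀ x : K ⊗[A] T, ∃ s : C, s ≠ 0 ∧ ∃ y : C ⊗[A] T,
      (algebraMap C K s ⊗ₜ[A] (1 : T)) * x = ι y := by
    intro x
    induction x using TensorProduct.induction_on with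
    | zero => exact ⟨1, one_ne_zero, 0, by simp⟩
    | tmul z t =>
      obtain ⟨a, s, hs', rfl⟩ := IsFractionRing.div_surjective (A := C) z
      refine ⟨s, nonZeroDivisors.ne_zero hs', a ⊗ₜ t, ?_⟩
      have hs : algebraMap C K s ≠ 0 :=
        IsFractionRing.to_map_ne_zero_of_mem_nonZeroDivisors hs'
      rw [Algebra.TensorProduct.tmul_mul_tmul, one_mul, mul_div_cancel₀ _ hs]
      rfl
    | add x y hx hy =>
      obtain ⟨s1, hs1, y1, h1⟩ := hx
      obtain ⟨s2, hs2, y2, h2⟩ := hy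
      refine ⟨s1 * s2, mul_ne_zero hs1 hs2,
        (s2 ⊗ₜ[A] (1 : T)) * y1 + (s1 ⊗ₜ[A] (1 : T)) * y2, ?_⟩
      have e1 : ι (s2 ⊗ₜ[A] (1 : T)) = algebraMap C K s2 ⊗ₜ[A] (1 : T) := rfl
      have e2 : ι (s1 ⊗ₜ[A] (1 : T)) = algebraMap C K s1 ⊗ₜ[A] (1 : T) := rfl
      rw [map_add, map_mul ι, map_mul ι, e1, e2, ← h1, ← h2, map_mul]
      have e3 : (algebraMap C K s1 * algebraMap C K s2) ⊗ₜ[A] (1 : T) =
          (algebraMap C K s1 ⊗ₜ[A] (1 : T)) * (algebraMap C K s2 ⊗ₜ[A] (1 : T)) := by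
        rw [Algebra.TensorProduct.tmul_mul_tmul, one_mul]
      rw [e3]
      ring
  refine ⟨fun x hx => ?_⟩
  obtain ⟨s, hs, y, hy⟩ := key x
  have hsK : algebraMap C K s ≠ 0 := by
    rwa [Ne, FaithfulSMul.algebraMap_eq_zero_iff]
  have hynil : IsNilpotent y := by
    obtain ⟨n, hn⟩ := hx
    refine ⟨n, hι ?_⟩
    rw [map_pow, ← hy, mul_pow, hn, mul_zero, map_zero]
  have hy0 : y = 0 := hynil.eq_zero
  rw [hy0, map_zero] at hy
  have hunit : ((algebraMap C K s)⁻¹ ⊗ₜ[A] (1 : T)) * (algebraMap C K s ⊗ₜ[A] (1 : T)) = 1 := by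
    rw [Algebra.TensorProduct.tmul_mul_tmul, one_mul, inv_mul_cancel₀ hsK]
    rfl
  calc x = 1 * x := (one_mul x).symm
    _ = ((algebraMap C K s)⁻¹ ⊗ₜ[A] (1 : T)) * ((algebraMap C K s ⊗ₜ[A] (1 : T)) * x) := by
        rw [← mul_assoc, hunit]
    _ = 0 := by rw [hy, mul_zero]

end Groth.Agent.H8.Jap.ComplRed
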