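import Mathlib

namespace Groth.Agent.H8.Jap.ComplRed
open AdicCompletion TensorProduct
universe u

/-- A finite module over a Noetherian adically complete ring is adically complete. -/
theorem isAdicComplete_of_finite (R : Type u) [CommRing R] [IsNoetherianRing R] (I : Ideal R)
    [IsAdicComplete I R] (M : Type u) [AddCommGroup M] [Module R M] [Module.Finite R M] :
    IsAdicComplete I M := by
  rw [← AdicCompletion.of_bijective_iff]
  let e : M ≃ₗ[R] AdicCompletion I R ⊗[R] M :=
    (TensorProduct.lid R M).symm ≪≫ₗ LinearEquiv.rTensor M (ofLinearEquiv I R)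
  have h : ∀ x : M, of I M x = ofTensorProduct I M (e x) := by
    intro x
    simp only [e, LinearEquiv.trans_apply, TensorProduct.lid_symm_apply, LinearEquiv.rTensor_tmul]
    rw [ofTensorProduct_tmul]
    have : (ofLinearEquiv I R) (1 : R) = (1 : AdicCompletion I R) := by
      change of I R 1 = 1
      exact map_one (algebraMap R (AdicCompletion I R))
    rw [this, one_smul]
  have h2 : (of I M : M → AdicCompletion I M) = (ofTensorProduct I M) ∘ e := funext h
  rw [h2]
  exact (ofTensorProduct_bijective_of_finite_of_isNoetherian I M).comp e.bijective

end Groth.Agent.H8.Jap.ComplRed
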