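import Mathlib
import Groth.Agent.Lib.Helper8.Japanese.NagFT5
import Groth.Agent.Lib.Helper8.Japanese.AUK3

namespace Groth.Agent.H8.Jap.ComplRed
open IsLocalRing
universe u

theorem exists_jacobson_pow_le (A C : Type*) [CommRing A] [IsLocalRing A] [CommRing C]
    [Algebra A C] [Module.Finite A C] :
    ∃ k, 1 ≤ k ∧ (Ideal.jacobson (⊥ : Ideal C)) ^ k ≤ (maximalIdeal A).map (algebraMap A C) := by
  set I := (maximalIdeal A).map (algebraMap A C) with hI
  letI : Field (A ⧸ maximalIdeal A) := Ideal.Quotient.field _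
  haveI : Module.Finite (A ⧸ maximalIdeal A) (C ⧸ I) :=
    Module.Finite.of_restrictScalars_finite A _ _
  haveI : IsArtinianRing (C ⧸ I) := IsArtinianRing.of_finite (A ⧸ maximalIdeal A) (C ⧸ I)
  obtain ⟨k, hk⟩ := IsArtinianRing.isNilpotent_jacobson_bot (R := C ⧸ I)
  refine ⟨k + 1, Nat.le_add_left 1 k, ?_⟩
  have h1 : (Ideal.jacobson (⊥ : Ideal C)).map (Ideal.Quotient.mk I) ≤
      Ideal.jacobson (⊥ : Ideal (C ⧸ I)) := by
    rw [Ideal.map_le_iff_le_comap]
    intro x hx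
    exact NagFT.map_mem_jacobson_bot_of_surjective _ Ideal.Quotient.mk_surjective x hx
  have h2 : ((Ideal.jacobson (⊥ : Ideal C)) ^ (k + 1)).map (Ideal.Quotient.mk I) = ⊥ := by
    rw [Ideal.map_pow, eq_bot_iff]
    calc _ ≤ (Ideal.jacobson (⊥ : Ideal (C ⧸ I))) ^ (k + 1) := Ideal.pow_right_mono h1 _
      _ = ⊥ := by rw [pow_succ, hk]; simp
  intro x hx
  have h3 : Ideal.Quotient.mk I x ∈ ((Ideal.jacobson (⊥ : Ideal C)) ^ (k + 1)).map
      (Ideal.Quotient.mk I) := Ideal.mem_map_of_mem _ hx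
  rw [h2, Ideal.mem_bot, Ideal.Quotient.eq_zero_iff_mem] at h3
  exact h3

theorem map_maximalIdeal_le_jacobson (A C : Type*) [CommRing A] [IsLocalRing A] [CommRing C]
    [Algebra A C] [Module.Finite A C] :
    (maximalIdeal A).map (algebraMap A C) ≤ Ideal.jacobson (⊥ : Ideal C) := by
  rw [Ideal.map_le_iff_le_comap]
  intro a ha
  haveI : Algebra.IsIntegral A C := Algebra.IsIntegral.of_finite A C
  refine AUK.algebraMap_mem_jacobson_bot_of_isIntegral A C a ?_
  rw [IsLocalRing.jacobson_eq_maximalIdeal ⊥ bot_ne_top]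
  exact ha

end Groth.Agent.H8.Jap.ComplRed
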