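import Mathlib
import Groth.Agent.Lib.Helper8.Japanese.AUK5

namespace Groth.Agent.H8.Jap.ComplRed
open IsLocalRing TensorProduct
universe u

/-- `R` Nagata local, `T` flat Noetherian with `𝔪T ⊆ Jac` and `R → T/𝔪T` surjective. Then `S ⊗ T` is
reduced for every reduced finite `R`-algebra `S`. -/
theorem isReduced_tensor_of_isReduced (R T : Type u) [CommRing R] [IsLocalRing R] [CommRing T]
    [IsNoetherianRing T] [Algebra R T] [Module.Flat R T] (hR : CAlg.IsNagata R)
    (hjac : (maximalIdeal R).map (algebraMap R T) ≤ Ideal.jacobson ⊥)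
    (hres : ∀ t : T, ∃ r : R, t - algebraMap R T r ∈ (maximalIdeal R).map (algebraMap R T))
    (S : Type u) [CommRing S] [IsReduced S] [Algebra R S] [Module.Finite R S] :
    IsReduced (S ⊗[R] T) := by
  classical
  haveI := hR.1
  haveI : IsNoetherianRing S := IsNoetherianRing.of_finite R S
  haveI : Finite {q : Ideal S // q ∈ minimalPrimes S} :=
    (minimalPrimes.finite_of_isNoetherianRing S).to_subtype
  haveI : Fintype {q : Ideal S // q ∈ minimalPrimes S} := Fintype.ofFinite _
  haveI hprime : ∀ q : {q : Ideal S // q ∈ minimalPrimes S}, q.1.IsPrime := fun q => q.2.1.1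
  let f : S →ₐ[R] (∀ q : {q : Ideal S // q ∈ minimalPrimes S}, S ⧸ q.1) :=
    AlgHom.pi (fun q => Ideal.Quotient.mkₐ R q.1)
  have hf : Function.Injective f := by
    rw [injective_iff_map_eq_zero]
    intro z hz
    have h1 : z ∈ sInf (minimalPrimes S) := by
      rw [Ideal.mem_sInf]
      intro q hq
      have := congrFun hz ⟨q, hq⟩
      exact Ideal.Quotient.eq_zero_iff_mem.mp this
    rw [minimalPrimes, Ideal.sInf_minimalPrimes, Ideal.radical_bot_of_isReduced] at h1
    exact h1
  have hq : ∀ q : {q : Ideal S // q ∈ minimalPrimes S}, IsReduced (T ⊗[R] (S ⧸ q.1)) :=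
    fun q => by
      haveI := AUK.isReduced_tensor R T hR hjac hres (S ⧸ q.1)
      exact isReduced_of_injective (Algebra.TensorProduct.comm R T (S ⧸ q.1)).toAlgHom
        (AlgEquiv.injective _)
  haveI : IsReduced (∀ q : {q : Ideal S // q ∈ minimalPrimes S}, T ⊗[R] (S ⧸ q.1)) :=
    ⟨fun x hx => funext fun q => (hq q).eq_zero _ (hx.map (Pi.evalRingHom _ q))⟩
  haveI : IsReduced ((∀ q : {q : Ideal S // q ∈ minimalPrimes S}, S ⧸ q.1) ⊗[R] T) :=
    isReduced_of_injective
      ((Algebra.TensorProduct.comm R _ T).trans (Algebra.TensorProduct.piRight R R T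
        (fun q : {q : Ideal S // q ∈ minimalPrimes S} => S ⧸ q.1))).toAlgHom
      (AlgEquiv.injective _)
  exact AUK.isReduced_tensor_of_injective R S _ T f hf

end Groth.Agent.H8.Jap.ComplRed
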