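import Mathlib
import Groth.Agent.Lib.Helper8.Japanese.ComplRed1
import Groth.Agent.Lib.Helper8.Japanese.ComplRed2
import Groth.Agent.Lib.Helper8.Japanese.ComplRed3
import Groth.Agent.Lib.Helper8.Japanese.ComplRed4
import Groth.Agent.Lib.Helper8.OneDim.Compl

namespace Groth.Agent.H8.Jap.ComplRed
open IsLocalRing TensorProduct
universe u

/-- Faithful flatness of `C → Â ⊗ C` in ideal form. -/
theorem comap_map_includeRight (A C T : Type u) [CommRing A] [CommRing C] [CommRing T]
    [Algebra A C] [Algebra A T] [Module.FaithfullyFlat A T] (K : Ideal C) :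
    (K.map (Algebra.TensorProduct.includeRight (R := A) (A := T) (B := C)).toRingHom).comap
      (Algebra.TensorProduct.includeRight (R := A) (A := T) (B := C)).toRingHom = K := by
  have h1 := Ideal.comap_map_eq_self_of_faithfullyFlat (A := C) (B := C ⊗[A] T) K
  let e : C ⊗[A] T ≃+* T ⊗[A] C := (Algebra.TensorProduct.comm A C T).toRingEquiv
  have hg : (Algebra.TensorProduct.includeRight (R := A) (A := T) (B := C)).toRingHom =
      (e : C ⊗[A] T →+* T ⊗[A] C).comp (algebraMap C (C ⊗[A] T)) := by
    ext c
    rfl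
  rw [hg, ← Ideal.map_map, ← Ideal.comap_comap]
  have h2 : Ideal.comap (e : C ⊗[A] T →+* T ⊗[A] C)
      (Ideal.map (e : C ⊗[A] T →+* T ⊗[A] C) (K.map (algebraMap C (C ⊗[A] T)))) =
      K.map (algebraMap C (C ⊗[A] T)) :=
    Ideal.comap_map_of_bijective _ e.bijective
  rw [h2, h1]

/-- **EGA IV 7.6.4 b) ⇒ a)**: over a Nagata local ring, the Jacobson-adic completion of a reduced
finite algebra is reduced. -/
theorem isReduced_adicCompletion_jacobson (A : Type u) [CommRing A] [IsNoetherianRing A]
    [IsLocalRing A] (hA : CAlg.IsNagata A)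
    (C : Type u) [CommRing C] [Algebra A C] [Module.Finite A C] [IsReduced C] :
    IsReduced (AdicCompletion ((⊥ : Ideal C).jacobson) C) := by
  have hfg : (maximalIdeal A).FG := IsNoetherian.noetherian _
  haveI : IsNoetherianRing (AdicCompletion (maximalIdeal A) A) :=
    OneDim.isNoetherianRing_adicCompletion A
  have hmax : maximalIdeal (AdicCompletion (maximalIdeal A) A) =
      (maximalIdeal A).map (algebraMap A (AdicCompletion (maximalIdeal A) A)) :=
    AdicCompletion.maximalIdeal_eq_map_of_fg hfg
  set B := AdicCompletion (maximalIdeal A) A with hB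
  have hjac : (maximalIdeal A).map (algebraMap A B) ≤ Ideal.jacobson ⊥ := by
    rw [IsLocalRing.jacobson_eq_maximalIdeal ⊥ bot_ne_top, hmax]
  have hres : ∀ t : B, ∃ r : A, t - algebraMap A B r ∈ (maximalIdeal A).map (algebraMap A B) := by
    intro t
    obtain ⟨a, ha⟩ := OneDim.exists_sub_mem_maximalIdeal_adicCompletion A t
    exact ⟨a, hmax ▸ ha⟩
  haveI : Module.FaithfullyFlat A B := Module.FaithfullyFlat.of_flat_of_isLocalHom
  -- D is reduced
  haveI hred1 : IsReduced (C ⊗[A] B) := isReduced_tensor_of_isReduced A B hA hjac hres C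
  haveI hred : IsReduced (B ⊗[A] C) :=
    isReduced_of_injective (Algebra.TensorProduct.comm A B C).toAlgHom (AlgEquiv.injective _)
  -- D is complete
  haveI : IsAdicComplete (maximalIdeal B) (B ⊗[A] C) :=
    isAdicComplete_of_finite B (maximalIdeal B) (B ⊗[A] C)
  set I' : Ideal (B ⊗[A] C) := (maximalIdeal B).map (algebraMap B (B ⊗[A] C)) with hI'
  haveI : IsAdicComplete I' (B ⊗[A] C) :=
    (IsAdicComplete.map_algebraMap_iff (I := maximalIdeal B) (M := B ⊗[A] C)
      (S := B ⊗[A] C)).mpr inferInstance
  set g : C →+* B ⊗[A] C :=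
    (Algebra.TensorProduct.includeRight (R := A) (A := B) (B := C)).toRingHom with hg
  set mC : Ideal C := (maximalIdeal A).map (algebraMap A C) with hmC
  have hI'eq : I' = mC.map g := by
    rw [hI', hmax, hmC, Ideal.map_map, Ideal.map_map]
    congr 1
    ext a
    simp only [RingHom.comp_apply, hg]
    change algebraMap B (B ⊗[A] C) (algebraMap A B a) =
      (Algebra.TensorProduct.includeRight (R := A) (A := B) (B := C)) (algebraMap A C a)
    rw [AlgHom.commutes, ← IsScalarTower.algebraMap_apply]
  obtain ⟨k, hk1, hk⟩ := exists_jacobson_pow_le A C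
  have hle := map_maximalIdeal_le_jacobson A C
  have hcm : ∀ K : Ideal C, (K.map g).comap g = K := comap_map_includeRight A C B
  obtain ⟨ψ, hψ⟩ := exists_injective_ringHom g ((⊥ : Ideal C).jacobson) I' k hk1
    (fun n => by
      rw [pow_mul, hI'eq, ← Ideal.map_pow]
      exact (Ideal.pow_right_mono hk n).trans Ideal.le_comap_map)
    (fun n => by
      rw [hI'eq, ← Ideal.map_pow, hcm]
      exact Ideal.pow_right_mono hle n)
  exact isReduced_of_injective ψ hψ

end Groth.Agent.H8.Jap.ComplRed
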