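import Mathlib
import Groth.Agent.Lib.Helper8.Japanese.ComplRed5

namespace Groth.Agent.H8.Jap.ComplRed
open IsLocalRing TensorProduct
universe u

/-- If `C ⊗ Â` is reduced (`C` finite over the Noetherian local ring `A`), then the Jacobson-adic
completion of `C` is reduced. -/
theorem isReduced_adicCompletion_jacobson_of_tensor (A : Type u) [CommRing A] [IsNoetherianRing A]
    [IsLocalRing A]
    (C : Type u) [CommRing C] [Algebra A C] [Module.Finite A C]
    (hred1 : IsReduced (C ⊗[A] AdicCompletion (maximalIdeal A) A)) :
    IsReduced (AdicCompletion ((⊥ : Ideal C).jacobson) C) := by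
  have hfg : (maximalIdeal A).FG := IsNoetherian.noetherian _
  haveI : IsNoetherianRing (AdicCompletion (maximalIdeal A) A) :=
    OneDim.isNoetherianRing_adicCompletion A
  have hmax : maximalIdeal (AdicCompletion (maximalIdeal A) A) =
      (maximalIdeal A).map (algebraMap A (AdicCompletion (maximalIdeal A) A)) :=
    AdicCompletion.maximalIdeal_eq_map_of_fg hfg
  set B := AdicCompletion (maximalIdeal A) A with hB
  haveI : Module.FaithfullyFlat A B := Module.FaithfullyFlat.of_flat_of_isLocalHom
  haveI hred : IsReduced (B ⊗[A] C) :=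
    isReduced_of_injective (Algebra.TensorProduct.comm A B C).toAlgHom (AlgEquiv.injective _)
  haveI : IsAdicComplete (maximalIdeal B) (B ⊗[A] C) :=
    isAdicComplete_of_finite B (maximalIdeal B) (B ⊗[A] C)
  set I' : Ideal (B ⊗[A] C) := (maximalIdeal B).map (algebraMap B (B ⊗[A] C)) with hI'
  haveI : IsAdicComplete I' (B ⊗[A] C) :=
    (IsAdicComplete.map_algebraMap_iff (I := maximalIdeal B) (M := B ⊗[A] C)
      (S := B ⊗[A] C)).mpr inferInstance
  set g : C →+* B ⊗[A] C :=
    (Algebra.TensorProduct.includeRight (R := A) (A := B) (B := C)).toRingHom with hg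
  set mC : Ideal C := (maximalIdeal A).map (algebraMap A C) with hmC
  have hI'eq : I' = mC.map g := by
    rw [hI', hmax, hmC, Ideal.map_map, Ideal.map_map]
    congr 1
    ext a
    simp only [RingHom.comp_apply, hg]
    change algebraMap B (B ⊗[A] C) (algebraMap A B a) =
      (Algebra.TensorProduct.includeRight (R := A) (A := B) (B := C)) (algebraMap A C a)
    rw [AlgHom.commutes, ← IsScalarTower.algebraMap_apply]
  obtain ⟨k, hk1, hk⟩ := exists_jacobson_pow_le A C
  have hle := map_maximalIdeal_le_jacobson A C
  have hcm : ∀ K : Ideal C, (K.map g).comap g = K := comap_map_includeRight A C B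
  obtain ⟨ψ, hψ⟩ := exists_injective_ringHom g ((⊥ : Ideal C).jacobson) I' k hk1
    (fun n => by
      rw [pow_mul, hI'eq, ← Ideal.map_pow]
      exact (Ideal.pow_right_mono hk n).trans Ideal.le_comap_map)
    (fun n => by
      rw [hI'eq, ← Ideal.map_pow, hcm]
      exact Ideal.pow_right_mono hle n)
  exact isReduced_of_injective ψ hψ

/-- Local version. -/
theorem isReduced_adicCompletion_maximalIdeal_of_tensor (A : Type u) [CommRing A]
    [IsNoetherianRing A] [IsLocalRing A]
    (C : Type u) [CommRing C] [IsLocalRing C] [Algebra A C] [Module.Finite A C]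
    (hred1 : IsReduced (C ⊗[A] AdicCompletion (maximalIdeal A) A)) :
    IsReduced (AdicCompletion (maximalIdeal C) C) := by
  have h := isReduced_adicCompletion_jacobson_of_tensor A C hred1
  rwa [IsLocalRing.jacobson_eq_maximalIdeal ⊥ bot_ne_top] at h

end Groth.Agent.H8.Jap.ComplRed
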