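import Mathlib
import Groth.Agent.Lib.Helper8.Japanese.ComplRed8
import Groth.Agent.Lib.Helper8.Japanese.ComplRed6

namespace Groth.Agent.H8.Jap.ComplRed
open IsLocalRing TensorProduct AdicCompletion
universe u

theorem mem_map_pow_of_evalₐ_eq_zero {R : Type*} [CommRing R] (I : Ideal R) (hfg : I.FG) (n : ℕ)
    (x : AdicCompletion I R) (h : evalₐ I n x = 0) :
    x ∈ (I ^ n).map (algebraMap R (AdicCompletion I R)) := by
  have h1 : eval I R n x = 0 := by
    have h2 := factor_evalₐ_eq_eval I x (n := n) (by simp)
    rw [← h2, h, _root_.map_zero]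
  have h3 : x ∈ (I ^ n • ⊤ : Submodule R (AdicCompletion I R)) := by
    rw [pow_smul_top_eq_ker_eval hfg]
    exact h1
  refine Submodule.smul_induction_on h3 (fun r hr y _ => ?_) (fun y z hy hz => ?_)
  · rw [Algebra.smul_def]
    exact Ideal.mul_mem_right _ _ (Ideal.mem_map_of_mem _ hr)
  · exact Ideal.add_mem _ hy hz

/-- The Jacobson-adic completion of a finite algebra `C` over a Noetherian local ring `A` is
`Â ⊗ C`. -/
theorem exists_bijective_adicCompletion_jacobson (A : Type u) [CommRing A] [IsNoetherianRing A]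
    [IsLocalRing A]
    (C : Type u) [CommRing C] [Algebra A C] [Module.Finite A C] :
    ∃ ψ : AdicCompletion ((⊥ : Ideal C).jacobson) C →+* AdicCompletion (maximalIdeal A) A ⊗[A] C,
      Function.Bijective ψ := by
  have hfg : (maximalIdeal A).FG := IsNoetherian.noetherian _
  haveI : IsNoetherianRing (AdicCompletion (maximalIdeal A) A) :=
    OneDim.isNoetherianRing_adicCompletion A
  have hmax : maximalIdeal (AdicCompletion (maximalIdeal A) A) =
      (maximalIdeal A).map (algebraMap A (AdicCompletion (maximalIdeal A) A)) :=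
    AdicCompletion.maximalIdeal_eq_map_of_fg hfg
  set B := AdicCompletion (maximalIdeal A) A with hB
  haveI : Module.FaithfullyFlat A B := Module.FaithfullyFlat.of_flat_of_isLocalHom
  haveI : IsAdicComplete (maximalIdeal B) (B ⊗[A] C) :=
    isAdicComplete_of_finite B (maximalIdeal B) (B ⊗[A] C)
  set I' : Ideal (B ⊗[A] C) := (maximalIdeal B).map (algebraMap B (B ⊗[A] C)) with hI'
  haveI : IsAdicComplete I' (B ⊗[A] C) :=
    (IsAdicComplete.map_algebraMap_iff (I := maximalIdeal B) (M := B ⊗[A] C)
      (S := B ⊗[A] C)).mpr inferInstance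
  set g : C →+* B ⊗[A] C :=
    (Algebra.TensorProduct.includeRight (R := A) (A := B) (B := C)).toRingHom with hg
  set mC : Ideal C := (maximalIdeal A).map (algebraMap A C) with hmC
  have hI'eq : I' = mC.map g := by
    rw [hI', hmax, hmC, Ideal.map_map, Ideal.map_map]
    congr 1
    ext a
    simp only [RingHom.comp_apply, hg]
    change algebraMap B (B ⊗[A] C) (algebraMap A B a) =
      (Algebra.TensorProduct.includeRight (R := A) (A := B) (B := C)) (algebraMap A C a)
    rw [AlgHom.commutes, ← IsScalarTower.algebraMap_apply]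
  obtain ⟨k, hk1, hk⟩ := exists_jacobson_pow_le A C
  have hle := map_maximalIdeal_le_jacobson A C
  have hcm : ∀ K : Ideal C, (K.map g).comap g = K := comap_map_includeRight A C B
  refine exists_bijective_ringHom g ((⊥ : Ideal C).jacobson) I' k hk1
    (fun n => by
      rw [pow_mul, hI'eq, ← Ideal.map_pow]
      exact (Ideal.pow_right_mono hk n).trans Ideal.le_comap_map)
    (fun n => by
      rw [hI'eq, ← Ideal.map_pow, hcm]
      exact Ideal.pow_right_mono hle n) ?_
  intro n d
  induction d using TensorProduct.induction_on with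
  | zero => exact ⟨0, by simp⟩
  | add x y hx hy =>
    obtain ⟨c1, h1⟩ := hx
    obtain ⟨c2, h2⟩ := hy
    refine ⟨c1 + c2, ?_⟩
    have := Ideal.add_mem _ h1 h2
    convert this using 1
    rw [map_add]; ring
  | tmul b c =>
    obtain ⟨a, ha⟩ := Ideal.Quotient.mk_surjective (evalₐ (maximalIdeal A) n b)
    refine ⟨a • c, ?_⟩
    have h1 : evalₐ (maximalIdeal A) n (b - algebraMap A B a) = 0 := by
      rw [map_sub, ← ha]
      have : evalₐ (maximalIdeal A) n (algebraMap A B a) = Ideal.Quotient.mk _ a :=
        evalₐ_of (maximalIdeal A) n a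
      rw [this, sub_self]
    have h2 := mem_map_pow_of_evalₐ_eq_zero (maximalIdeal A) hfg n _ h1
    rw [Ideal.map_pow, ← hmax] at h2
    have h3 : b ⊗ₜ[A] c - g (a • c) = algebraMap B (B ⊗[A] C) (b - algebraMap A B a) *
        ((1 : B) ⊗ₜ[A] c) := by
      simp only [hg]
      change b ⊗ₜ[A] c - (1 : B) ⊗ₜ[A] (a • c) = (b - algebraMap A B a) ⊗ₜ[A] (1 : C) * _
      rw [Algebra.TensorProduct.tmul_mul_tmul, mul_one, one_mul, TensorProduct.sub_tmul,
        TensorProduct.tmul_smul, TensorProduct.smul_tmul', Algebra.algebraMap_eq_smul_one]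
    rw [h3, hI', ← Ideal.map_pow]
    exact Ideal.mul_mem_right _ _ (Ideal.mem_map_of_mem _ h2)

theorem isReduced_tensor_iff_adicCompletion_jacobson (A : Type u) [CommRing A]
    [IsNoetherianRing A] [IsLocalRing A]
    (C : Type u) [CommRing C] [Algebra A C] [Module.Finite A C] :
    IsReduced (AdicCompletion (maximalIdeal A) A ⊗[A] C) ↔
      IsReduced (AdicCompletion ((⊥ : Ideal C).jacobson) C) := by
  obtain ⟨ψ, hψ⟩ := exists_bijective_adicCompletion_jacobson A C
  let e := RingEquiv.ofBijective ψ hψ
  constructor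
  · intro h
    exact isReduced_of_injective e.toRingHom e.injective
  · intro h
    exact isReduced_of_injective e.symm.toRingHom e.symm.injective

end Groth.Agent.H8.Jap.ComplRed
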