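import Mathlib
import Groth.Prelude.Def_EGA4b
import Groth.Agent.Lib.Helper8.Japanese.ComplRed9
import Groth.Agent.Lib.Helper8.Japanese.ComplRed10
import Groth.Agent.Lib.Helper8.Japanese.AUK7
import Groth.Agent.Lib.Helper8.ReducedHomComp

namespace Groth.Agent.H8.Jap.ComplRed
open IsLocalRing TensorProduct
universe u

/-- A finite subalgebra of a finite field extension with the full fraction field. -/
theorem exists_finite_subalgebra_isFractionRing (R K L : Type*) [CommRing R] [IsDomain R]
    [Field K] [Algebra R K] [IsFractionRing R K] [Field L] [Algebra R L] [Algebra K L]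
    [IsScalarTower R K L] [FiniteDimensional K L] :
    ∃ B : Subalgebra R L, Module.Finite R B ∧ IsFractionRing B L := by
  obtain ⟨s, b, hb⟩ := FiniteDimensional.exists_is_basis_integral R K L
  let B := Algebra.adjoin R (Set.range b)
  have hfinB : Module.Finite R B := Module.Finite.iff_fg.mpr
    (fg_adjoin_of_finite (Set.finite_range b) (by rintro _ ⟨i, rfl⟩; exact hb i))
  have hinjL : Function.Injective (algebraMap R L) := by
    rw [IsScalarTower.algebraMap_eq R K L]
    exact (algebraMap K L).injective.comp (IsFractionRing.injective R K)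
  refine ⟨B, hfinB, ?_⟩
  apply IsFractionRing.of_field
  intro z
  obtain ⟨d, hd, hdz⟩ := AUK.exists_smul_mem_adjoin R K L (Set.range b) b.span_eq z
  refine ⟨⟨d • z, hdz⟩, algebraMap R B d, ?_⟩
  have hd' : algebraMap R L d ≠ 0 := fun h0 => hd (hinjL (by rw [h0, map_zero]))
  show z = (d • z) / algebraMap R L d
  rw [Algebra.smul_def, mul_div_cancel_left₀ _ hd']

/-- **EGA IV 7.6.4 a) ⇔ a'')**. -/
theorem forall_isReduced_adicCompletion_iff (A : Type u) [CommRing A] [IsNoetherianRing A]
    [IsLocalRing A] :
    (∀ (C : Type u) [CommRing C] [Algebra A C], Module.Finite A C → IsReduced C →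
        IsReduced (AdicCompletion ((⊥ : Ideal C).jacobson) C)) ↔
      EGA4.HasGeomReducedFormalFibres A := by
  constructor
  · intro h p _
    refine ((Groth.Agent.S9634.result (k := p.ResidueField) (S := EGA4.formalFibre A p)).out 0 1).mp
      ?_
    intro k' _ _ hfin hpi
    letI : Algebra (A ⧸ p) k' :=
      ((algebraMap p.ResidueField k').comp (algebraMap (A ⧸ p) p.ResidueField)).toAlgebra
    haveI : IsScalarTower (A ⧸ p) p.ResidueField k' := IsScalarTower.of_algebraMap_eq (fun _ => rfl)
    obtain ⟨C, hCfin, hCfrac⟩ := exists_finite_subalgebra_isFractionRing (A ⧸ p) p.ResidueField k'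
    letI : Algebra A k' :=
      ((algebraMap p.ResidueField k').comp (algebraMap A p.ResidueField)).toAlgebra
    haveI : IsScalarTower A p.ResidueField k' := IsScalarTower.of_algebraMap_eq (fun _ => rfl)
    haveI : IsScalarTower A (A ⧸ p) k' := IsScalarTower.of_algebraMap_eq (fun _ => rfl)
    letI : Algebra A C := ((algebraMap (A ⧸ p) C).comp (Ideal.Quotient.mk p)).toAlgebra
    haveI : IsScalarTower A (A ⧸ p) C := IsScalarTower.of_algebraMap_eq (fun _ => rfl)
    haveI : IsScalarTower A C k' := IsScalarTower.of_algebraMap_eq (fun _ => rfl)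
    haveI : Module.Finite A C := Module.Finite.trans (A ⧸ p) C
    have h1 : IsReduced (AdicCompletion ((⊥ : Ideal C).jacobson) C) := h C inferInstance inferInstance
    have h2 : IsReduced (AdicCompletion (maximalIdeal A) A ⊗[A] C) :=
      (isReduced_tensor_iff_adicCompletion_jacobson A C).mpr h1
    haveI h3 : IsReduced (C ⊗[A] AdicCompletion (maximalIdeal A) A) :=
      isReduced_of_injective (Algebra.TensorProduct.comm A C _).toAlgHom (AlgEquiv.injective _)
    have h4 : IsReduced (k' ⊗[A] AdicCompletion (maximalIdeal A) A) :=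
      isReduced_fractionRing_tensor A C k' (AdicCompletion (maximalIdeal A) A)
    let e := Algebra.TensorProduct.cancelBaseChange A p.ResidueField k' k'
      (AdicCompletion (maximalIdeal A) A)
    exact isReduced_of_injective e.toAlgHom e.injective
  · intro hA C _ _ hfin hred
    haveI := hfin
    haveI := hred
    have h1 : IsReduced (C ⊗[A] AdicCompletion (maximalIdeal A) A) :=
      Groth.Agent.H8.RHC.isReduced_baseChange A (AdicCompletion (maximalIdeal A) A) C
        (fun q _ => hA q)
    exact isReduced_adicCompletion_jacobson_of_tensor A C h1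

end Groth.Agent.H8.Jap.ComplRed
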