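import Mathlib
import Groth.Prelude.Def_EGA4b
import Groth.Agent.Lib.Helper8.Japanese.ComplRed6
import Groth.Agent.Lib.Helper8.Japanese.AUK11
import Groth.Agent.Lib.Helper8.Japanese.AU2
import Groth.Agent.Lib.Helper8.ReducedHomComp

namespace Groth.Agent.H8.Jap.ComplRed
open IsLocalRing TensorProduct
universe u

/-- **EGA IV 7.6.4/7.7.2**: a Noetherian local ring with geometrically reduced formal fibres is
Nagata. -/
theorem isNagata_of_geomReducedFormalFibres (A : Type u) [CommRing A] [IsNoetherianRing A]
    [IsLocalRing A] (hA : EGA4.HasGeomReducedFormalFibres A) : CAlg.IsNagata A := by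
  refine ⟨inferInstance, fun p _ => ?_⟩
  haveI : IsLocalRing (A ⧸ p) :=
    IsLocalRing.of_surjective' (Ideal.Quotient.mk p) Ideal.Quotient.mk_surjective
  refine AUK.isN2_of_forall_finite_local_isN1 (A ⧸ p) (fun B _ _ _ _ _ hinj => ?_)
  letI : Algebra A B := ((algebraMap (A ⧸ p) B).comp (Ideal.Quotient.mk p)).toAlgebra
  haveI : IsScalarTower A (A ⧸ p) B := IsScalarTower.of_algebraMap_eq (fun _ => rfl)
  haveI : Module.Finite A B := Module.Finite.trans (A ⧸ p) B
  haveI : IsNoetherianRing B := IsNoetherianRing.of_finite A B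
  haveI : IsReduced (B ⊗[A] AdicCompletion (maximalIdeal A) A) :=
    Groth.Agent.H8.RHC.isReduced_baseChange A (AdicCompletion (maximalIdeal A) A) B
      (fun q _ => hA q)
  haveI := isReduced_adicCompletion_maximalIdeal_of_tensor A B inferInstance
  exact isN1_of_isReduced_adicCompletion B

end Groth.Agent.H8.Jap.ComplRed
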