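import Mathlib

namespace Groth.Agent.H8.Jap.HensNag
open TensorProduct

/-- In a reduced zero-dimensional ring every element is von Neumann regular. -/
theorem exists_eq_mul_sq (T : Type*) [CommRing T] [IsReduced T] [Ring.KrullDimLE 0 T] (t : T) :
    ∃ s : T, t = t * t * s := by
  suffices h : t ∈ Ideal.span {t * t} by
    obtain ⟨s, hs⟩ := Ideal.mem_span_singleton'.mp h
    exact ⟨s, ((mul_comm _ _).trans hs).symm⟩
  apply Ideal.mem_of_localization_maximal
  intro P hP
  haveI : P.IsPrime := hP.isPrime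
  have hmin : P ∈ minimalPrimes T := by
    rw [Ring.KrullDimLE.minimalPrimes_eq_setOfPred_isPrime]
    exact hP.isPrime
  haveI : Ring.KrullDimLE 0 (Localization.AtPrime P) :=
    Ring.KrullDimLE.of_isLocalization P hmin (Localization.AtPrime P)
  have hF : IsField (Localization.AtPrime P) := Ring.KrullDimLE.isField_of_isReduced
  letI := hF.toField
  rw [Ideal.map_span, Set.image_singleton, map_mul]
  set x := algebraMap T (Localization.AtPrime P) t
  by_cases hx : x = 0
  · rw [hx]; exact Ideal.zero_mem _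
  · rw [Ideal.mem_span_singleton']
    exact ⟨x⁻¹, by field_simp⟩

/-- Quotients of reduced algebras over an absolutely flat ring `T` by extended ideals are
reduced (the quotient is a localization). -/
theorem mem_map_of_pow_mem_map {T D : Type*} [CommRing T] [CommRing D] [IsReduced D]
    (hT : ∀ t : T, ∃ s : T, t = t * t * s) (φ : T →+* D) (n : Ideal T) (d : D) (m : ℕ)
    (hd : d ^ m ∈ n.map φ) : d ∈ n.map φ := by
  have key : ∀ z ∈ n.map φ, ∃ y ∈ n, z * φ y = z := by
    intro z hz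
    induction hz using Submodule.span_induction with
    | zero => exact ⟨0, n.zero_mem, by simp⟩
    | mem z hz =>
      obtain ⟨t, ht, rfl⟩ := hz
      obtain ⟨s, hs⟩ := hT t
      exact ⟨t * s, n.mul_mem_right _ ht, by rw [← map_mul, ← mul_assoc, ← hs]⟩
    | add z₁ z₂ _ _ h₁ h₂ =>
      obtain ⟨y₁, hy₁, e₁⟩ := h₁
      obtain ⟨y₂, hy₂, e₂⟩ := h₂
      refine ⟨y₁ + y₂ - y₁ * y₂, n.sub_mem (n.add_mem hy₁ hy₂) (n.mul_mem_right _ hy₁), ?_⟩
      rw [map_sub, map_add, map_mul]
      calc (z₁ + z₂) * (φ y₁ + φ y₂ - φ y₁ * φ y₂)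
          = z₁ * φ y₁ + (z₁ - z₁ * φ y₁) * φ y₂ + z₂ * φ y₂ + (z₂ - z₂ * φ y₂) * φ y₁ := by ring
        _ = z₁ + z₂ := by rw [e₁, e₂]; ring
    | smul c z _ h =>
      obtain ⟨y, hy, e⟩ := h
      exact ⟨y, hy, by rw [smul_eq_mul, mul_assoc, e]⟩
  rcases Nat.eq_zero_or_pos m with rfl | hm
  · rw [pow_zero] at hd
    rw [(Ideal.eq_top_iff_one _).mpr hd]
    exact Submodule.mem_top
  obtain ⟨y, hy, e⟩ := key _ hd
  have h1 : (d * (1 - φ y)) ^ m = 0 := by
    rw [mul_pow]
    obtain ⟨k, rfl⟩ : ∃ k, m = k + 1 := ⟨m - 1, by omega⟩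
    rw [pow_succ (1 - φ y), ← mul_assoc, mul_comm (d ^ (k+1)), mul_assoc, mul_sub, mul_one, e,
      sub_self, mul_zero]
  have h2 : d * (1 - φ y) = 0 := IsReduced.eq_zero _ ⟨m, h1⟩
  have h3 : d = d * φ y := by
    have : d * (1 - φ y) = d - d * φ y := by ring
    rw [this, sub_eq_zero] at h2
    exact h2
  rw [h3]
  exact Ideal.mul_mem_left _ _ (Ideal.mem_map_of_mem _ hy)

end Groth.Agent.H8.Jap.HensNag
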