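import Mathlib
import Groth.Agent.Lib.Helper8.Japanese.HensNag1

namespace Groth.Agent.H8.Jap.HensNag
open TensorProduct
universe u

/-- If `K ⊗[A] B` is absolutely flat and `K ⊗[A] C` is reduced, then `K ⊗[B] C` is reduced
(it is a localization of `K ⊗[A] C`). -/
theorem isReduced_tensor_of_absFlat (A B C K : Type u) [CommRing A] [CommRing B] [CommRing C]
    [Field K] [Algebra A B] [Algebra B C] [Algebra A C] [IsScalarTower A B C] [Algebra B K]
    [Algebra A K] [IsScalarTower A B K]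
    (hT : ∀ t : K ⊗[A] B, ∃ s : K ⊗[A] B, t = t * t * s) [IsReduced (K ⊗[A] C)] :
    IsReduced (K ⊗[B] C) := by
  let φ : K ⊗[A] B →ₐ[K] K ⊗[A] C :=
    Algebra.TensorProduct.map (AlgHom.id K K) (IsScalarTower.toAlgHom A B C)
  let μ : K ⊗[A] B →ₐ[K] K :=
    Algebra.TensorProduct.lift (AlgHom.id K K) (IsScalarTower.toAlgHom A B K)
      (fun _ _ => Commute.all _ _)
  let n : Ideal (K ⊗[A] B) := RingHom.ker μ.toRingHom
  let π : K ⊗[A] C →ₐ[K] K ⊗[B] C :=
    Algebra.TensorProduct.lift (Algebra.TensorProduct.includeLeft)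
      ((Algebra.TensorProduct.includeRight : C →ₐ[B] K ⊗[B] C).restrictScalars A)
      (fun _ _ => Commute.all _ _)
  have hπ_tmul : ∀ (k : K) (c : C), π (k ⊗ₜ[A] c) = k ⊗ₜ[B] c := by
    intro k c
    simp [π]
  have hπ_surj : Function.Surjective π := by
    intro x
    induction x using TensorProduct.induction_on with
    | zero => exact ⟨0, map_zero _⟩
    | tmul k c => exact ⟨k ⊗ₜ c, hπ_tmul k c⟩
    | add x y hx hy =>
      obtain ⟨a, rfl⟩ := hx
      obtain ⟨b, rfl⟩ := hy
      exact ⟨a + b, map_add _ _ _⟩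
  have hπφ : ∀ t : K ⊗[A] B, π (φ t) = (μ t) ⊗ₜ[B] (1 : C) := by
    intro t
    induction t using TensorProduct.induction_on with
    | zero => simp
    | tmul k b =>
      simp only [φ, μ, Algebra.TensorProduct.map_tmul, AlgHom.coe_id, id_eq,
        IsScalarTower.coe_toAlgHom', Algebra.TensorProduct.lift_tmul, hπ_tmul]
      rw [Algebra.algebraMap_eq_smul_one b, ← TensorProduct.smul_tmul, Algebra.smul_def, mul_comm]
    | add x y hx hy => rw [map_add, map_add, hx, hy, map_add, TensorProduct.add_tmul]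
  have hle1 : n.map φ.toRingHom ≤ RingHom.ker π.toRingHom := by
    rw [Ideal.map_le_iff_le_comap]
    intro t ht
    have ht' : μ t = 0 := ht
    show π (φ t) = 0
    rw [hπφ, ht', TensorProduct.zero_tmul]
  -- the inverse map
  let E := (K ⊗[A] C) ⧸ n.map φ.toRingHom
  have hkey : ∀ b : B, Ideal.Quotient.mk (n.map φ.toRingHom) ((algebraMap B K b) ⊗ₜ[A] (1 : C)) =
      Ideal.Quotient.mk (n.map φ.toRingHom) ((1 : K) ⊗ₜ[A] (algebraMap B C b)) := by
    intro b
    rw [Ideal.Quotient.eq]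
    have h1 : (algebraMap B K b) ⊗ₜ[A] (1 : C) - (1 : K) ⊗ₜ[A] (algebraMap B C b) =
        φ ((algebraMap B K b) ⊗ₜ[A] (1 : B) - (1 : K) ⊗ₜ[A] b) := by
      simp [φ]
    rw [h1]
    apply Ideal.mem_map_of_mem
    show μ _ = 0
    simp [μ]
  let f : K →ₐ[B] E :=
    { toRingHom := (Ideal.Quotient.mk (n.map φ.toRingHom)).comp
        (Algebra.TensorProduct.includeLeftRingHom)
      commutes' := fun b => rfl }
  let g : C →ₐ[B] E :=
    { toRingHom := (Ideal.Quotient.mk (n.map φ.toRingHom)).comp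
        (Algebra.TensorProduct.includeRight : C →ₐ[A] K ⊗[A] C).toRingHom
      commutes' := fun b => (hkey b).symm }
  let ψ : K ⊗[B] C →ₐ[B] E := Algebra.TensorProduct.lift f g (fun _ _ => Commute.all _ _)
  have hψπ : ∀ d : K ⊗[A] C, ψ (π d) = Ideal.Quotient.mk _ d := by
    intro d
    induction d using TensorProduct.induction_on with
    | zero => rw [map_zero, map_zero, map_zero]
    | tmul k c =>
      rw [hπ_tmul]
      simp only [ψ, Algebra.TensorProduct.lift_tmul]
      show Ideal.Quotient.mk _ (k ⊗ₜ[A] (1 : C)) * Ideal.Quotient.mk _ ((1 : K) ⊗ₜ[A] c) = _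
      rw [← map_mul, Algebra.TensorProduct.tmul_mul_tmul, mul_one, one_mul]
    | add x y hx hy => rw [map_add, map_add, hx, hy, map_add]
  refine ⟨fun x hx => ?_⟩
  obtain ⟨m, hm⟩ := hx
  obtain ⟨d, rfl⟩ := hπ_surj x
  have h1 : d ^ m ∈ n.map φ.toRingHom := by
    rw [← Ideal.Quotient.eq_zero_iff_mem, ← hψπ, map_pow, hm, map_zero]
  have h2 : d ∈ n.map φ.toRingHom := mem_map_of_pow_mem_map hT φ.toRingHom n d m h1
  exact hle1 h2

end Groth.Agent.H8.Jap.HensNag
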