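import Mathlib
import Groth.Agent.Lib.Helper8.Japanese.HensNag2
import Groth.Agent.Lib.Helper8.ReducedHomComp

namespace Groth.Agent.H8.Jap.HensNag
open TensorProduct
universe u

/-- Cancellation: if `A → C` has geometrically reduced fibres and `A → B` has absolutely flat
"geometric fibres", then `B → C` has geometrically reduced fibres. -/
theorem geomReducedFibres_cancel (A B C : Type u) [CommRing A] [CommRing B] [CommRing C]
    [Algebra A B] [Algebra B C] [Algebra A C] [IsScalarTower A B C]
    (hAC : RHC.GeomReducedFibres A C)
    (hT : ∀ (K : Type u) [Field K] [Algebra A K] (t : K ⊗[A] B), ∃ s : K ⊗[A] B, t = t * t * s) :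
    RHC.GeomReducedFibres B C := by
  intro q _
  refine RHC.isGeometricallyReduced_of_forall_field _ _ fun K _ _ => ?_
  letI : Algebra B K := ((algebraMap q.ResidueField K).comp (algebraMap B q.ResidueField)).toAlgebra
  haveI : IsScalarTower B q.ResidueField K := IsScalarTower.of_algebraMap_eq fun _ => rfl
  letI : Algebra A K := ((algebraMap B K).comp (algebraMap A B)).toAlgebra
  haveI : IsScalarTower A B K := IsScalarTower.of_algebraMap_eq fun _ => rfl
  haveI : IsReduced (K ⊗[A] C) := RHC.isReduced_tensor_field_of_geomReduced A C hAC K
  haveI : IsReduced (K ⊗[B] C) := isReduced_tensor_of_absFlat A B C K (hT K)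
  let e := Algebra.TensorProduct.cancelBaseChange B q.ResidueField K K C
  exact isReduced_of_injective e.toRingEquiv.toRingHom e.injective

/-- A ring that is integral over a field is zero-dimensional. -/
theorem krullDimLE_zero_of_isIntegral (K T : Type*) [Field K] [CommRing T] [Algebra K T]
    [Algebra.IsIntegral K T] : Ring.KrullDimLE 0 T := by
  rw [Ring.krullDimLE_zero_iff]
  intro P hP
  haveI := hP
  haveI : Algebra.IsIntegral K (T ⧸ P) :=
    Algebra.IsIntegral.of_surjective (Ideal.Quotient.mkₐ K P) Ideal.Quotient.mk_surjective
  have : IsField (T ⧸ P) := isField_of_isIntegral_of_isField' (Field.toIsField K)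
  exact Ideal.Quotient.maximal_of_isField P this

end Groth.Agent.H8.Jap.HensNag
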