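import Mathlib
import Groth.Agent.Lib.Helper8.Japanese.HensNag3
import Groth.Agent.Lib.Helper8.Japanese.SepGR
import Groth.Agent.Lib.Helper8.Hens.FibreRingMain

namespace Groth.Agent.H8.Jap.HensNag
open TensorProduct IsLocalRing
universe u

/-- `K' ⊗[k] L` is reduced and absolutely flat for a separable algebraic extension `L / k`. -/
theorem absFlat_tensor_of_isSeparable (k L K' : Type u) [Field k] [Field L] [Algebra k L]
    [Algebra.IsSeparable k L] [Field K'] [Algebra k K'] :
    IsReduced (K' ⊗[k] L) ∧ ∀ t : K' ⊗[k] L, ∃ s : K' ⊗[k] L, t = t * t * s := by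
  haveI : Algebra.IsGeometricallyReduced k L := isGeometricallyReduced_of_isSeparable k L
  haveI : IsReduced (K' ⊗[k] L) := RHC.isReduced_tensor_of_isGeometricallyReduced k L K'
  haveI : Algebra.IsIntegral k L := inferInstance
  haveI : Algebra.IsIntegral K' (K' ⊗[k] L) := inferInstance
  haveI : Ring.KrullDimLE 0 (K' ⊗[k] L) := krullDimLE_zero_of_isIntegral K' _
  exact ⟨inferInstance, exists_eq_mul_sq _⟩

section

variable (R : Type u) [CommRing R] [IsLocalRing R] [IsNoetherianRing R]
  (S : Type u) [CommRing S] [IsLocalRing S] [Algebra R S] [IsLocalHom (algebraMap R S)]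
  [hS : Hensel.IsHenselization R S]

include hS in
/-- Geometric fibres of the henselization are reduced and absolutely flat. -/
theorem fiber_tensor_of_isHenselization (p : Ideal R) [p.IsPrime] (K' : Type u) [Field K']
    [Algebra p.ResidueField K'] :
    IsReduced (K' ⊗[p.ResidueField] (p.ResidueField ⊗[R] S)) ∧
      ∀ t : K' ⊗[p.ResidueField] (p.ResidueField ⊗[R] S), ∃ s, t = t * t * s := by
  obtain ⟨n, L, _, _, hsep, ⟨ε⟩⟩ := Hens.exists_fiber_equiv_pi_of_algEquiv (R := R)
    (K := ResidueField R) (Hens.algEquiv (R := R) S) p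
  let e2 : K' ⊗[p.ResidueField] (p.ResidueField ⊗[R] S) ≃ₐ[K'] K' ⊗[p.ResidueField] (Π i, L i) :=
    Algebra.TensorProduct.congr AlgEquiv.refl ε
  let e3 : K' ⊗[p.ResidueField] (Π i, L i) ≃ₐ[K'] Π i, K' ⊗[p.ResidueField] L i :=
    Algebra.TensorProduct.piRight p.ResidueField K' K' L
  let E := e2.trans e3
  have hfac : ∀ i, IsReduced (K' ⊗[p.ResidueField] L i) ∧
      ∀ t : K' ⊗[p.ResidueField] L i, ∃ s, t = t * t * s := fun i =>
    haveI := hsep i
    absFlat_tensor_of_isSeparable p.ResidueField (L i) K'
  haveI : ∀ i, IsReduced (K' ⊗[p.ResidueField] L i) := fun i => (hfac i).1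
  refine ⟨isReduced_of_injective E.toRingEquiv.toRingHom E.injective, fun t => ?_⟩
  choose σ hσ using fun i => (hfac i).2 (E t i)
  refine ⟨E.symm σ, E.injective ?_⟩
  rw [map_mul, map_mul, E.apply_symm_apply]
  funext i
  exact hσ i

include hS in
theorem geomReducedFibres_of_isHenselization : RHC.GeomReducedFibres R S := by
  intro p _
  refine RHC.isGeometricallyReduced_of_forall_field _ _ fun K' _ _ => ?_
  exact (fiber_tensor_of_isHenselization R S p K').1

include hS in
theorem absFlat_tensor_of_isHenselization (K' : Type u) [Field K'] [Algebra R K']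
    (t : K' ⊗[R] S) : ∃ s : K' ⊗[R] S, t = t * t * s := by
  let p : Ideal R := RingHom.ker (algebraMap R K')
  haveI : p.IsPrime := RingHom.ker_isPrime _
  have hunits : p.primeCompl ≤ (IsUnit.submonoid K').comap (algebraMap R K') := by
    intro a ha
    show IsUnit (algebraMap R K' a)
    exact IsUnit.mk0 _ ha
  let φ : p.ResidueField →+* K' := Ideal.ResidueField.lift p (algebraMap R K') le_rfl hunits
  letI : Algebra p.ResidueField K' := φ.toAlgebra
  haveI : IsScalarTower R p.ResidueField K' := IsScalarTower.of_algebraMap_eq fun a =>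
    (Ideal.ResidueField.lift_algebraMap p (algebraMap R K') le_rfl hunits a).symm
  let e := Algebra.TensorProduct.cancelBaseChange R p.ResidueField K' K' S
  obtain ⟨s, hs⟩ := (fiber_tensor_of_isHenselization R S p K').2 (e.symm t)
  refine ⟨e s, e.symm.injective ?_⟩
  rw [map_mul, map_mul, e.symm_apply_apply]
  exact hs

end

end Groth.Agent.H8.Jap.HensNag
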