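import Mathlib
import Groth.Agent.Lib.Helper8.Japanese.HensNag5
import Groth.Agent.Lib.Helper8.Japanese.ComplRed9
import Groth.Agent.Lib.Helper8.Hens.Quot
import Groth.Agent.Lib.Helper8.Hens.Noeth

namespace Groth.Agent.H8.Jap.HensNag
open TensorProduct IsLocalRing AdicCompletion
universe u

variable (R : Type u) [CommRing R] [IsLocalRing R] [IsNoetherianRing R]
  (S : Type u) [CommRing S] [IsLocalRing S] [Algebra R S] [IsLocalHom (algebraMap R S)]
  [hS : Hensel.IsHenselization R S]

include hS in
/-- The completion of the henselization is the completion. -/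
theorem exists_cpl_bijective [IsNoetherianRing S] :
    ∃ ψ : AdicCompletion (maximalIdeal R) R →+* AdicCompletion (maximalIdeal S) S,
      Function.Bijective ψ ∧ ∀ r : R, ψ (algebraMap R _ r) =
        algebraMap S (AdicCompletion (maximalIdeal S) S) (algebraMap R S r) := by
  have hfgS : (maximalIdeal S).FG := IsNoetherian.noetherian _
  set Sh := AdicCompletion (maximalIdeal S) S with hSh
  haveI : Module.FaithfullyFlat S Sh := Module.FaithfullyFlat.of_flat_of_isLocalHom
  haveI : Module.FaithfullyFlat R S := Hens.faithfullyFlat_of_isHenselization (R := R) S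
  have hmS : (maximalIdeal R).map (algebraMap R S) = maximalIdeal S :=
    Hens.map_maximalIdeal_of_isHenselization (R := R) S
  have hmSh : maximalIdeal Sh = (maximalIdeal S).map (algebraMap S Sh) :=
    AdicCompletion.maximalIdeal_eq_map
  let g : R →+* Sh := (algebraMap S Sh).comp (algebraMap R S)
  have hpow : ∀ n, maximalIdeal Sh ^ n = (maximalIdeal R ^ n).map g := by
    intro n
    have h0 : ((maximalIdeal R).map (algebraMap R S)).map (algebraMap S Sh) =
        (maximalIdeal S).map (algebraMap S Sh) := by rw [hmS]
    rw [hmSh, ← h0, Ideal.map_map, ← Ideal.map_pow]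
  refine ComplRed.exists_bijective_ringHom_comm g (maximalIdeal R) (maximalIdeal Sh) 1 le_rfl
    (fun n => ?_) (fun n => ?_) (fun n d => ?_)
  · rw [one_mul, hpow]
    exact Ideal.le_comap_map
  · rw [hpow]
    intro r hr
    rw [Ideal.mem_comap] at hr
    have h1 : (maximalIdeal R ^ n).map g =
        ((maximalIdeal R ^ n).map (algebraMap R S)).map (algebraMap S Sh) := by
      rw [Ideal.map_map]
    rw [h1] at hr
    have h2 : algebraMap R S r ∈ ((maximalIdeal R ^ n).map (algebraMap R S)) := by
      rw [← Ideal.comap_map_eq_self_of_faithfullyFlat (B := Sh)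
        ((maximalIdeal R ^ n).map (algebraMap R S))]
      exact hr
    rw [← Ideal.comap_map_eq_self_of_faithfullyFlat (B := S) (maximalIdeal R ^ n)]
    exact h2
  · obtain ⟨s, hs⟩ := Ideal.Quotient.mk_surjective (evalₐ (maximalIdeal S) n d)
    have h1 : d - algebraMap S Sh s ∈ (maximalIdeal S ^ n).map (algebraMap S Sh) := by
      apply ComplRed.mem_map_pow_of_evalₐ_eq_zero (maximalIdeal S) hfgS n
      rw [map_sub, AlgHom.commutes, ← hs]
      exact sub_self _
    obtain ⟨r, hr⟩ := Hens.exists_sub_mem_map_pow (R := R) S n s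
    refine ⟨r, ?_⟩
    have h2 : algebraMap S Sh (s - algebraMap R S r) ∈ maximalIdeal Sh ^ n := by
      rw [hpow]
      have : (maximalIdeal R ^ n).map g =
          ((maximalIdeal R ^ n).map (algebraMap R S)).map (algebraMap S Sh) := by
        rw [Ideal.map_map]
      rw [this]
      exact Ideal.mem_map_of_mem _ hr
    have h3 : d - algebraMap S Sh s ∈ maximalIdeal Sh ^ n := by
      rw [hmSh, ← Ideal.map_pow]
      exact h1
    have h4 : d - g r = (d - algebraMap S Sh s) + algebraMap S Sh (s - algebraMap R S r) := by
      rw [map_sub]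
      simp only [g, RingHom.comp_apply]
      ring
    rw [h4]
    exact Ideal.add_mem _ h3 h2

end Groth.Agent.H8.Jap.HensNag
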