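import Mathlib
import Groth.Prelude.Def_EGA4b
import Groth.Agent.Lib.Helper8.Japanese.ComplRed7
import Groth.Agent.Lib.Helper5.CA.GR3

namespace Groth.Agent.H8.Jap.QE
open IsLocalRing TensorProduct
universe u

theorem isGeometricallyReduced_of_isGeometricallyRegular (k S : Type u) [Field k] [CommRing S]
    [Algebra k S] (h : CAlg.IsGeometricallyRegular k S) : Algebra.IsGeometricallyReduced k S := by
  refine ((Groth.Agent.S9634.result (k := k) (S := S)).out 0 1).mp ?_
  intro k' _ _ hfin _
  haveI := h k' hfin
  exact Groth.Agent.H5.GR.isReduced_of_isRegularRing _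

theorem hasGeomReducedFormalFibres_of_isRegularHom (A : Type u) [CommRing A] [IsLocalRing A]
    (h : CAlg.IsRegularHom A (AdicCompletion (maximalIdeal A) A)) :
    EGA4.HasGeomReducedFormalFibres A := fun q _ =>
  isGeometricallyReduced_of_isGeometricallyRegular _ _ (h.2 q).2

theorem isNagata_localization_of_isGRing (A : Type u) [CommRing A] (hA : CAlg.IsGRing A)
    (m : Ideal A) [m.IsPrime] : CAlg.IsNagata (Localization.AtPrime m) := by
  haveI := hA.1
  exact ComplRed.isNagata_of_geomReducedFormalFibres _
    (hasGeomReducedFormalFibres_of_isRegularHom _ (hA.2 m))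

end Groth.Agent.H8.Jap.QE
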