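import Mathlib
import Groth.Prelude.Def_EGA4b
import Groth.Agent.Lib.Helper1.RegNormal

namespace Groth.Agent.H8.Jap.QE
open IsLocalRing TensorProduct
universe u

/-- On a Noetherian domain with open regular locus, some principal localization is integrally
closed. -/
theorem exists_isIntegrallyClosed_away_of_isOpen_regLocus (B : Type u) [CommRing B] [IsDomain B]
    (h : IsOpen (EGA4.regLocus B)) :
    ∃ f : B, f ≠ 0 ∧ IsIntegrallyClosed (Localization.Away f) := by
  let pt : PrimeSpectrum B := ⟨⊥, Ideal.isPrime_bot⟩
  have hpt : pt ∈ EGA4.regLocus B := by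
    change IsRegularLocalRing (Localization.AtPrime (⊥ : Ideal B))
    letI : Field (Localization.AtPrime (⊥ : Ideal B)) := IsField.toField <| by
      simp [isField_iff_maximalIdeal_eq, ← Localization.AtPrime.map_eq_maximalIdeal]
    infer_instance
  obtain ⟨_, ⟨f, rfl⟩, hf1, hf2⟩ :=
    PrimeSpectrum.isTopologicalBasis_basic_opens.exists_subset_of_mem_open hpt h
  have hf0 : f ≠ 0 := by
    intro h0
    apply hf1
    rw [h0]
    exact Ideal.zero_mem _
  refine ⟨f, hf0, ?_⟩
  haveI : IsDomain (Localization.Away f) :=
    IsLocalization.isDomain_localization (powers_le_nonZeroDivisors_of_noZeroDivisors hf0)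
  apply IsIntegrallyClosed.of_localization_maximal
  intro Q _ hQ
  haveI : Q.IsPrime := hQ.isPrime
  set q : Ideal B := Q.comap (algebraMap B (Localization.Away f)) with hq
  haveI : q.IsPrime := Ideal.comap_isPrime _ _
  have hfq : f ∉ q := by
    intro hfq
    have : algebraMap B (Localization.Away f) f ∈ Q := hfq
    exact hQ.ne_top (Ideal.eq_top_of_isUnit_mem _ this (IsLocalization.Away.algebraMap_isUnit f))
  have hreg : IsRegularLocalRing (Localization.AtPrime q) := hf2 (show (⟨q, inferInstance⟩ :
    PrimeSpectrum B) ∈ (PrimeSpectrum.basicOpen f : Set (PrimeSpectrum B)) from hfq)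
  haveI : IsIntegrallyClosed (Localization.AtPrime q) := Groth.Agent.H1.Reg.isIntegrallyClosed _
  let e : Localization.AtPrime q ≃ₐ[B] Localization.AtPrime Q :=
    IsLocalization.localizationLocalizationAtPrimeIsoLocalization (Submonoid.powers f) Q
  exact IsIntegrallyClosed.of_equiv e.toRingEquiv

end Groth.Agent.H8.Jap.QE
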