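import Mathlib
import Groth.Prelude.Def_EGA4b
import Groth.Agent.Lib.Helper8.Japanese.AUK11
import Groth.Agent.Lib.Helper8.Japanese.N1Local
import Groth.Agent.Lib.Helper8.Japanese.NagFT16

namespace Groth.Agent.H8.Jap.QE
open IsLocalRing TensorProduct
universe u

/-- Local N-1 from local Nagata-ness of the base. -/
theorem isN1_atPrime_of_isNagata_localization (A B : Type u) [CommRing A] [CommRing B] [IsDomain B]
    [Algebra A B] [Module.Finite A B] (n : Ideal B) [n.IsMaximal]
    (hA : CAlg.IsNagata (Localization.AtPrime (n.comap (algebraMap A B)))) :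
    CAlg.IsN1 (Localization.AtPrime n) := by
  set m : Ideal A := n.comap (algebraMap A B) with hm
  haveI : m.IsPrime := Ideal.comap_isPrime _ _
  set M : Submonoid B := Algebra.algebraMapSubmonoid B m.primeCompl with hM
  have hMle : M ≤ n.primeCompl := by
    rintro _ ⟨a, ha, rfl⟩
    exact ha
  have hM0 : M ≤ nonZeroDivisors B := by
    intro x hx
    rw [mem_nonZeroDivisors_iff_ne_zero]
    rintro rfl
    exact hMle hx (Ideal.zero_mem _)
  haveI : IsDomain (Localization M) := IsLocalization.isDomain_localization hM0
  have hNag : CAlg.IsNagata (Localization M) :=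
    AUK.isNagata_of_finite (Localization.AtPrime m) (Localization M) hA
  have hN1 : CAlg.IsN1 (Localization M) :=
    AUK.isN1_of_isN2 _ (NagFT.isN2_of_isNagata_of_isDomain _ hNag)
  letI : Algebra (Localization M) (Localization.AtPrime n) :=
    IsLocalization.localizationAlgebraOfSubmonoidLe _ _ M n.primeCompl hMle
  haveI : IsScalarTower B (Localization M) (Localization.AtPrime n) :=
    IsLocalization.localization_isScalarTower_of_submonoid_le _ _ M n.primeCompl hMle
  haveI : IsLocalization (n.primeCompl.map (algebraMap B (Localization M)))
      (Localization.AtPrime n) :=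
    IsLocalization.isLocalization_of_submonoid_le (Localization M) (Localization.AtPrime n)
      M n.primeCompl hMle
  exact Groth.Agent.H5.isN1_of_isLocalization (Localization M)
    (n.primeCompl.map (algebraMap B (Localization M))) (Localization.AtPrime n) hN1

end Groth.Agent.H8.Jap.QE
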