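import Mathlib
import Groth.Prelude.Def_EGA4b
import Groth.Agent.Lib.Helper8.Japanese.QE1
import Groth.Agent.Lib.Helper8.Japanese.QE2
import Groth.Agent.Lib.Helper8.Japanese.QE3

namespace Groth.Agent.H8.Jap.QE
open IsLocalRing TensorProduct
universe u

/-- A Noetherian ring is Nagata if its localizations at maximal ideals are Nagata and every finite
domain over it has a nonempty open normal locus. -/
theorem isNagata_of_local (A : Type u) [CommRing A] [IsNoetherianRing A]
    (hloc : ∀ (m : Ideal A) [m.IsMaximal], CAlg.IsNagata (Localization.AtPrime m))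
    (hopen : ∀ (B : Type u) [CommRing B] [IsDomain B] [Algebra A B] [Module.Finite A B],
      ∃ f : B, f ≠ 0 ∧ IsIntegrallyClosed (Localization.Away f)) : CAlg.IsNagata A := by
  refine ⟨inferInstance, fun p _ => ?_⟩
  refine AUK.isN2_of_forall_finite_isN1 (A ⧸ p) (fun B _ _ _ _ hinj => ?_)
  letI : Algebra A B := ((algebraMap (A ⧸ p) B).comp (Ideal.Quotient.mk p)).toAlgebra
  haveI : IsScalarTower A (A ⧸ p) B := IsScalarTower.of_algebraMap_eq (fun _ => rfl)
  haveI : Module.Finite A B := Module.Finite.trans (A ⧸ p) B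
  haveI : IsNoetherianRing B := IsNoetherianRing.of_finite A B
  rw [isN1_iff_local]
  refine ⟨hopen B, fun n _ => ?_⟩
  haveI : Algebra.IsIntegral A B := Algebra.IsIntegral.of_finite A B
  haveI : (n.comap (algebraMap A B)).IsMaximal :=
    Ideal.isMaximal_comap_of_isIntegral_of_isMaximal n
  exact isN1_atPrime_of_isNagata_localization A B n (hloc _)

/-- **Stacks 07QV**: a quasi-excellent ring is Nagata. -/
theorem isNagata_of_isQuasiExcellent (A : Type u) [CommRing A] (hA : EGA4.IsQuasiExcellent A) :
    CAlg.IsNagata A := by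
  obtain ⟨hN, hG, hJ⟩ := hA
  haveI := hN
  exact isNagata_of_local A (fun m _ => isNagata_localization_of_isGRing A hG m)
    (fun B _ _ _ _ => exists_isIntegrallyClosed_away_of_isOpen_regLocus B (hJ B inferInstance))

end Groth.Agent.H8.Jap.QE
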