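import Mathlib
import Groth.Prelude.Def_EGA4b
import Groth.Agent.Lib.Helper8.Japanese.QE4
import Groth.Agent.Lib.Helper8.Japanese.NagFT17

namespace Groth.Agent.H8.Jap.QE
open IsLocalRing TensorProduct
universe u

theorem isUniversallyJapanese_of_isNagata (A : Type u) [CommRing A] (hA : CAlg.IsNagata A) :
    CAlg.IsUniversallyJapanese A := by
  intro S _ _ _ hft
  haveI := hft
  exact NagFT.isN2_of_isNagata_of_isDomain S (NagFT.isNagata_of_finiteType A S hA)

theorem isNagata_of_geomReducedFormalFibres_of_isJ2 (A : Type u) [CommRing A] [IsNoetherianRing A]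
    (h1 : ∀ (m : Ideal A) [m.IsMaximal], EGA4.HasGeomReducedFormalFibres (Localization.AtPrime m))
    (h2 : EGA4.IsJ2 A) : CAlg.IsNagata A :=
  isNagata_of_local A (fun m _ => ComplRed.isNagata_of_geomReducedFormalFibres _ (h1 m))
    (fun B _ _ _ _ => exists_isIntegrallyClosed_away_of_isOpen_regLocus B (h2 B inferInstance))

end Groth.Agent.H8.Jap.QE
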