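import Mathlib
import Groth.Prelude.Def_EGA4b
import Groth.Agent.Lib.Helper8.Japanese.HensNag4
import Groth.Agent.Lib.Helper8.Japanese.HensNag6
import Groth.Agent.Lib.Helper8.Japanese.ComplRed11
import Groth.Agent.Lib.Helper8.Japanese.ComplRed7
import Groth.Agent.Lib.Helper8.Japanese.QE5

namespace Groth.Agent.H8.Jap.HensNag
open TensorProduct IsLocalRing AdicCompletion
universe u

theorem geomReducedFibres_of_algEquiv (A C C' : Type u) [CommRing A] [CommRing C] [CommRing C']
    [Algebra A C] [Algebra A C'] (e : C ≃ₐ[A] C') (h : RHC.GeomReducedFibres A C) :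
    RHC.GeomReducedFibres A C' := by
  intro p _
  haveI := h p
  let E : p.Fiber C' →ₐ[p.ResidueField] p.Fiber C :=
    (Algebra.TensorProduct.congr AlgEquiv.refl e.symm).toAlgHom
  exact Algebra.IsGeometricallyReduced.of_injective E
    (Algebra.TensorProduct.congr AlgEquiv.refl e.symm).injective

/-- A Nagata Noetherian local ring has geometrically reduced formal fibres. -/
theorem hasGeomReducedFormalFibres_of_isNagata (A : Type u) [CommRing A] [IsNoetherianRing A]
    [IsLocalRing A] (hA : CAlg.IsNagata A) : EGA4.HasGeomReducedFormalFibres A :=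
  (ComplRed.forall_isReduced_adicCompletion_iff A).mp
    (fun C _ _ hfin hred => by
      haveI := hfin
      haveI := hred
      exact ComplRed.isReduced_adicCompletion_jacobson A hA C)

theorem isNagata_iff_hasGeomReducedFormalFibres (A : Type u) [CommRing A] [IsNoetherianRing A]
    [IsLocalRing A] : CAlg.IsNagata A ↔ EGA4.HasGeomReducedFormalFibres A :=
  ⟨hasGeomReducedFormalFibres_of_isNagata A, ComplRed.isNagata_of_geomReducedFormalFibres A⟩

section

variable (R : Type u) [CommRing R] [IsLocalRing R] [IsNoetherianRing R]
  (S : Type u) [CommRing S] [IsLocalRing S] [Algebra R S] [IsLocalHom (algebraMap R S)]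
  [hS : Hensel.IsHenselization R S]

include hS in
theorem hasGeomReducedFormalFibres_iff_of_isHenselization [IsNoetherianRing S] :
    EGA4.HasGeomReducedFormalFibres S ↔ EGA4.HasGeomReducedFormalFibres R := by
  obtain ⟨ψ, hψ, hcomm⟩ := exists_cpl_bijective R S
  haveI : IsScalarTower R S (AdicCompletion (maximalIdeal S) S) :=
    IsScalarTower.of_algebraMap_eq fun _ => rfl
  let e : AdicCompletion (maximalIdeal R) R ≃ₐ[R] AdicCompletion (maximalIdeal S) S :=
    { RingEquiv.ofBijective ψ hψ with
      commutes' := fun r => (hcomm r).trans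
        (IsScalarTower.algebraMap_apply R S (AdicCompletion (maximalIdeal S) S) r).symm }
  constructor
  · intro h
    have h1 : RHC.GeomReducedFibres R (AdicCompletion (maximalIdeal S) S) :=
      RHC.geomReducedFibres_comp R S (AdicCompletion (maximalIdeal S) S)
        (geomReducedFibres_of_isHenselization R S) h
    exact geomReducedFibres_of_algEquiv R _ _ e.symm h1
  · intro h
    have h1 : RHC.GeomReducedFibres R (AdicCompletion (maximalIdeal S) S) :=
      geomReducedFibres_of_algEquiv R _ _ e h
    exact geomReducedFibres_cancel R S (AdicCompletion (maximalIdeal S) S) h1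
      (fun K _ _ t => absFlat_tensor_of_isHenselization R S K t)

include hS in
/-- The henselization of a Noetherian local ring is Nagata iff the ring is. -/
theorem isNagata_iff_of_isHenselization : CAlg.IsNagata S ↔ CAlg.IsNagata R := by
  haveI : IsNoetherianRing S := (Hens.isNoetherianRing_iff_of_isHenselization (R := R) S).mp
    inferInstance
  rw [isNagata_iff_hasGeomReducedFormalFibres, isNagata_iff_hasGeomReducedFormalFibres]
  exact hasGeomReducedFormalFibres_iff_of_isHenselization R S

theorem isUniversallyJapanese_iff_isNagata (A : Type u) [CommRing A] [IsNoetherianRing A] :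
    CAlg.IsUniversallyJapanese A ↔ CAlg.IsNagata A := by
  refine ⟨fun h => ⟨inferInstance, fun p _ => ?_⟩, QE.isUniversallyJapanese_of_isNagata A⟩
  exact h (A ⧸ p) (Algebra.FiniteType.of_surjective (Algebra.ofId A (A ⧸ p))
    Ideal.Quotient.mk_surjective)

include hS in
theorem isUniversallyJapanese_iff_of_isHenselization :
    CAlg.IsUniversallyJapanese S ↔ CAlg.IsUniversallyJapanese R := by
  haveI : IsNoetherianRing S := (Hens.isNoetherianRing_iff_of_isHenselization (R := R) S).mp
    inferInstance
  rw [isUniversallyJapanese_iff_isNagata, isUniversallyJapanese_iff_isNagata]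
  exact isNagata_iff_of_isHenselization R S

end

end Groth.Agent.H8.Jap.HensNag
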