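import Mathlib
import Groth.Prelude.Def_EGA4b
import Groth.Agent.Lib.Helper8.Japanese.NormFin3

namespace Groth.Agent.H8.Jap.QE
open IsLocalRing TensorProduct
universe u

/-- The integral closure of a reduced Nagata ring in its total ring of fractions is finite. -/
theorem finite_integralClosure_fractionRing_of_isNagata (A : Type u) [CommRing A] [IsReduced A]
    (hA : CAlg.IsNagata A) : Module.Finite A (integralClosure A (FractionRing A)) := by
  classical
  haveI := hA.1
  haveI : Finite {q : Ideal A // q ∈ minimalPrimes A} :=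
    (minimalPrimes.finite_of_isNoetherianRing A).to_subtype
  haveI hprime : ∀ q : {q : Ideal A // q ∈ minimalPrimes A}, q.1.IsPrime := fun q => q.2.1.1
  have hunit : ∀ (q : {q : Ideal A // q ∈ minimalPrimes A}) (s : nonZeroDivisors A),
      IsUnit (algebraMap A (FractionRing (A ⧸ q.1)) s) := by
    intro q s
    apply IsUnit.mk0
    rw [IsScalarTower.algebraMap_apply A (A ⧸ q.1) (FractionRing (A ⧸ q.1)), Ne,
      FaithfulSMul.algebraMap_eq_zero_iff, Ideal.Quotient.algebraMap_eq,
      Ideal.Quotient.eq_zero_iff_mem]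
    intro hs
    exact Set.disjoint_left.mp (Ideal.disjoint_nonZeroDivisors_of_mem_minimalPrimes q.2) hs s.2
  let φ : ∀ q : {q : Ideal A // q ∈ minimalPrimes A},
      FractionRing A →ₐ[A] FractionRing (A ⧸ q.1) := fun q =>
    IsLocalization.liftAlgHom (M := nonZeroDivisors A) (f := Algebra.ofId A _) (hunit q)
  refine NormFin.finite_integralClosure_of_pi_injective A (FractionRing A)
    (fun q : {q : Ideal A // q ∈ minimalPrimes A} => FractionRing (A ⧸ q.1)) φ ?_ (fun q => ?_)
  · intro x hx
    obtain ⟨a, s, rfl⟩ := IsLocalization.exists_mk'_eq (nonZeroDivisors A) x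
    have ha : a = 0 := by
      have h1 : a ∈ sInf (minimalPrimes A) := by
        rw [Ideal.mem_sInf]
        intro q hq
        have h2 := hx ⟨q, hq⟩
        have h3 : φ ⟨q, hq⟩ (IsLocalization.mk' (FractionRing A) a s) *
            algebraMap A (FractionRing (A ⧸ q)) s = algebraMap A (FractionRing (A ⧸ q)) a := by
          rw [← AlgHom.commutes (φ ⟨q, hq⟩) s, ← map_mul, IsLocalization.mk'_spec,
            AlgHom.commutes]
        rw [h2, zero_mul] at h3
        rw [IsScalarTower.algebraMap_apply A (A ⧸ q) (FractionRing (A ⧸ q)), eq_comm,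
          FaithfulSMul.algebraMap_eq_zero_iff, Ideal.Quotient.algebraMap_eq,
          Ideal.Quotient.eq_zero_iff_mem] at h3
        exact h3
      rw [minimalPrimes, Ideal.sInf_minimalPrimes, Ideal.radical_bot_of_isReduced] at h1
      exact h1
    rw [ha, IsLocalization.mk'_zero]
  · refine NormFin.finite_integralClosure_field A hA (FractionRing (A ⧸ q.1))
      (FractionRing (A ⧸ q.1)) (fun z => ?_)
    obtain ⟨a, s, rfl⟩ := IsLocalization.exists_mk'_eq (nonZeroDivisors (A ⧸ q.1)) z
    obtain ⟨a, rfl⟩ := Ideal.Quotient.mk_surjective a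
    obtain ⟨⟨s, hs⟩, rfl⟩ : ∃ s' : {s : A // Ideal.Quotient.mk q.1 s ∈ nonZeroDivisors (A ⧸ q.1)},
        (⟨Ideal.Quotient.mk q.1 s'.1, s'.2⟩ : nonZeroDivisors (A ⧸ q.1)) = s := by
      obtain ⟨s0, hs0⟩ := Ideal.Quotient.mk_surjective s.1
      exact ⟨⟨s0, hs0 ▸ s.2⟩, Subtype.ext hs0⟩
    refine ⟨a, s, ?_, ?_⟩
    · rw [IsScalarTower.algebraMap_apply A (A ⧸ q.1) (FractionRing (A ⧸ q.1)),
        Ideal.Quotient.algebraMap_eq]
      exact IsLocalization.to_map_ne_zero_of_mem_nonZeroDivisors _ le_rfl hs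
    · rw [IsScalarTower.algebraMap_apply A (A ⧸ q.1) (FractionRing (A ⧸ q.1)),
        IsScalarTower.algebraMap_apply A (A ⧸ q.1) (FractionRing (A ⧸ q.1)),
        Ideal.Quotient.algebraMap_eq]
      exact IsLocalization.mk'_spec _ _ _

end Groth.Agent.H8.Jap.QE
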