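import Mathlib
import Groth.Prelude.Def_EGA4b
import Groth.Agent.Lib.Helper8.Japanese.QE7
import Groth.Agent.Lib.Helper8.Japanese.ComplRed7
import Groth.Agent.S2643

namespace Groth.Agent.H8.Jap.QE
open IsLocalRing TensorProduct
universe u

theorem isReduced_of_isNormalRing (R : Type u) [CommRing R] (h : EGA4.IsNormalRing R) :
    IsReduced R := by
  apply isReduced_ofLocalizationMaximal
  intro J hJ
  haveI : J.IsPrime := hJ.isPrime
  haveI : IsDomain (Localization.AtPrime J) := (h J).1
  infer_instance

theorem isGeometricallyReduced_of_isGeomNormal (k S : Type u) [Field k] [CommRing S]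
    [Algebra k S] (h : EGA4.IsGeomNormal k S) : Algebra.IsGeometricallyReduced k S := by
  refine ((Groth.Agent.S9634.result (k := k) (S := S)).out 0 1).mp ?_
  intro k' _ _ hfin _
  exact isReduced_of_isNormalRing _ (h k' hfin)

theorem hasGeomReducedFormalFibres_of_hasGeomNormalFormalFibres (A : Type u) [CommRing A]
    [IsLocalRing A] (h : EGA4.HasGeomNormalFormalFibres A) : EGA4.HasGeomReducedFormalFibres A :=
  fun p _ => isGeometricallyReduced_of_isGeomNormal _ _ (h p)

theorem isReduced_cpl_and_finite_integralClosure (A : Type u) [CommRing A] [IsNoetherianRing A]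
    [IsLocalRing A] [IsReduced A] (hA : EGA4.HasGeomNormalFormalFibres A) :
    IsReduced (EGA4.Cpl A) ∧ Module.Finite A (integralClosure A (FractionRing A)) := by
  have hred := hasGeomReducedFormalFibres_of_hasGeomNormalFormalFibres A hA
  exact ⟨(Groth.Agent.S2643.result A hred).mp inferInstance,
    finite_integralClosure_fractionRing_of_isNagata A
      (ComplRed.isNagata_of_geomReducedFormalFibres A hred)⟩

end Groth.Agent.H8.Jap.QE
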