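import Mathlib

set_option autoImplicit false
universe u
open TensorProduct

namespace Groth.Agent.H8.Jap.AUK

/-- descent of `p`-th roots along a faithfully flat extension `T` with `A[β] ⊗ T` reduced -/
theorem exists_pow_eq_of_reduced (A T L : Type u) [CommRing A] [CommRing T] [Algebra A T]
    [Module.FaithfullyFlat A T] [Field L] [Algebra A L]
    (hinj : Function.Injective (algebraMap A L)) (p : ℕ) (hp : p.Prime) [CharP A p] (a : A)
    (α : T) (hα : α ^ p = algebraMap A T a) (β : L) (hβ : β ^ p = algebraMap A L a)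
    [IsReduced ((Algebra.adjoin A {β}) ⊗[A] T)] : ∃ b : A, b ^ p = a := by
  let S := Algebra.adjoin A {β}
  let βS : S := ⟨β, Algebra.subset_adjoin rfl⟩
  have hβS : βS ^ p = algebraMap A S a := Subtype.ext (by simpa [βS] using hβ)
  let z : S ⊗[A] T := βS ⊗ₜ 1 - 1 ⊗ₜ α
  have hz : z ^ p = 0 := by
    obtain ⟨r, hr⟩ := exists_add_pow_prime_eq hp z (1 ⊗ₜ α)
    have hp0 : (p : S ⊗[A] T) = 0 := by
      rw [← map_natCast (algebraMap A (S ⊗[A] T)), CharP.cast_eq_zero, map_zero]
    rw [hp0, zero_mul, zero_mul, zero_mul, add_zero] at hr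
    have h1 : z + 1 ⊗ₜ α = βS ⊗ₜ 1 := sub_add_cancel _ _
    rw [h1, Algebra.TensorProduct.tmul_pow, Algebra.TensorProduct.tmul_pow, hβS, hα, one_pow,
      one_pow] at hr
    have h2 : (algebraMap A S a) ⊗ₜ[A] (1 : T) = (1 : S) ⊗ₜ[A] (algebraMap A T a) := by
      rw [Algebra.algebraMap_eq_smul_one, Algebra.algebraMap_eq_smul_one, smul_tmul]
    rw [h2] at hr
    exact (add_eq_right.mp hr.symm)
  have hz0 : z = 0 := (IsNilpotent.eq_zero ⟨p, hz⟩)
  let N : Submodule A S := LinearMap.range (Algebra.linearMap A S)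
  have h3 : (LinearMap.rTensor T N.mkQ) z = 0 := by rw [hz0, map_zero]
  have h4 : (N.mkQ βS) ⊗ₜ[A] (1 : T) = 0 := by
    have h1 : N.mkQ (1 : S) = 0 := (Submodule.Quotient.mk_eq_zero _).mpr ⟨1, by simp⟩
    simpa [z, map_sub, LinearMap.rTensor_tmul, h1] using h3
  have h5 : N.mkQ βS = 0 := by
    apply Module.FaithfullyFlat.tensorProduct_mk_injective (A := A) (B := T) (S ⧸ N)
    rw [map_zero, TensorProduct.mk_apply]
    have := congrArg (TensorProduct.comm A (S ⧸ N) T) h4
    simpa using this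
  obtain ⟨b, hb⟩ := (Submodule.Quotient.mk_eq_zero _).mp h5
  refine ⟨b, ?_⟩
  apply hinj
  rw [map_pow, ← hβ]
  congr 1
  exact congrArg Subtype.val hb

end Groth.Agent.H8.Jap.AUK
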