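import Mathlib
set_option autoImplicit false
universe u
open Module Finset

namespace Groth.Agent.H8.Jap

section core
variable {R K L : Type u} [CommRing R] [IsDomain R] [IsIntegrallyClosed R] [Field K] [Algebra R K]
  [IsFractionRing R K] (p : ℕ) [Fact p.Prime] [CharP K p] (D : Derivation ℤ K K)
  (hD : ∀ r : R, ∃ s : R, D (algebraMap R K r) = algebraMap R K s)
  [Field L] [Algebra K L] [Algebra R L] [IsScalarTower R K L]

/-- the sum `Σ_{j<n} c_j x^j` -/
noncomputable def S (x : L) (n : ℕ) (c : ℕ → K) : L := ∑ j ∈ range n, algebraMap K L (c j) * x ^ j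

include hD in
theorem core (a0 s : R) (hs : D (algebraMap R K a0) = algebraMap R K s) (x : L)
    (hx : x ^ p = algebraMap R L a0) :
    ∀ n : ℕ, n ≤ p → ∀ c : ℕ → K, IsIntegral R (S x n c) →
      ∀ j < n, ∃ r : R, algebraMap R K r = (algebraMap R K s) ^ n * c j := by
  haveI : CharP L p := charP_of_injective_algebraMap (algebraMap K L).injective p
  have hinjKL : Function.Injective (algebraMap K L) := (algebraMap K L).injective
  set δ := algebraMap R K s with hδ
  set a := algebraMap R K a0 with ha
  have hxK : x ^ p = algebraMap K L a := by rw [hx, ha, ← IsScalarTower.algebraMap_apply]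
  have hxint : IsIntegral R x := by
    refine IsIntegral.of_pow (Fact.out : p.Prime).pos ?_
    rw [hx]; exact isIntegral_algebraMap
  have hnat : ∀ m : ℕ, ((m : K)) ^ p = m := fun m => by
    have := map_natCast (frobenius K p) m
    rwa [frobenius_def] at this
  intro n
  induction n with
  | zero => intro _ c _ j hj; exact absurd hj (Nat.not_lt_zero _)
  | succ n ih =>
    intro hnp c hint j hj
    -- w = Σ c_j^p a^j
    set w : K := ∑ j ∈ range (n + 1), c j ^ p * a ^ j with hw
    have hyp : (S x (n + 1) c) ^ p = algebraMap K L w := by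
      unfold S
      rw [sum_pow_char, hw, map_sum]
      refine Finset.sum_congr rfl (fun j _ => ?_)
      rw [mul_pow, ← pow_mul, mul_comm j p, pow_mul, hxK, map_mul, map_pow, map_pow]
    have hwint : IsIntegral R w := by
      have : IsIntegral R (algebraMap K L w) := hyp ▸ hint.pow p
      exact (isIntegral_algebraMap_iff hinjKL).mp this
    obtain ⟨w0, hw0⟩ := IsIntegrallyClosed.isIntegral_iff.mp hwint
    obtain ⟨t, ht⟩ := hD w0
    rw [hw0] at ht
    -- D w = δ * Σ_{j<n} (j+1) c_{j+1}^p a^j
    have hDpow : ∀ b : K, D (b ^ p) = 0 := by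
      intro b
      rw [Derivation.leibniz_pow, ← Nat.cast_smul_eq_nsmul K, CharP.cast_eq_zero K p, zero_smul]
    have hDw : D w = δ * ∑ j ∈ range n, ((j + 1 : ℕ) : K) * (c (j + 1) ^ p * a ^ j) := by
      rw [hw, map_sum, Finset.sum_range_succ', Finset.mul_sum]
      have h0 : D (c 0 ^ p * a ^ 0) = 0 := by rw [pow_zero, mul_one, hDpow]
      rw [h0, add_zero]
      refine Finset.sum_congr rfl (fun j _ => ?_)
      rw [Derivation.leibniz, hDpow, smul_zero, add_zero, Derivation.leibniz_pow, hs]
      simp only [smul_eq_mul, Nat.add_sub_cancel, nsmul_eq_mul]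
      ring
    -- c'_j = δ * (j+1) * c_{j+1}
    set c' : ℕ → K := fun j => δ * ((j + 1 : ℕ) : K) * c (j + 1) with hc'
    have hz : (S x n c') ^ p = algebraMap K L (δ ^ (p - 1) * D w) := by
      unfold S
      rw [sum_pow_char, hDw, Finset.mul_sum, Finset.mul_sum, map_sum]
      refine Finset.sum_congr rfl (fun j _ => ?_)
      rw [mul_pow, ← pow_mul, mul_comm j p, pow_mul, hxK, hc']
      simp only
      rw [← map_pow, ← map_pow, ← map_mul, mul_pow, mul_pow, hnat]
      congr 1
      have : δ ^ p = δ ^ (p - 1) * δ := by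
        rw [← pow_succ, Nat.sub_add_cancel (Fact.out : p.Prime).pos]
      rw [this]; ring
    have hzint : IsIntegral R (S x n c') := by
      refine IsIntegral.of_pow (Fact.out : p.Prime).pos ?_
      rw [hz, ht, hδ, ← map_pow, ← map_mul, ← IsScalarTower.algebraMap_apply]
      exact isIntegral_algebraMap
    have ih' := ih (Nat.le_of_succ_le hnp) c' hzint
    -- coefficients j ≥ 1
    have hpos : ∀ j, j < n → ∃ r : R, algebraMap R K r = δ ^ (n + 1) * c (j + 1) := by
      intro j hj
      obtain ⟨r, hr⟩ := ih' j hj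
      -- (j+1) invertible mod p
      have hjp : j + 1 < p := lt_of_lt_of_le (Nat.succ_lt_succ hj) hnp
      have hcop : Nat.Coprime (j + 1) p := by
        rw [Nat.coprime_comm, Nat.Prime.coprime_iff_not_dvd (Fact.out : p.Prime)]
        intro hdvd
        exact absurd (Nat.le_of_dvd (Nat.succ_pos j) hdvd) (not_le.mpr hjp)
      obtain ⟨m, -, hm⟩ := Nat.exists_mul_mod_eq_one_of_coprime hcop (Fact.out : p.Prime).one_lt
      have hmK : ((j + 1 : ℕ) : K) * (m : K) = 1 := by
        have h1 : (j + 1) * m = p * ((j + 1) * m / p) + 1 := by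
          have := Nat.div_add_mod ((j + 1) * m) p
          rw [hm] at this; exact this.symm
        have h2 : (((j + 1) * m : ℕ) : K) = ((p * ((j + 1) * m / p) + 1 : ℕ) : K) := by rw [← h1]
        rw [Nat.cast_mul] at h2
        rw [h2, Nat.cast_add, Nat.cast_mul, CharP.cast_eq_zero K p, zero_mul, zero_add, Nat.cast_one]
      refine ⟨m • r, ?_⟩
      rw [map_nsmul, hr, hc']
      simp only [nsmul_eq_mul]
      calc (m : K) * (δ ^ n * (δ * ((j + 1 : ℕ) : K) * c (j + 1)))
          = (((j + 1 : ℕ) : K) * (m : K)) * (δ ^ (n + 1) * c (j + 1)) := by ring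
        _ = δ ^ (n + 1) * c (j + 1) := by rw [hmK, one_mul]
    -- now the coefficients
    rcases Nat.eq_zero_or_pos j with hj0 | hjpos
    · subst hj0
      -- c 0
      have hsplit : S x (n + 1) c = (∑ j ∈ range n, algebraMap K L (c (j + 1)) * x ^ (j + 1))
          + algebraMap K L (c 0) := by
        unfold S
        rw [Finset.sum_range_succ', pow_zero, mul_one]
      have hint0 : IsIntegral R (algebraMap K L (δ ^ (n + 1) * c 0)) := by
        have heq : algebraMap K L (δ ^ (n + 1) * c 0) =
            algebraMap K L (δ ^ (n + 1)) * S x (n + 1) c -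
              ∑ j ∈ range n, algebraMap K L (δ ^ (n + 1) * c (j + 1)) * x ^ (j + 1) := by
          rw [hsplit, mul_add, Finset.mul_sum, map_mul]
          have : ∀ j ∈ range n, algebraMap K L (δ ^ (n + 1)) * (algebraMap K L (c (j + 1)) * x ^ (j + 1))
              = algebraMap K L (δ ^ (n + 1) * c (j + 1)) * x ^ (j + 1) := by
            intro j _; rw [map_mul]; ring
          rw [Finset.sum_congr rfl this]
          ring
        rw [heq]
        refine IsIntegral.sub (IsIntegral.mul ?_ hint) (IsIntegral.sum _ (fun j hj => ?_))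
        · rw [hδ, ← map_pow, ← IsScalarTower.algebraMap_apply]; exact isIntegral_algebraMap
        · obtain ⟨r, hr⟩ := hpos j (Finset.mem_range.mp hj)
          rw [← hr, ← IsScalarTower.algebraMap_apply]
          exact IsIntegral.mul isIntegral_algebraMap (hxint.pow _)
      exact IsIntegrallyClosed.isIntegral_iff.mp ((isIntegral_algebraMap_iff hinjKL).mp hint0)
    · obtain ⟨j', rfl⟩ := Nat.exists_eq_succ_of_ne_zero (Nat.pos_iff_ne_zero.mp hjpos)
      exact hpos j' (Nat.lt_of_succ_lt_succ hj)


include hD in
theorem finite_of_mem (a0 s : R) (hs : D (algebraMap R K a0) = algebraMap R K s) (hs0 : s ≠ 0)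
    [IsNoetherianRing R] (x : L)
    (hx : x ^ p = algebraMap R L a0) (hgen : IntermediateField.adjoin K {x} = ⊤) :
    Module.Finite R (integralClosure R L) := by
  classical
  have hp0 : p ≠ 0 := (Fact.out : p.Prime).ne_zero
  set δ := algebraMap R K s with hδ
  have hδ0 : δ ≠ 0 := by
    rw [hδ]; exact (map_ne_zero_iff _ (IsFractionRing.injective R K)).mpr hs0
  have hxK : x ^ p = algebraMap K L (algebraMap R K a0) := by
    rw [hx, ← IsScalarTower.algebraMap_apply]
  have hxintK : IsIntegral K x := by
    refine IsIntegral.of_pow (Fact.out : p.Prime).pos ?_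
    rw [hxK]; exact isIntegral_algebraMap
  -- representation
  have hrep : ∀ y : L, ∃ c : ℕ → K, y = S x p c := by
    intro y
    have hy : y ∈ (IntermediateField.adjoin K {x}).toSubalgebra := by rw [hgen]; trivial
    rw [IntermediateField.adjoin_simple_toSubalgebra_of_isAlgebraic hxintK.isAlgebraic,
      Algebra.adjoin_singleton_eq_range_aeval] at hy
    obtain ⟨q, rfl⟩ := hy
    set f : Polynomial K := Polynomial.X ^ p - Polynomial.C (algebraMap R K a0) with hf
    have hfm : f.Monic := Polynomial.monic_X_pow_sub_C _ hp0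
    have hfx : Polynomial.aeval x f = 0 := by
      rw [hf, map_sub, map_pow, Polynomial.aeval_X, Polynomial.aeval_C, hxK, sub_self]
    have hdeg : (q %ₘ f).natDegree < p := by
      have h1 : f.natDegree = p := Polynomial.natDegree_X_pow_sub_C
      have hne : f ≠ 1 := by
        intro h
        rw [h, Polynomial.natDegree_one] at h1
        exact hp0 h1.symm
      have := Polynomial.natDegree_modByMonic_lt q hfm hne
      rwa [h1] at this
    refine ⟨fun j => (q %ₘ f).coeff j, ?_⟩
    have h2 : Polynomial.aeval x q = Polynomial.aeval x (q %ₘ f) := by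
      conv_lhs => rw [← Polynomial.modByMonic_add_div q f]
      rw [map_add, map_mul, hfx, zero_mul, add_zero]
    change (Polynomial.aeval x) q = _
    rw [h2, Polynomial.aeval_eq_sum_range' hdeg]
    unfold S
    refine Finset.sum_congr rfl (fun j _ => ?_)
    rw [Algebra.smul_def]
  -- the finite spanning set
  let G : Finset L := (Finset.range p).image (fun j => algebraMap K L (δ ^ p)⁻¹ * x ^ j)
  have hle : Subalgebra.toSubmodule (integralClosure R L) ≤ Submodule.span R (G : Set L) := by
    intro y hy
    obtain ⟨c, rfl⟩ := hrep y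
    have hcore := core p D hD a0 s hs x hx p le_rfl c hy
    unfold S
    refine Submodule.sum_mem _ (fun j hj => ?_)
    obtain ⟨r, hr⟩ := hcore j (Finset.mem_range.mp hj)
    have hc : c j = algebraMap R K r * (δ ^ p)⁻¹ := by
      rw [hr, ← hδ]; field_simp
    have : algebraMap K L (c j) * x ^ j = r • (algebraMap K L (δ ^ p)⁻¹ * x ^ j) := by
      rw [hc, map_mul, Algebra.smul_def, IsScalarTower.algebraMap_apply R K L]; ring
    rw [this]
    exact Submodule.smul_mem _ _ (Submodule.subset_span (Finset.mem_image_of_mem _ hj))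
  have hfg : (Submodule.span R (G : Set L)).FG := Submodule.fg_span (Finset.finite_toSet G)
  haveI : IsNoetherian R (Submodule.span R (G : Set L)) :=
    isNoetherian_of_fg_of_noetherian _ hfg
  have : (Subalgebra.toSubmodule (integralClosure R L)).FG :=
    (isNoetherian_submodule.mp inferInstance) _ hle |> fun h => h
  exact Module.Finite.iff_fg.mpr this


include hD in
theorem finite_integralClosure_of_derivation [IsNoetherianRing R] (a : K) (ha : D a ≠ 0) (x : L)
    (hx : x ^ p = algebraMap K L a) (hgen : IntermediateField.adjoin K {x} = ⊤) :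
    Module.Finite R (integralClosure R L) := by
  obtain ⟨⟨n, d⟩, hnd⟩ := IsLocalization.surj (nonZeroDivisors R) a
  simp only at hnd
  have hd0 : (d : R) ≠ 0 := nonZeroDivisors.ne_zero d.2
  have hdK : algebraMap R K d ≠ 0 := (map_ne_zero_iff _ (IsFractionRing.injective R K)).mpr hd0
  have hdL : algebraMap R L d ≠ 0 := by
    rw [IsScalarTower.algebraMap_apply R K L]
    exact (map_ne_zero_iff _ (algebraMap K L).injective).mpr hdK
  have hp1 : p - 1 + 1 = p := Nat.sub_add_cancel (Fact.out : p.Prime).pos
  set a0 : R := (d : R) ^ (p - 1) * n with ha0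
  have ha0K : algebraMap R K a0 = (algebraMap R K d) ^ p * a := by
    rw [ha0, map_mul, map_pow, ← hnd, ← hp1, pow_succ, hp1]; ring
  have hDpow : ∀ b : K, D (b ^ p) = 0 := by
    intro b
    rw [Derivation.leibniz_pow, ← Nat.cast_smul_eq_nsmul K, CharP.cast_eq_zero K p, zero_smul]
  have hDa0 : D (algebraMap R K a0) = (algebraMap R K d) ^ p * D a := by
    rw [ha0K, Derivation.leibniz, hDpow, smul_zero, add_zero, smul_eq_mul]
  obtain ⟨s, hs⟩ := hD a0
  have hs0 : s ≠ 0 := by
    rintro rfl
    rw [map_zero, hDa0] at hs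
    exact (mul_ne_zero (pow_ne_zero _ hdK) ha) hs
  set x' : L := algebraMap R L d * x with hx'
  have hx'p : x' ^ p = algebraMap R L a0 := by
    rw [hx', mul_pow, hx, IsScalarTower.algebraMap_apply R K L a0, ha0K, map_mul, map_pow,
      ← IsScalarTower.algebraMap_apply]
  have hgen' : IntermediateField.adjoin K {x'} = ⊤ := by
    rw [eq_top_iff, ← hgen, IntermediateField.adjoin_simple_le_iff]
    have h1 : x' ∈ IntermediateField.adjoin K {x'} := IntermediateField.mem_adjoin_simple_self K x'
    have h2 : algebraMap R L d ∈ IntermediateField.adjoin K {x'} := by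
      rw [IsScalarTower.algebraMap_apply R K L]
      exact IntermediateField.algebraMap_mem _ _
    have h3 : x = (algebraMap R L d)⁻¹ * x' := by
      rw [hx', ← mul_assoc, inv_mul_cancel₀ hdL, one_mul]
    rw [h3]
    exact mul_mem (inv_mem h2) h1
  exact finite_of_mem p D hD a0 s hs hs0 x' hx'p hgen'

end core

end Groth.Agent.H8.Jap
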