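import Mathlib
import Groth.Agent.Lib.Helper8.Japanese.NagLoc
import Groth.Agent.Lib.Helper5.LocICCover

namespace Groth.Agent.H8.Jap.NagCover
universe u

open Groth.Agent.H8.Jap

/-- Nagata is local on a finite principal cover. -/
theorem isNagata_of_span_eq_top (R : Type u) [CommRing R] (s : Finset R)
    (hs : Ideal.span (s : Set R) = ⊤)
    (Rf : s → Type u) [∀ i, CommRing (Rf i)] [∀ i, Algebra R (Rf i)]
    [∀ i : s, IsLocalization.Away (i : R) (Rf i)]
    (h : ∀ i, CAlg.IsNagata (Rf i)) : CAlg.IsNagata R := by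
  classical
  have hNoeth : IsNoetherianRing R := by
    refine AlgebraicGeometry.isNoetherianRing_of_away s hs (fun i => ?_)
    haveI := (h i).1
    exact isNoetherianRing_of_ringEquiv (Rf i)
      (IsLocalization.algEquiv (.powers (i : R)) (Rf i) (Localization.Away (i : R))).toRingEquiv
  refine ⟨hNoeth, fun p hp => ?_⟩
  let ι := {i : s // (i : R) ∉ p}
  let f : ι → R ⧸ p := fun i => Ideal.Quotient.mk p (i.1 : R)
  have hf : Ideal.span (Set.range f) = ⊤ := by
    have h1 : Ideal.map (Ideal.Quotient.mk p) (Ideal.span (s : Set R)) = ⊤ := by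
      rw [hs, Ideal.map_top]
    rw [Ideal.map_span] at h1
    rw [eq_top_iff, ← h1, Ideal.span_le]
    rintro _ ⟨x, hx, rfl⟩
    by_cases hxp : x ∈ p
    · rw [Ideal.Quotient.eq_zero_iff_mem.mpr hxp]
      exact Ideal.zero_mem _
    · exact Ideal.subset_span ⟨⟨⟨x, hx⟩, hxp⟩, rfl⟩
  have hprime : ∀ i : ι, (p.map (algebraMap R (Rf i.1))).IsPrime := fun i =>
    IsLocalization.isPrime_of_isPrime_disjoint (.powers (i.1 : R)) (Rf i.1) p hp (by
      rw [Set.disjoint_left]
      rintro _ ⟨n, rfl⟩ hn
      exact i.2 (hp.mem_of_pow_mem n hn))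
  let Rf' : ι → Type u := fun i => Rf i.1 ⧸ p.map (algebraMap R (Rf i.1))
  haveI : ∀ i, IsDomain (Rf' i) := fun i =>
    (Ideal.Quotient.isDomain_iff_prime _).mpr (hprime i)
  haveI : ∀ i, IsLocalization.Away (f i) (Rf' i) := fun i => by
    have h1 : IsLocalization (Algebra.algebraMapSubmonoid (R ⧸ p) (.powers (i.1 : R))) (Rf' i) :=
      inferInstance
    have h2 : Algebra.algebraMapSubmonoid (R ⧸ p) (.powers (i.1 : R)) = .powers (f i) := by
      simp only [Algebra.algebraMapSubmonoid, Submonoid.map_powers]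
      rfl
    rw [h2] at h1
    exact h1
  refine Groth.Agent.H5.isN2_of_span_eq_top (R ⧸ p) f hf Rf' (fun i => ?_)
  haveI := hprime i
  exact (h i.1).2 (p.map (algebraMap R (Rf i.1)))

/-- Universally Japanese is local on a finite principal cover. -/
theorem isUniversallyJapanese_of_span_eq_top (R : Type u) [CommRing R] (s : Finset R)
    (hs : Ideal.span (s : Set R) = ⊤)
    (Rf : s → Type u) [∀ i, CommRing (Rf i)] [∀ i, Algebra R (Rf i)]
    [∀ i : s, IsLocalization.Away (i : R) (Rf i)]
    (h : ∀ i, CAlg.IsUniversallyJapanese (Rf i)) : CAlg.IsUniversallyJapanese R := by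
  classical
  intro S _ _ _ hft
  let ι := {i : s // algebraMap R S (i : R) ≠ 0}
  let f : ι → S := fun i => algebraMap R S (i.1 : R)
  have hf : Ideal.span (Set.range f) = ⊤ := by
    have h1 : Ideal.map (algebraMap R S) (Ideal.span (s : Set R)) = ⊤ := by
      rw [hs, Ideal.map_top]
    rw [Ideal.map_span] at h1
    rw [eq_top_iff, ← h1, Ideal.span_le]
    rintro _ ⟨x, hx, rfl⟩
    by_cases hxp : algebraMap R S x = 0
    · rw [hxp]
      exact Ideal.zero_mem _
    · exact Ideal.subset_span ⟨⟨⟨x, hx⟩, hxp⟩, rfl⟩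
  let Sf : ι → Type u := fun i => Localization.Away (f i)
  haveI : ∀ i, IsDomain (Sf i) := fun i =>
    IsLocalization.isDomain_localization (powers_le_nonZeroDivisors_of_noZeroDivisors i.2)
  letI alg : ∀ i, Algebra (Rf i.1) (Sf i) := fun i =>
    (IsLocalization.Away.lift (i.1 : R) (g := algebraMap R (Sf i)) (by
      rw [IsScalarTower.algebraMap_apply R S (Sf i)]
      exact IsLocalization.Away.algebraMap_isUnit (f i))).toAlgebra
  haveI tower : ∀ i, IsScalarTower R (Rf i.1) (Sf i) := fun i =>
    IsScalarTower.of_algebraMap_eq (fun r => (IsLocalization.Away.lift_eq _ _ r).symm)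
  refine Groth.Agent.H5.isN2_of_span_eq_top S f hf Sf (fun i => ?_)
  refine h i.1 (Sf i) ?_
  haveI : Algebra.FinitePresentation S (Sf i) := IsLocalization.Away.finitePresentation (f i)
  haveI : Algebra.FiniteType S (Sf i) := Algebra.FiniteType.of_finitePresentation
  haveI : Algebra.FiniteType R (Sf i) := Algebra.FiniteType.trans hft inferInstance
  exact Algebra.FiniteType.of_restrictScalars_finiteType R (Rf i.1) (Sf i)

/-- Universally Japanese passes to a principal localization. -/
theorem isUniversallyJapanese_of_away (R : Type u) [CommRing R]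
    (hR : CAlg.IsUniversallyJapanese R) (f : R) (Rf : Type u) [CommRing Rf] [Algebra R Rf]
    [IsLocalization.Away f Rf] : CAlg.IsUniversallyJapanese Rf := by
  intro S _ _ _ hft
  letI : Algebra R S := ((algebraMap Rf S).comp (algebraMap R Rf)).toAlgebra
  haveI : IsScalarTower R Rf S := IsScalarTower.of_algebraMap_eq (fun _ => rfl)
  haveI : Algebra.FinitePresentation R Rf := IsLocalization.Away.finitePresentation f
  haveI : Algebra.FiniteType R Rf := Algebra.FiniteType.of_finitePresentation
  exact hR S (Algebra.FiniteType.trans ‹Algebra.FiniteType R Rf› hft)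

/-- N-2 is local on a finite principal cover (version with possibly zero elements). -/
theorem isN2_of_span_eq_top' (R : Type u) [CommRing R] [IsDomain R] (s : Finset R)
    (hs : Ideal.span (s : Set R) = ⊤)
    (Rf : s → Type u) [∀ i, CommRing (Rf i)] [∀ i, Algebra R (Rf i)]
    [∀ i : s, IsLocalization.Away (i : R) (Rf i)]
    (h : ∀ i, ∀ [IsDomain (Rf i)], CAlg.IsN2 (Rf i)) : CAlg.IsN2 R := by
  classical
  let ι := {i : s // (i : R) ≠ 0}
  let f : ι → R := fun i => (i.1 : R)
  have hf : Ideal.span (Set.range f) = ⊤ := by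
    rw [eq_top_iff, ← hs, Ideal.span_le]
    intro x hx
    by_cases hxp : x = 0
    · rw [hxp]
      exact Ideal.zero_mem _
    · exact Ideal.subset_span ⟨⟨⟨x, hx⟩, hxp⟩, rfl⟩
  haveI : ∀ i : ι, IsDomain (Rf i.1) := fun i =>
    IsLocalization.isDomain_of_le_nonZeroDivisors (Rf i.1) (M := .powers (i.1 : R))
      (powers_le_nonZeroDivisors_of_noZeroDivisors i.2)
  exact Groth.Agent.H5.isN2_of_span_eq_top R f hf (fun i => Rf i.1) (fun i => h i.1)

end Groth.Agent.H8.Jap.NagCover
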