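import Mathlib
import Groth.Agent.Lib.Helper8.Japanese.NagCover

namespace Groth.Agent.H8.Jap.NagScheme
universe u
open AlgebraicGeometry CategoryTheory

theorem isNagata_affineOpen_of_cover (X : Scheme.{u}) {ι : Type*} (U : ι → X.affineOpens)
    (hU : (⨆ i, (U i : X.Opens)) = ⊤) (hN : ∀ i, CAlg.IsNagata Γ(X, U i))
    (V : X.affineOpens) : CAlg.IsNagata Γ(X, V) := by
  refine of_affine_open_cover (P := fun W => CAlg.IsNagata Γ(X, W)) U hU V ?_ ?_ hN
  · intro W f hW
    haveI := W.2.isLocalization_basicOpen f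
    exact isNagata_of_isLocalization Γ(X, W) hW (.powers f) Γ(X, X.basicOpen f)
  · intro W s hs h
    haveI : ∀ i : s, IsLocalization.Away (i : Γ(X, W)) Γ(X, X.basicOpen (i : Γ(X, W))) :=
      fun i => W.2.isLocalization_basicOpen i.1
    exact NagCover.isNagata_of_span_eq_top Γ(X, W) s hs
      (fun i => Γ(X, X.basicOpen (i : Γ(X, W)))) h

theorem isUniversallyJapanese_affineOpen_of_cover (X : Scheme.{u}) {ι : Type*}
    (U : ι → X.affineOpens)
    (hU : (⨆ i, (U i : X.Opens)) = ⊤) (hN : ∀ i, CAlg.IsUniversallyJapanese Γ(X, U i))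
    (V : X.affineOpens) : CAlg.IsUniversallyJapanese Γ(X, V) := by
  refine of_affine_open_cover (P := fun W => CAlg.IsUniversallyJapanese Γ(X, W)) U hU V ?_ ?_ hN
  · intro W f hW
    haveI := W.2.isLocalization_basicOpen f
    exact NagCover.isUniversallyJapanese_of_away Γ(X, W) hW f Γ(X, X.basicOpen f)
  · intro W s hs h
    haveI : ∀ i : s, IsLocalization.Away (i : Γ(X, W)) Γ(X, X.basicOpen (i : Γ(X, W))) :=
      fun i => W.2.isLocalization_basicOpen i.1
    exact NagCover.isUniversallyJapanese_of_span_eq_top Γ(X, W) s hs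
      (fun i => Γ(X, X.basicOpen (i : Γ(X, W)))) h

theorem isN2_affineOpen_of_cover (X : Scheme.{u}) [IsIntegral X] {ι : Type*}
    (U : ι → X.affineOpens)
    (hU : (⨆ i, (U i : X.Opens)) = ⊤)
    (hN : ∀ i, ∀ [IsDomain Γ(X, U i)], CAlg.IsN2 Γ(X, U i))
    (V : X.affineOpens) : ∀ [IsDomain Γ(X, V)], CAlg.IsN2 Γ(X, V) := by
  refine of_affine_open_cover (P := fun W => ∀ [IsDomain Γ(X, W)], CAlg.IsN2 Γ(X, W)) U hU V
    ?_ ?_ hN
  · intro W f hW hdom
    haveI := W.2.isLocalization_basicOpen f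
    haveI hdom' : IsDomain Γ(X, X.basicOpen f) := hdom
    haveI : Nonempty (X.basicOpen f) := by
      by_contra hne
      rw [not_nonempty_iff] at hne
      have : (X.basicOpen f) = ⊥ := by
        ext x
        simp only [TopologicalSpace.Opens.coe_bot, Set.mem_empty_iff_false, iff_false]
        intro hx
        exact hne.false ⟨x, hx⟩
      have h1 : Subsingleton Γ(X, X.basicOpen f) := by
        rw [this]
        exact CommRingCat.subsingleton_of_isTerminal X.sheaf.isTerminalOfEmpty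
      exact not_subsingleton Γ(X, X.basicOpen f) h1
    haveI : Nonempty W := by
      obtain ⟨x⟩ := this
      exact ⟨⟨x.1, X.basicOpen_le f x.2⟩⟩
    exact Groth.Agent.H5.isN2_of_isLocalization Γ(X, W) (.powers f) Γ(X, X.basicOpen f) hW
  · intro W s hs h hdom
    haveI : ∀ i : s, IsLocalization.Away (i : Γ(X, W)) Γ(X, X.basicOpen (i : Γ(X, W))) :=
      fun i => W.2.isLocalization_basicOpen i.1
    exact NagCover.isN2_of_span_eq_top' Γ(X, W) s hs
      (fun i => Γ(X, X.basicOpen (i : Γ(X, W)))) (fun i hd => @h i hd)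

end Groth.Agent.H8.Jap.NagScheme
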