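import Mathlib
import Groth.Agent.Lib.Helper8.Japanese.NagScheme
import Groth.Agent.Lib.Helper8.Japanese.FiniteExt

/-!
# Nagata schemes via integral closed subschemes (helper8; S9802)
-/

set_option autoImplicit false

namespace Groth.Agent.H8.Jap.NagClosedSub
universe u
open AlgebraicGeometry CategoryTheory TopologicalSpace

theorem forward (X : Scheme.{u})
    (hNag : ∀ U : X.Opens, IsAffineOpen U → CAlg.IsNagata Γ(X, U))
    (Z : Scheme.{u}) (i : Z ⟶ X) [IsClosedImmersion i] [IsIntegral Z] (V : Z.Opens) [Nonempty V]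
    (hV : IsAffineOpen V) : CAlg.IsN2 Γ(Z, V) := by
  have hcover : (⨆ W : X.affineOpens,
      ((⟨i ⁻¹ᵁ W.1, W.2.preimage i⟩ : Z.affineOpens) : Z.Opens)) = ⊤ := by
    rw [eq_top_iff]
    intro z _
    obtain ⟨W, hW, hzW, -⟩ := exists_isAffineOpen_mem_and_subset (x := i z) (U := ⊤) trivial
    exact Opens.mem_iSup.mpr ⟨⟨W, hW⟩, hzW⟩
  have key := NagScheme.isN2_affineOpen_of_cover Z (ι := X.affineOpens)
    (fun W => ⟨i ⁻¹ᵁ W.1, W.2.preimage i⟩) hcover ?_ ⟨V, hV⟩
  · exact key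
  · intro W hdom
    have hsurj : Function.Surjective (i.app W.1).hom := i.app_surjective W.1 W.2
    haveI : IsDomain Γ(Z, i ⁻¹ᵁ W.1) := hdom
    haveI : (RingHom.ker (i.app W.1).hom).IsPrime := RingHom.ker_isPrime _
    have h1 : CAlg.IsN2 (Γ(X, W.1) ⧸ RingHom.ker (i.app W.1).hom) := (hNag W.1 W.2).2 _
    exact isN2_of_ringEquiv (RingHom.quotientKerEquivOfSurjective hsurj) h1

/-- the ideal sheaf of the reduced induced structure on the closure of a point -/
noncomputable abbrev ptIdeal (X : Scheme.{u}) (x : X) : X.IdealSheafData :=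
  Scheme.IdealSheafData.vanishingIdeal ⟨closure {x}, isClosed_closure⟩

theorem ptIdeal_ideal {X : Scheme.{u}} {U : X.Opens} (hU : IsAffineOpen U)
    (𝔭 : PrimeSpectrum Γ(X, U)) :
    (ptIdeal X (hU.fromSpec 𝔭)).ideal ⟨U, hU⟩ = 𝔭.asIdeal := by
  rw [Scheme.IdealSheafData.vanishingIdeal_ideal]
  change PrimeSpectrum.vanishingIdeal (hU.fromSpec ⁻¹' closure {hU.fromSpec 𝔭}) = _
  have h1 : hU.fromSpec ⁻¹' closure {hU.fromSpec 𝔭} = closure {𝔭} := by
    rw [hU.fromSpec.isOpenEmbedding.isOpenMap.preimage_closure_eq_closure_preimage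
      hU.fromSpec.continuous]
    congr 1
    ext q
    simp only [Set.mem_preimage, Set.mem_singleton_iff]
    exact ⟨fun h => hU.fromSpec.isOpenEmbedding.injective h, fun h => by rw [h]⟩
  exact (congrArg PrimeSpectrum.vanishingIdeal h1).trans
    (by rw [PrimeSpectrum.vanishingIdeal_closure, PrimeSpectrum.vanishingIdeal_singleton])

instance (X : Scheme.{u}) (x : X) : IrreducibleSpace (ptIdeal X x).subscheme :=
  Subtype.irreducibleSpace (s := closure {x}) isIrreducible_singleton.closure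

instance (X : Scheme.{u}) (x : X) : IsReduced (ptIdeal X x).subscheme := by
  haveI : ∀ W, IsReduced ((ptIdeal X x).subschemeCover.openCover.X W) := by
    intro W
    change IsReduced (Spec (CommRingCat.of (Γ(X, W.1) ⧸ (ptIdeal X x).ideal W)))
    haveI : _root_.IsReduced (Γ(X, W.1) ⧸ (ptIdeal X x).ideal W) := by
      rw [← Ideal.isRadical_iff_quotient_reduced, Scheme.IdealSheafData.vanishingIdeal_ideal]
      exact PrimeSpectrum.isRadical_vanishingIdeal _
    infer_instance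
  exact IsReduced.of_openCover _ (ptIdeal X x).subschemeCover.openCover

instance (X : Scheme.{u}) (x : X) : IsIntegral (ptIdeal X x).subscheme :=
  isIntegral_of_irreducibleSpace_of_isReduced _

theorem backward (X : Scheme.{u}) [IsLocallyNoetherian X]
    (hJ : ∀ (Z : Scheme.{u}) (i : Z ⟶ X) [IsClosedImmersion i] [IsIntegral Z]
      (V : Z.Opens) [Nonempty V], IsAffineOpen V → CAlg.IsN2 Γ(Z, V))
    (U : X.Opens) (hU : IsAffineOpen U) : CAlg.IsNagata Γ(X, U) := by
  refine ⟨IsLocallyNoetherian.component_noetherian ⟨U, hU⟩, ?_⟩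
  intro p hp
  haveI := hp
  have hxU : hU.fromSpec ⟨p, hp⟩ ∈ U := by
    have h1 := Set.mem_range_self (f := hU.fromSpec) ⟨p, hp⟩
    rwa [hU.range_fromSpec] at h1
  have hV : IsAffineOpen ((ptIdeal X (hU.fromSpec ⟨p, hp⟩)).subschemeι ⁻¹ᵁ U) :=
    hU.preimage _
  haveI : Nonempty ((ptIdeal X (hU.fromSpec ⟨p, hp⟩)).subschemeι ⁻¹ᵁ U) :=
    ⟨⟨(⟨hU.fromSpec ⟨p, hp⟩, subset_closure (Set.mem_singleton _)⟩ :
      ↥(closure {hU.fromSpec ⟨p, hp⟩})), hxU⟩⟩
  have h2 := hJ _ (ptIdeal X (hU.fromSpec ⟨p, hp⟩)).subschemeι _ hV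
  exact isN2_of_ringEquiv
    (((ptIdeal X (hU.fromSpec ⟨p, hp⟩)).subschemeObjIso ⟨U, hU⟩).commRingCatIsoToRingEquiv.trans
      (Ideal.quotEquivOfEq (ptIdeal_ideal hU ⟨p, hp⟩))) h2

theorem main (X : Scheme.{u}) [IsLocallyNoetherian X] :
    (∀ U : X.Opens, IsAffineOpen U → CAlg.IsNagata Γ(X, U)) ↔
      ∀ (Z : Scheme.{u}) (i : Z ⟶ X) [IsClosedImmersion i] [IsIntegral Z]
        (V : Z.Opens) [Nonempty V], IsAffineOpen V → CAlg.IsN2 Γ(Z, V) :=
  ⟨fun h Z i _ _ V _ hV => forward X h Z i V hV, fun h U hU => backward X h U hU⟩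

end Groth.Agent.H8.Jap.NagClosedSub
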