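import Mathlib
import Groth.Prelude.Def_EGA4b
import Groth.Agent.Lib.Helper8.Japanese.QE3
import Groth.Agent.Lib.Helper8.Japanese.PurelyInsep
import Groth.Agent.Lib.Helper8.Japanese.NagLoc

namespace Groth.Agent.H8.Jap.QE
open IsLocalRing TensorProduct
universe u

/-- Finiteness of the integral closure in `L` from N-1 of finite subalgebras with fraction
field `L`. -/
theorem finite_integralClosure_of_subalgebra_isN1 (A : Type u) [CommRing A] [IsDomain A]
    [IsNoetherianRing A] (L : Type u) [Field L] [Algebra A L] [Algebra (FractionRing A) L]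
    [IsScalarTower A (FractionRing A) L] [FiniteDimensional (FractionRing A) L]
    (h : ∀ (B : Subalgebra A L), Module.Finite A B → IsFractionRing B L → CAlg.IsN1 B) :
    Module.Finite A (integralClosure A L) := by
  obtain ⟨s, b, hb⟩ := FiniteDimensional.exists_is_basis_integral A (FractionRing A) L
  let B := Algebra.adjoin A (Set.range b)
  haveI hfinB' : Module.Finite A B := Module.Finite.iff_fg.mpr
    (fg_adjoin_of_finite (Set.finite_range b) (by rintro _ ⟨i, rfl⟩; exact hb i))
  have hinjL : Function.Injective (algebraMap A L) := by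
    rw [IsScalarTower.algebraMap_eq A (FractionRing A) L]
    exact (algebraMap (FractionRing A) L).injective.comp
      (IsFractionRing.injective A (FractionRing A))
  haveI hfrac : IsFractionRing B L := by
    apply IsFractionRing.of_field
    intro z
    obtain ⟨d, hd, hdz⟩ := AUK.exists_smul_mem_adjoin A (FractionRing A) L (Set.range b)
      b.span_eq z
    refine ⟨⟨d • z, hdz⟩, algebraMap A B d, ?_⟩
    have hd' : algebraMap A L d ≠ 0 := fun h0 => hd (hinjL (by rw [h0, map_zero]))
    show z = (d • z) / algebraMap A L d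
    rw [Algebra.smul_def, mul_div_cancel_left₀ _ hd']
  have hN1 : CAlg.IsN1 B := h B hfinB' hfrac
  have hfinB : Module.Finite B (integralClosure B L) := (H5.isN1_iff B L).mp hN1
  haveI : Module.Finite A (integralClosure B L) := Module.Finite.trans B _
  haveI : IsNoetherian A (integralClosure B L) := isNoetherian_of_isNoetherianRing_of_finite A _
  let f : integralClosure A L →ₗ[A] integralClosure B L :=
    { toFun := fun x => ⟨x.1, IsIntegral.tower_top x.2⟩
      map_add' := fun _ _ => rfl
      map_smul' := fun _ _ => rfl }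
  refine Module.Finite.of_injective f (fun x y hxy => Subtype.ext ?_)
  have := congrArg (fun w : integralClosure B L => (w : L)) hxy
  exact this

theorem isNagata_iff_local (A : Type u) [CommRing A] [IsNoetherianRing A] :
    CAlg.IsNagata A ↔
      ((∀ (m : Ideal A) [m.IsMaximal] (P : Ideal (Localization.AtPrime m)) [P.IsPrime],
          CAlg.IsN2 (Localization.AtPrime m ⧸ P)) ∧
        ∀ (p : Ideal A) [p.IsPrime] (K' : Type u) [Field K'] [Algebra (A ⧸ p) K']
          [Algebra (FractionRing (A ⧸ p)) K'] [IsScalarTower (A ⧸ p) (FractionRing (A ⧸ p)) K']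
          [FiniteDimensional (FractionRing (A ⧸ p)) K'] [IsPurelyInseparable (FractionRing (A ⧸ p)) K']
          (B' : Subalgebra (A ⧸ p) K'), Module.Finite (A ⧸ p) B' → IsFractionRing B' K' →
            ∃ f : B', f ≠ 0 ∧ IsIntegrallyClosed (Localization.Away f)) := by
  constructor
  · intro hA
    refine ⟨fun m _ P _ => ?_, fun p _ K' _ _ _ _ _ _ B' hfin hfrac => ?_⟩
    · exact (isNagata_of_isLocalization A hA m.primeCompl (Localization.AtPrime m)).2 P
    · haveI := hfin
      have hNp : CAlg.IsNagata (A ⧸ p) := AUK.isNagata_of_finite A (A ⧸ p) hA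
      have hNB : CAlg.IsNagata B' := AUK.isNagata_of_finite (A ⧸ p) B' hNp
      haveI : IsNoetherianRing B' := hNB.1
      have hN1 : CAlg.IsN1 B' := AUK.isN1_of_isN2 _ (NagFT.isN2_of_isNagata_of_isDomain _ hNB)
      exact (isN1_iff_local.mp hN1).1
  · rintro ⟨h1, h2⟩
    refine ⟨inferInstance, fun p _ => ?_⟩
    refine isN2_of_purelyInseparable (A ⧸ p) (fun K' _ _ _ _ hfd hpi => ?_)
    haveI := hfd
    haveI := hpi
    refine finite_integralClosure_of_subalgebra_isN1 (A ⧸ p) K' (fun B hfin hfrac => ?_)
    haveI := hfin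
    letI : Algebra A B := ((algebraMap (A ⧸ p) B).comp (Ideal.Quotient.mk p)).toAlgebra
    haveI : IsScalarTower A (A ⧸ p) B := IsScalarTower.of_algebraMap_eq (fun _ => rfl)
    haveI : Module.Finite A B := Module.Finite.trans (A ⧸ p) B
    haveI : IsNoetherianRing B := IsNoetherianRing.of_finite A B
    rw [isN1_iff_local]
    refine ⟨h2 p K' B hfin hfrac, fun n _ => ?_⟩
    haveI : Algebra.IsIntegral A B := Algebra.IsIntegral.of_finite A B
    haveI : (n.comap (algebraMap A B)).IsMaximal :=
      Ideal.isMaximal_comap_of_isIntegral_of_isMaximal n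
    refine isN1_atPrime_of_isNagata_localization A B n ⟨?_, fun P _ => h1 _ P⟩
    exact IsLocalization.isNoetherianRing (n.comap (algebraMap A B)).primeCompl _ inferInstance

end Groth.Agent.H8.Jap.QE
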