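import Mathlib
import Groth.Prelude.Def_Found
import Groth.Agent.Lib.Helper5.LocICCover
import Groth.Agent.Lib.Helper8.Japanese.FiniteExt
set_option autoImplicit false
universe u
open Module

namespace Groth.Agent.H8.Jap

attribute [local instance] FractionRing.liftAlgebra in
/-- the integral closure of `R` in a finite type algebraic extension domain is finite, if `R` is N-2 -/
theorem finite_integralClosure_in_algebra {R S : Type u} [CommRing R] [IsDomain R]
    [IsNoetherianRing R] [CommRing S] [IsDomain S] [Algebra R S]
    (hinj : Function.Injective (algebraMap R S)) [Algebra.FiniteType R S]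
    [Algebra.IsAlgebraic R S] (hR : CAlg.IsN2 R) :
    Module.Finite R (integralClosure R S) := by
  classical
  haveI : FaithfulSMul R S := (faithfulSMul_iff_algebraMap_injective R S).mpr hinj
  let K := FractionRing R
  let L := FractionRing S
  haveI : Algebra.IsAlgebraic R L := (IsFractionRing.isAlgebraic_iff' R S L).mp inferInstance
  haveI : Algebra.IsAlgebraic K L := (IsFractionRing.comap_isAlgebraic_iff (A := R) (K := K)).mp inferInstance
  -- finite generation
  obtain ⟨G, hG⟩ := (Algebra.FiniteType.out : (⊤ : Subalgebra R S).FG)
  let G' : Set L := (algebraMap S L) '' (G : Set S)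
  haveI : Finite G' := Set.Finite.image _ G.finite_toSet
  have hadj : IntermediateField.adjoin K G' = ⊤ := by
    rw [eq_top_iff]
    intro z _
    obtain ⟨a, b, hb, rfl⟩ := IsFractionRing.div_surjective (A := S) z
    have hS : ∀ s : S, algebraMap S L s ∈ IntermediateField.adjoin K G' := by
      intro s
      have hs : s ∈ Algebra.adjoin R (G : Set S) := hG ▸ Algebra.mem_top
      induction hs using Algebra.adjoin_induction with
      | mem x hx => exact IntermediateField.subset_adjoin K G' ⟨x, hx, rfl⟩
      | algebraMap r =>
        rw [← IsScalarTower.algebraMap_apply R S L, IsScalarTower.algebraMap_apply R K L]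
        exact IntermediateField.algebraMap_mem _ _
      | add x y _ _ hx hy => rw [map_add]; exact add_mem hx hy
      | mul x y _ _ hx hy => rw [map_mul]; exact mul_mem hx hy
    exact div_mem (hS a) (hS b)
  haveI : FiniteDimensional K (IntermediateField.adjoin K G') :=
    IntermediateField.finiteDimensional_adjoin
      (fun x _ => (Algebra.IsAlgebraic.isAlgebraic (R := K) x).isIntegral)
  haveI : FiniteDimensional K L := by
    have e : (⊤ : IntermediateField K L) ≃ₗ[K] L := IntermediateField.topEquiv.toLinearEquiv
    rw [hadj] at *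
    exact Module.Finite.equiv e
  have h1 : Module.Finite R (integralClosure R L) := hR L inferInstance
  haveI : IsNoetherian R (integralClosure R L) := isNoetherian_of_isNoetherianRing_of_finite R _
  let f : integralClosure R S →ₗ[R] integralClosure R L :=
    LinearMap.codRestrict (Subalgebra.toSubmodule (integralClosure R L))
      ((IsScalarTower.toAlgHom R S L).toLinearMap.comp (integralClosure R S).val.toLinearMap)
      (fun x => IsIntegral.map (IsScalarTower.toAlgHom R S L) x.2)
  refine Module.Finite.of_injective f ?_
  intro x y hxy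
  have : algebraMap S L x.1 = algebraMap S L y.1 := congrArg Subtype.val hxy
  exact Subtype.ext (IsFractionRing.injective S L this)

/-- a quasi-finite finite type extension domain of a Noetherian N-2 domain is N-2 -/
theorem isN2_of_quasiFinite_extension {R S : Type u} [CommRing R] [IsDomain R] [IsNoetherianRing R]
    [CommRing S] [IsDomain S] [Algebra R S] (hinj : Function.Injective (algebraMap R S))
    [Algebra.FiniteType R S] [Algebra.QuasiFinite R S] (hR : CAlg.IsN2 R) : CAlg.IsN2 S := by
  classical
  -- ZMT at every prime
  have hZ : ∀ (p : Ideal S) [p.IsPrime], Algebra.ZariskisMainProperty R p :=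
    fun p _ => Algebra.ZariskisMainProperty.of_finiteType p
  -- S is algebraic over R
  haveI : Algebra.IsAlgebraic R S := by
    obtain ⟨r, hr0, hri, hr⟩ := Algebra.zariskisMainProperty_iff.mp (hZ ⊥)
    have hr0' : r ≠ 0 := fun h => hr0 (h ▸ Ideal.zero_mem _)
    refine ⟨fun x => ?_⟩
    obtain ⟨m, hm⟩ := hr x
    have h1 : IsAlgebraic R (r ^ m * x) := hm.isAlgebraic
    have h2 : IsAlgebraic R (r ^ m) := (hri.pow m).isAlgebraic
    have h3 : r ^ m ∈ nonZeroDivisors S := mem_nonZeroDivisors_of_ne_zero (pow_ne_zero m hr0')
    exact IsAlgebraic.of_mul h3 h2 h1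
  haveI hfin : Module.Finite R (integralClosure R S) := finite_integralClosure_in_algebra hinj hR
  haveI : IsNoetherianRing (integralClosure R S) := IsNoetherianRing.of_finite R _
  have hinj' : Function.Injective (algebraMap R (integralClosure R S)) := by
    intro a b hab
    exact hinj (congrArg Subtype.val hab)
  have hR' : CAlg.IsN2 (integralClosure R S) := isN2_of_finite_injective R _ hinj' hR
  -- local pieces
  have hloc : ∀ (p : Ideal S) [p.IsPrime], ∃ r : S, r ∉ p ∧
      ∃ (_ : IsDomain (Localization.Away r)), CAlg.IsN2 (Localization.Away r) := by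
    intro p _
    obtain ⟨r, hrp, hbij⟩ := hZ p
    refine ⟨r.1, hrp, ?_⟩
    have hr0 : r ≠ 0 := by
      rintro rfl
      exact hrp (Ideal.zero_mem _)
    have hr0' : (r : S) ≠ 0 := fun h => hr0 (Subtype.ext h)
    haveI : IsDomain (Localization.Away r) :=
      IsLocalization.isDomain_localization (powers_le_nonZeroDivisors_of_noZeroDivisors hr0)
    haveI : IsDomain (Localization.Away (r : S)) :=
      IsLocalization.isDomain_localization (powers_le_nonZeroDivisors_of_noZeroDivisors hr0')
    have h1 : CAlg.IsN2 (Localization.Away r) :=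
      Groth.Agent.H5.isN2_of_isLocalization _ (Submonoid.powers r) _ hR'
    exact ⟨inferInstance, isN2_of_ringEquiv (RingEquiv.ofBijective _ hbij) h1⟩
  choose r hrp hrD hrN using hloc
  let s : Set S := {x | ∃ (p : Ideal S) (hp : p.IsPrime), x = @r p hp}
  have hs : Ideal.span s = ⊤ := by
    by_contra hne
    obtain ⟨m, hm, hle⟩ := Ideal.exists_le_maximal _ hne
    haveI := hm.isPrime
    exact hrp m (hle (Ideal.subset_span ⟨m, hm.isPrime, rfl⟩))
  obtain ⟨s', hs's, hs'⟩ := (Ideal.span_eq_top_iff_finite s).mp hs
  have hN : ∀ i : s', ∃ (_ : IsDomain (Localization.Away (i : S))),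
      CAlg.IsN2 (Localization.Away (i : S)) := by
    intro i
    obtain ⟨p, hp, hi⟩ := hs's i.2
    rw [hi]
    exact ⟨@hrD p hp, @hrN p hp⟩
  choose hD hN' using hN
  haveI := hD
  refine Groth.Agent.H5.isN2_of_span_eq_top S (fun i : s' => (i : S)) ?_
    (fun i => Localization.Away (i : S)) (fun i => hN' i)
  rw [Subtype.range_coe_subtype]
  exact hs'

end Groth.Agent.H8.Jap
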