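import Mathlib
import Groth.Prelude.Def_Found
import Groth.Agent.Lib.Helper8.Japanese.NormFin5
import Groth.Agent.Lib.Helper5.CA.GR3
import Groth.Agent.Lib.Helper5.CA.RegHom1
import Groth.Agent.Lib.Helper1.RegFlat

namespace Groth.Agent.H8.Jap.SmoothDesc
open TensorProduct
universe u

/-- **Stacks 0335-type**: the Nagata property descends along smooth ring maps surjective on
spectra. -/
theorem isNagata_of_smooth_of_comap_surjective (R S : Type u) [CommRing R] [CommRing S]
    [Algebra R S] [Algebra.Smooth R S]
    (hs : Function.Surjective (PrimeSpectrum.comap (algebraMap R S))) (hS : CAlg.IsNagata S) :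
    CAlg.IsNagata R := by
  haveI := hS.1
  haveI : Module.Flat R S := inferInstance
  haveI : Module.FaithfullyFlat R S := Module.FaithfullyFlat.of_comap_surjective hs
  haveI : IsNoetherianRing R := Groth.Agent.H1.RegFlat.isNoetherianRing_of_faithfullyFlat R S
  refine ⟨inferInstance, fun p _ => ?_⟩
  intro L _ _ _ _ hfin
  haveI := hfin
  letI : Algebra R L := ((algebraMap (R ⧸ p) L).comp (Ideal.Quotient.mk p)).toAlgebra
  haveI : IsScalarTower R (R ⧸ p) L := IsScalarTower.of_algebraMap_eq (fun _ => rfl)
  suffices h : Module.Finite R (integralClosure (R ⧸ p) L) from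
    Module.Finite.of_restrictScalars_finite R (R ⧸ p) _
  -- essential finiteness of L over R
  haveI : Algebra.EssFiniteType (R ⧸ p) (FractionRing (R ⧸ p)) :=
    Algebra.EssFiniteType.of_isLocalization (FractionRing (R ⧸ p)) (nonZeroDivisors (R ⧸ p))
  haveI : Algebra.EssFiniteType (R ⧸ p) L :=
    Algebra.EssFiniteType.comp (R ⧸ p) (FractionRing (R ⧸ p)) L
  haveI : Algebra.EssFiniteType R L := Algebra.EssFiniteType.comp R (R ⧸ p) L
  haveI : IsNoetherianRing (S ⊗[R] L) :=
    Groth.Agent.H1.RegFlat.isNoetherianRing_of_essFiniteType S (S ⊗[R] L)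
  haveI : IsRegularRing (L ⊗[R] S) := Groth.Agent.H5.RegHom.isRegularRing_of_smooth_field L (L ⊗[R] S)
  haveI : IsReduced (L ⊗[R] S) := Groth.Agent.H5.GR.isReduced_of_isRegularRing _
  haveI : IsReduced (S ⊗[R] L) :=
    isReduced_of_injective (Algebra.TensorProduct.comm R S L).toAlgHom (AlgEquiv.injective _)
  haveI hfinT : Module.Finite S (integralClosure S (S ⊗[R] L)) :=
    NormFin.finite_integralClosure_of_essFiniteType S (S ⊗[R] L) hS
  haveI : IsNoetherian S (integralClosure S (S ⊗[R] L)) :=
    isNoetherian_of_isNoetherianRing_of_finite S _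
  let g : integralClosure (R ⧸ p) L →ₗ[R] L :=
    { toFun := Subtype.val
      map_add' := fun _ _ => rfl
      map_smul' := fun _ _ => rfl }
  have hg : Function.Injective g := Subtype.val_injective
  let F : S ⊗[R] integralClosure (R ⧸ p) L →ₗ[S] S ⊗[R] L :=
    TensorProduct.AlgebraTensorModule.lTensor S S g
  have hF : Function.Injective F := by
    intro a b hab
    exact Module.Flat.lTensor_preserves_injective_linearMap (M := S) g hg hab
  haveI : Algebra.IsIntegral R (R ⧸ p) :=
    Algebra.isIntegral_of_surjective Ideal.Quotient.mk_surjective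
  have hint : ∀ z, IsIntegral S (F z) := by
    intro z
    induction z using TensorProduct.induction_on with
    | zero => rw [map_zero]; exact isIntegral_zero
    | add x y hx hy => rw [map_add]; exact hx.add hy
    | tmul s x =>
      have h1 : IsIntegral R (x : L) := isIntegral_trans (x : L) x.2
      have h2 : IsIntegral R ((1 : S) ⊗ₜ[R] (x : L)) :=
        h1.map (Algebra.TensorProduct.includeRight : L →ₐ[R] S ⊗[R] L)
      have h3 : IsIntegral S ((1 : S) ⊗ₜ[R] (x : L)) := h2.tower_top
      have h4 : F (s ⊗ₜ x) = s • ((1 : S) ⊗ₜ[R] (x : L)) := by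
        rw [TensorProduct.smul_tmul', smul_eq_mul, mul_one]
        rfl
      rw [h4]
      exact h3.smul s
  haveI : Module.Finite S (S ⊗[R] integralClosure (R ⧸ p) L) := by
    let F' : S ⊗[R] integralClosure (R ⧸ p) L →ₗ[S] integralClosure S (S ⊗[R] L) :=
      LinearMap.codRestrict (Subalgebra.toSubmodule (integralClosure S (S ⊗[R] L))) F hint
    refine Module.Finite.of_injective F' ?_
    intro a b hab
    apply hF
    exact congrArg Subtype.val hab
  exact Module.Finite.of_finite_tensorProduct_of_faithfullyFlat S

end Groth.Agent.H8.Jap.SmoothDesc
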